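import Cfsg.Agent.Lib.FittingHeight.Weights
import Mathlib.GroupTheory.Nilpotent
import Mathlib.GroupTheory.Solvable
import Mathlib.RingTheory.IntegralDomain
import Mathlib.Algebra.CharP.Two

/-!
# Chains along a derived series

`P` a group of operators on a space, `W₀` an invariant subspace, `W_{i+1}` spanned by the
`(g - 1) w`, `g ∈ P^{(i)}`, `w ∈ W_i`. If `W_d = 0`, the `d-1`-st derived group fixes every weight
of a subgroup of coprime order normalised by `P`, and the chain passes to the weight space.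
-/

set_option autoImplicit false
set_option linter.unusedSectionVars false
set_option linter.style.haveILetI false

namespace Cfsg.Agent.TwoLengthDerived

open Subgroup
open FittingHeight (apply_mul weightSpace wStab twist twist_twist mapsTo_weightSpace mem_wStab_iff)
open scoped commutatorElement

section Derived

variable {G H : Type*} [Group G] [Group H]

/-- The derived series of a subgroup, inside the group. -/
def der (P : Subgroup G) : ℕ → Subgroup G
  | 0 => P
  | i + 1 => ⁅der P i, der P i⁆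

theorem der_zero (P : Subgroup G) : der P 0 = P := rfl

theorem der_succ (P : Subgroup G) (i : ℕ) : der P (i + 1) = ⁅der P i, der P i⁆ := rfl

theorem der_succ_le (P : Subgroup G) (i : ℕ) : der P (i + 1) ≤ der P i := by
  rw [der_succ, commutator_le]
  intro a ha b hb
  exact mul_mem (mul_mem (mul_mem ha hb) (inv_mem ha)) (inv_mem hb)

theorem der_antitone (P : Subgroup G) : Antitone (der P) := antitone_nat_of_succ_le (der_succ_le P)

theorem der_le (P : Subgroup G) (i : ℕ) : der P i ≤ P := der_antitone P (Nat.zero_le i)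

theorem der_mono {P Q : Subgroup G} (h : P ≤ Q) : ∀ i, der P i ≤ der Q i
  | 0 => h
  | i + 1 => commutator_mono (der_mono h i) (der_mono h i)

theorem der_der (P : Subgroup G) (j : ℕ) : ∀ i, der (der P j) i = der P (j + i)
  | 0 => rfl
  | i + 1 => by rw [der_succ, der_der P j i, ← add_assoc, der_succ]

theorem map_der (f : G →* H) (P : Subgroup G) : ∀ i, (der P i).map f = der (P.map f) i
  | 0 => rfl
  | i + 1 => by rw [der_succ, map_commutator, map_der f P i, der_succ]

theorem der_eq_map (P : Subgroup G) (i : ℕ) : der P i = (derivedSeries ↥P i).map P.subtype := by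
  induction i with
  | zero => rw [derivedSeries_zero, ← MonoidHom.range_eq_map, range_subtype]; rfl
  | succ i ih => rw [derivedSeries_succ, map_commutator, ← ih]; rfl

theorem commutator_mem_der {P : Subgroup G} {i : ℕ} {a b : G} (ha : a ∈ der P i) (hb : b ∈ der P i) :
    ⁅a, b⁆ ∈ der P (i + 1) := commutator_mem_commutator ha hb

theorem map_conj_eq {P : Subgroup G} {g : G} (hg : g ∈ normalizer (P : Set G)) :
    P.map (MulAut.conj g).toMonoidHom = P := by
  refine le_antisymm ?_ fun x hx => ⟨g⁻¹ * x * g, (mem_normalizer_iff''.1 hg x).1 hx, ?_⟩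
  · rintro _ ⟨x, hx, rfl⟩
    exact (mem_normalizer_iff.1 hg x).1 hx
  · show g * (g⁻¹ * x * g) * g⁻¹ = x
    group

theorem normalizer_le_normalizer_der (P : Subgroup G) (i : ℕ) :
    normalizer (P : Set G) ≤ normalizer (der P i : Set G) := by
  have key : ∀ g ∈ normalizer (P : Set G), ∀ x ∈ der P i, g * x * g⁻¹ ∈ der P i := fun g hg x hx => by
    have := mem_map_of_mem (MulAut.conj g).toMonoidHom hx
    rwa [map_der, map_conj_eq hg] at this
  intro g hg
  refine mem_normalizer_iff.2 fun x => ⟨key g hg x, fun hx => ?_⟩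
  have := key g⁻¹ (inv_mem hg) _ hx
  rwa [show g⁻¹ * (g * x * g⁻¹) * g⁻¹⁻¹ = x by group] at this

theorem conj_mem_der {P : Subgroup G} {g : G} (hg : g ∈ P) {i : ℕ} {x : G} (hx : x ∈ der P i) :
    g * x * g⁻¹ ∈ der P i :=
  (mem_normalizer_iff.1 (normalizer_le_normalizer_der P i (le_normalizer hg)) x).1 hx

/-- A subgroup covering the abelianisation of a nilpotent group is everything. -/
theorem eq_top_of_sup_commutator [Finite G] [Group.IsNilpotent G] {S : Subgroup G}
    (h : S ⊔ ⁅(⊤ : Subgroup G), ⊤⁆ = ⊤) : S = ⊤ := by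
  rcases eq_top_or_exists_le_coatom S with h1 | ⟨M, hM, hSM⟩
  · exact h1
  exfalso
  haveI hMn : M.Normal := NormalizerCondition.normal_of_coatom _
    Group.normalizerCondition_of_isNilpotent hM
  haveI : Nontrivial (G ⧸ M) := QuotientGroup.nontrivial_iff.2 hM.1
  have hlt := Group.IsSolvable.commutator_lt_top_of_nontrivial (G := G ⧸ M)
  set q := QuotientGroup.mk' M
  set D := (_root_.commutator (G ⧸ M)).comap q with hD
  have hMD : M ≤ D := fun x hx => by
    rw [hD, mem_comap, show q x = 1 from (QuotientGroup.eq_one_iff x).2 hx]; exact one_mem _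
  have hDM : D = M := by
    refine hMD.eq_or_lt.elim Eq.symm fun h' => absurd (hM.2 D h') ?_
    intro e
    refine hlt.ne ?_
    rw [← map_comap_eq_self_of_surjective (QuotientGroup.mk'_surjective M)
      (_root_.commutator (G ⧸ M)), ← hD, e, map_top_of_surjective _ (QuotientGroup.mk'_surjective M)]
  have hle : ⁅(⊤ : Subgroup G), ⊤⁆ ≤ M := by
    rw [← hDM, hD, ← map_le_iff_le_comap, map_commutator,
      map_top_of_surjective _ (QuotientGroup.mk'_surjective M), _root_.commutator_def]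
  exact hM.1 (top_le_iff.1 (h ▸ sup_le hSM hle))

end Derived

section Ops

variable {G R : Type*} [Group G] [Ring R] (f : G →* R)

/-- The products `(g_{i-1} - 1) ⋯ (g₀ - 1)`, `g_j ∈ P^{(j)}`. -/
def ops (P : Subgroup G) : ℕ → Set R
  | 0 => {1}
  | i + 1 => {T | ∃ g ∈ der P i, ∃ A ∈ ops P i, T = (f g - 1) * A}

theorem exists_ops_of_map {G' S : Type*} [Group G'] [Ring S] (g : G' →* S) (φ : R →+* S)
    (π : G →* G') (hcomp : ∀ x, g (π x) = φ (f x)) (P : Subgroup G) :
    ∀ (i : ℕ), ∀ T ∈ ops g (P.map π) i, ∃ A ∈ ops f P i, T = φ A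
  | 0, T, hT => ⟨1, rfl, by rw [map_one]; exact hT⟩
  | i + 1, T, hT => by
    obtain ⟨y, hy, B, hB, rfl⟩ := hT
    rw [← map_der] at hy
    obtain ⟨x, hx, rfl⟩ := hy
    obtain ⟨A, hA, rfl⟩ := exists_ops_of_map g φ π hcomp P i B hB
    exact ⟨_, ⟨x, hx, A, hA, rfl⟩, by rw [map_mul, map_sub, map_one, hcomp]⟩

end Ops

variable {M : Type*} [Group M] {k : Type*} [Field k] {E : Type*} [AddCommGroup E] [Module k E]
  (ρ : M →* Module.End k E)

/-- The spaces of the chain. -/
def Wsp (P : Subgroup M) (W₀ : Submodule k E) : ℕ → Submodule k E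
  | 0 => W₀
  | i + 1 => Submodule.span k {u | ∃ g ∈ der P i, ∃ w ∈ Wsp P W₀ i, (ρ g - 1) w = u}

/-- The chain vanishes after `d` steps. -/
def Chain (P : Subgroup M) (W₀ : Submodule k E) (d : ℕ) : Prop := Wsp ρ P W₀ d = ⊥

variable {ρ} {P : Subgroup M} {W₀ : Submodule k E}

theorem step_mem {i : ℕ} {g : M} (hg : g ∈ der P i) {w : E} (hw : w ∈ Wsp ρ P W₀ i) :
    (ρ g - 1) w ∈ Wsp ρ P W₀ (i + 1) := Submodule.subset_span ⟨g, hg, w, hw, rfl⟩

theorem Wsp_mono {P' : Subgroup M} (hP : P ≤ P') {W₁ : Submodule k E} (hW : W₀ ≤ W₁) :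
    ∀ i, Wsp ρ P W₀ i ≤ Wsp ρ P' W₁ i
  | 0 => hW
  | i + 1 => Submodule.span_le.2 (by
    rintro _ ⟨g, hg, w, hw, rfl⟩
    exact step_mem (der_mono hP i hg) (Wsp_mono hP hW i hw))

theorem Chain.mono {P' : Subgroup M} (hP : P ≤ P') {W₁ : Submodule k E} (hW : W₀ ≤ W₁) {d : ℕ}
    (h : Chain ρ P' W₁ d) : Chain ρ P W₀ d := eq_bot_iff.2 ((Wsp_mono hP hW d).trans h.le)

theorem chain_of_ops {d : ℕ} (h : ∀ A ∈ ops ρ P d, ∀ w ∈ W₀, A w = 0) : Chain ρ P W₀ d := by
  have key : ∀ i, Wsp ρ P W₀ i ≤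
      Submodule.span k {u | ∃ A ∈ ops ρ P i, ∃ w ∈ W₀, A w = u} := by
    intro i
    induction i with
    | zero => exact fun w hw => Submodule.subset_span ⟨1, rfl, w, hw, Module.End.one_apply w⟩
    | succ i ih =>
      refine Submodule.span_le.2 ?_
      rintro _ ⟨g, hg, w, hw, rfl⟩
      have : Submodule.map (ρ g - 1) (Submodule.span k {u | ∃ A ∈ ops ρ P i, ∃ w ∈ W₀, A w = u}) ≤
          Submodule.span k {u | ∃ A ∈ ops ρ P (i + 1), ∃ w ∈ W₀, A w = u} := by
        rw [Submodule.map_span]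
        refine Submodule.span_mono ?_
        rintro _ ⟨_, ⟨A, hA, v, hv, rfl⟩, rfl⟩
        exact ⟨_, ⟨g, hg, A, hA, rfl⟩, v, hv, Module.End.mul_apply ..⟩
      exact this (Submodule.mem_map_of_mem (ih hw))
  refine eq_bot_iff.2 ((key d).trans (Submodule.span_le.2 ?_))
  rintro _ ⟨A, hA, w, hw, rfl⟩
  exact (Submodule.mem_bot k).2 (h A hA w hw)

theorem sub_one_mul (a b : M) : ρ (a * b) - 1 = (ρ a - 1) * ρ b + (ρ b - 1) := by
  rw [map_mul, sub_mul, one_mul]; abel

theorem sub_one_commutator (a b : M) : ρ ⁅a, b⁆ - 1 =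
    ((ρ a - 1) * (ρ b - 1) - (ρ b - 1) * (ρ a - 1)) * ρ (a⁻¹ * b⁻¹) := by
  have e : (ρ a - 1) * (ρ b - 1) - (ρ b - 1) * (ρ a - 1) = ρ a * ρ b - ρ b * ρ a := by noncomm_ring
  rw [e, sub_mul, ← map_mul, ← map_mul, ← map_mul, ← map_mul, commutatorElement_def,
    show b * a * (a⁻¹ * b⁻¹) = 1 by group, map_one, mul_assoc (a * b), mul_assoc]

variable (hW : ∀ g ∈ P, ∀ w ∈ W₀, ρ g w ∈ W₀)
include hW

theorem apply_mem_Wsp : ∀ (i : ℕ), ∀ g ∈ P, ∀ w ∈ Wsp ρ P W₀ i, ρ g w ∈ Wsp ρ P W₀ i
  | 0 => hW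
  | i + 1 => fun g hg => by
    suffices Wsp ρ P W₀ (i + 1) ≤ Submodule.comap (ρ g) (Wsp ρ P W₀ (i + 1)) from fun w hw => this hw
    refine Submodule.span_le.2 ?_
    rintro _ ⟨h, hh, v, hv, rfl⟩
    show ρ g ((ρ h - 1) v) ∈ Wsp ρ P W₀ (i + 1)
    have e : ρ g ((ρ h - 1) v) = (ρ (g * h * g⁻¹) - 1) (ρ g v) := by
      rw [LinearMap.sub_apply, LinearMap.sub_apply, map_sub, Module.End.one_apply,
        Module.End.one_apply, ← apply_mul, ← apply_mul, inv_mul_cancel_right]
    rw [e]
    exact step_mem (conj_mem_der hg hh) (apply_mem_Wsp i g hg v hv)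

theorem sub_one_mem_Wsp : ∀ (i : ℕ), ∀ y ∈ der P i, ∀ w ∈ W₀, (ρ y - 1) w ∈ Wsp ρ P W₀ i
  | 0 => fun y hy w hw => by
    rw [LinearMap.sub_apply, Module.End.one_apply]
    exact sub_mem (hW y hy w hw) hw
  | i + 1 => by
    let S : Subgroup M :=
      { carrier := {y | y ∈ P ∧ ∀ w ∈ W₀, (ρ y - 1) w ∈ Wsp ρ P W₀ (i + 1)}
        one_mem' := ⟨one_mem P, fun w _ => by
          rw [map_one, sub_self, LinearMap.zero_apply]; exact zero_mem _⟩
        mul_mem' := fun {a b} ha hb => ⟨mul_mem ha.1 hb.1, fun w hw => by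
          rw [sub_one_mul, LinearMap.add_apply, Module.End.mul_apply]
          exact add_mem (ha.2 _ (hW b hb.1 w hw)) (hb.2 w hw)⟩
        inv_mem' := fun {a} ha => ⟨inv_mem ha.1, fun w hw => by
          have e : (ρ a⁻¹ - 1) w = -((ρ a - 1) (ρ a⁻¹ w)) := by
            rw [LinearMap.sub_apply, LinearMap.sub_apply, Module.End.one_apply,
              Module.End.one_apply, ← apply_mul, mul_inv_cancel, map_one, Module.End.one_apply,
              neg_sub]
          rw [e]
          exact neg_mem (ha.2 _ (hW _ (inv_mem ha.1) w hw))⟩ }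
    suffices hle : der P (i + 1) ≤ S from fun y hy => (hle hy).2
    rw [der_succ, commutator_le]
    intro a ha b hb
    refine ⟨der_le P (i + 1) (commutator_mem_der ha hb), fun w hw => ?_⟩
    have hw' := hW _ (mul_mem (inv_mem (der_le P i ha)) (inv_mem (der_le P i hb))) w hw
    rw [sub_one_commutator, Module.End.mul_apply, LinearMap.sub_apply, Module.End.mul_apply,
      Module.End.mul_apply]
    exact sub_mem (step_mem ha (sub_one_mem_Wsp i b hb _ hw'))
      (step_mem hb (sub_one_mem_Wsp i a ha _ hw'))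

variable {d : ℕ} (hc : Chain ρ P W₀ d)
include hc

theorem Chain.fix {y : M} (hy : y ∈ der P d) {w : E} (hw : w ∈ W₀) : ρ y w = w := by
  have h := sub_one_mem_Wsp hW d y hy w hw
  rw [hc, Submodule.mem_bot, LinearMap.sub_apply, Module.End.one_apply, sub_eq_zero] at h
  exact h

theorem Chain.kill {j : ℕ} (hj : j + 1 = d) {z : M} (hz : z ∈ der P j) {w : E}
    (hw : w ∈ Wsp ρ P W₀ j) : (ρ z - 1) w = 0 := by
  subst hj
  have h := step_mem (ρ := ρ) (W₀ := W₀) hz hw
  rwa [hc, Submodule.mem_bot] at h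

theorem Chain.three {j : ℕ} (hj : j + 2 = d) {z : M} (hz : z ∈ der P (j + 1)) {y y' : M}
    (hy : y ∈ der P j) (hy' : y' ∈ der P j) {w : E} (hw : w ∈ W₀) :
    (ρ z - 1) ((ρ y - 1) ((ρ y' - 1) w)) = 0 :=
  hc.kill hW (j := j + 1) (by omega) hz (step_mem hy (sub_one_mem_Wsp hW j y' hy' w hw))

theorem Chain.sq [CharP k 2] {j : ℕ} (hj : j + 1 = d) {z : M} (hz : z ∈ der P j) {w : E}
    (hw : w ∈ W₀) : ρ z (ρ z w) = w := by
  have h := hc.kill hW hj hz (sub_one_mem_Wsp hW j z hz w hw)
  simp only [LinearMap.sub_apply, Module.End.one_apply, map_sub] at h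
  have h2 : ρ z (ρ z w) - w - (2 : k) • (ρ z w - w) = 0 := by
    rw [two_smul, ← h]; abel
  rwa [CharTwo.two_eq_zero, zero_smul, sub_zero, sub_eq_zero] at h2

omit hW hc

section Orbit

variable {L : Subgroup M} [Fintype L]

/-- The unnormalised projection on a weight. -/
noncomputable def eop (ρ : M →* Module.End k E) (χ : L →* k) : Module.End k E :=
  ∑ l : L, χ l⁻¹ • ρ (l : M)

theorem eop_apply_weight {χ : L →* k} {w : E} (hw : w ∈ weightSpace ρ L χ) :
    eop ρ χ w = (Fintype.card L : k) • w := by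
  have hw' : ∀ l : L, ρ (l : M) w = χ l • w := hw
  simp only [eop, LinearMap.sum_apply, LinearMap.smul_apply, hw', smul_smul, ← map_mul,
    inv_mul_cancel, map_one, one_smul, Finset.sum_const, Finset.card_univ, Nat.cast_smul_eq_nsmul]

theorem eop_apply_weight_ne {χ μ : L →* k} (hne : μ ≠ χ) {w : E} (hw : w ∈ weightSpace ρ L χ) :
    eop ρ μ w = 0 := by
  classical
  have hw' : ∀ l : L, ρ (l : M) w = χ l • w := hw
  simp only [eop, LinearMap.sum_apply, LinearMap.smul_apply, hw', smul_smul, ← Finset.sum_smul]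
  let φ : L →* k :=
    { toFun := fun l => μ l⁻¹ * χ l
      map_one' := by rw [inv_one, map_one, map_one, one_mul]
      map_mul' := fun a b => by rw [mul_inv_rev, map_mul, map_mul]; ring }
  have h := sum_hom_units φ
  rw [if_neg, Nat.cast_zero] at h
  · rw [show ∑ l : L, μ l⁻¹ * χ l = ∑ l : L, φ l from rfl, h, zero_smul]
  · intro e
    refine hne (MonoidHom.ext fun l => ?_)
    have h1 : μ l⁻¹ * χ l = 1 := DFunLike.congr_fun e l
    calc μ l = μ l * (μ l⁻¹ * χ l) := by rw [h1, mul_one]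
      _ = χ l := by rw [← mul_assoc, ← map_mul, mul_inv_cancel, map_one, one_mul]

theorem apply_eop {g : M} (hg : g ∈ normalizer (L : Set M)) (μ : L →* k) (u : E) :
    ρ g (eop ρ μ u) = eop ρ (twist k L g hg μ) (ρ g u) := by
  let e : L ≃ L :=
    { toFun := fun l => ⟨g * l * g⁻¹, (mem_normalizer_iff.1 hg l).1 l.2⟩
      invFun := fun l => ⟨g⁻¹ * l * g, (mem_normalizer_iff''.1 hg l).1 l.2⟩
      left_inv := fun l => Subtype.ext (show g⁻¹ * (g * (l : M) * g⁻¹) * g = l by group)
      right_inv := fun l => Subtype.ext (show g * (g⁻¹ * (l : M) * g) * g⁻¹ = l by group) }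
  rw [eop, eop, LinearMap.sum_apply, LinearMap.sum_apply, map_sum]
  conv_rhs => rw [← e.sum_comp]
  refine Finset.sum_congr rfl fun l _ => ?_
  rw [LinearMap.smul_apply, LinearMap.smul_apply, map_smul, ← apply_mul, ← apply_mul,
    FittingHeight.twist_apply]
  congr 1
  · congr 1
    refine Subtype.ext ?_
    show (l : M)⁻¹ = g⁻¹ * (g * (l : M) * g⁻¹)⁻¹ * g
    group
  · show ρ (g * l) u = ρ (g * l * g⁻¹ * g) u
    rw [inv_mul_cancel_right]

/-- The chain on a weight space. -/
theorem orbit [Finite M] (hP : Group.IsNilpotent P) (hPL : P ≤ normalizer (L : Set M))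
    (hL : (Fintype.card L : k) ≠ 0) (hW : ∀ g ∈ P, ∀ w ∈ W₀, ρ g w ∈ W₀) {d : ℕ}
    (hc : Chain ρ P W₀ d) {χ : L →* k} {v : E} (hv0 : v ≠ 0) (hvW : v ∈ W₀)
    (hv : v ∈ weightSpace ρ L χ) :
    ∃ j < d, der P j ≤ wStab k L χ ∧
      Chain ρ (der P j) (W₀ ⊓ weightSpace ρ L χ) (d - j) := by
  classical
  have hex : ∃ j, der P j ≤ wStab k L χ := by
    refine ⟨d, fun y hy => ?_⟩
    have hN := hPL (der_le P d hy)
    refine (mem_wStab_iff hN).2 (MonoidHom.ext fun l => ?_)
    have h1 := mapsTo_weightSpace ρ hN hv l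
    rw [hc.fix hW hy hvW, hv l] at h1
    exact smul_left_injective k hv0 h1.symm
  set j := Nat.find hex with hjdef
  have hst := Nat.find_spec hex
  have hjd : j ≤ d := Nat.find_min' hex fun y hy => by
    have hN := hPL (der_le P d hy)
    refine (mem_wStab_iff hN).2 (MonoidHom.ext fun l => ?_)
    have h1 := mapsTo_weightSpace ρ hN hv l
    rw [hc.fix hW hy hvW, hv l] at h1
    exact smul_left_injective k hv0 h1.symm
  -- an element concentrated on `χ`
  have key : ∀ i ≤ j, ∀ w ∈ W₀ ⊓ weightSpace ρ L χ, ∃ u ∈ Wsp ρ P W₀ i,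
      eop ρ χ u = (Fintype.card L : k) • w ∧
      ∀ g (hg : g ∈ normalizer (L : Set M)), g ∈ der P i → g ∉ wStab k L χ →
        eop ρ (twist k L g hg χ) u = 0 := by
    intro i
    induction i with
    | zero =>
      exact fun _ w hw => ⟨w, hw.1, eop_apply_weight hw.2, fun g hg _ hgs =>
        eop_apply_weight_ne (fun e => hgs ((mem_wStab_iff hg).2 e)) hw.2⟩
    | succ i ih =>
      intro hi w hw
      obtain ⟨u, hu, hu1, hu2⟩ := ih (by omega) w hw
      obtain ⟨g, hgi, hg⟩ : ∃ g ∈ der P i, ∀ h ∈ der P (i + 1), h⁻¹ * g ∉ wStab k L χ := by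
        by_contra hcon
        push Not at hcon
        refine Nat.find_min hex (show i < j by omega) ?_
        haveI := hP
        haveI : Group.IsNilpotent (der P i) :=
          nilpotent_of_mulEquiv (Subgroup.subgroupOfEquivOfLe (der_le P i))
        have htop := eq_top_of_sup_commutator (G := der P i)
          (S := (wStab k L χ).subgroupOf (der P i)) (eq_top_iff.2 fun x _ => ?_)
        · exact subgroupOf_eq_top.1 htop
        obtain ⟨h, hh, hhx⟩ := hcon x x.2
        have hh' : (⟨h, der_succ_le P i hh⟩ : der P i) ∈ ⁅(⊤ : Subgroup (der P i)), (⊤ : Subgroup (der P i))⁆ := by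
          rw [← mem_map_iff_mem (subtype_injective (der P i)), map_commutator,
            ← MonoidHom.range_eq_map, range_subtype]
          exact hh
        have hmem := mul_mem (mem_sup_right (S := (wStab k L χ).subgroupOf (der P i)) hh')
          (mem_sup_left (show (⟨h, der_succ_le P i hh⟩ : der P i)⁻¹ * x ∈
            (wStab k L χ).subgroupOf (der P i) from hhx))
        rwa [mul_inv_cancel_left] at hmem
      have hgN := hPL (der_le P i hgi)
      have hgs : g⁻¹ ∉ wStab k L χ := fun h => by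
        have := hg 1 (one_mem _)
        rw [inv_one, one_mul] at this
        exact this (by simpa using inv_mem h)
      refine ⟨-((ρ g - 1) u), neg_mem (step_mem hgi hu), ?_, fun h hhN hh hhs => ?_⟩
      · have e := apply_eop (ρ := ρ) hgN (twist k L g⁻¹ (inv_mem hgN) χ) u
        rw [twist_twist, FittingHeight.twist_congr _ (one_mem _) (mul_inv_cancel g),
          FittingHeight.twist_one, hu2 _ _ (inv_mem hgi) hgs, map_zero] at e
        rw [map_neg, LinearMap.sub_apply, Module.End.one_apply, map_sub, ← e, zero_sub, neg_neg, hu1]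
      · have hgh : g⁻¹ * h ∉ wStab k L χ := fun hm => hg h hh (by
          have := inv_mem hm
          rwa [mul_inv_rev, inv_inv] at this)
        have e := apply_eop (ρ := ρ) hgN (twist k L (g⁻¹ * h) (mul_mem (inv_mem hgN) hhN) χ) u
        rw [twist_twist, FittingHeight.twist_congr _ hhN (mul_inv_cancel_left g h),
          hu2 _ _ (mul_mem (inv_mem hgi) (der_succ_le P i hh)) hgh, map_zero] at e
        rw [map_neg, LinearMap.sub_apply, Module.End.one_apply, map_sub, ← e,
          hu2 h hhN (der_succ_le P i hh) hhs, sub_zero, neg_zero]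
  have hlt : j < d := by
    refine lt_of_le_of_ne hjd fun e => ?_
    obtain ⟨u, hu, hu1, -⟩ := key j le_rfl v ⟨hvW, hv⟩
    rw [e, hc, Submodule.mem_bot] at hu
    rw [hu, map_zero, eq_comm, smul_eq_zero] at hu1
    exact hu1.elim hL hv0
  refine ⟨j, hlt, hst, ?_⟩
  -- the chain
  have hmain : ∀ i, Wsp ρ (der P j) (W₀ ⊓ weightSpace ρ L χ) i ≤
      (Wsp ρ P W₀ (j + i)).map (eop ρ χ) := by
    intro i
    induction i with
    | zero =>
      intro w hw
      obtain ⟨u, hu, hu1, -⟩ := key j le_rfl w hw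
      refine ⟨(Fintype.card L : k)⁻¹ • u, Submodule.smul_mem _ _ hu, ?_⟩
      rw [map_smul, hu1, smul_smul, inv_mul_cancel₀ hL, one_smul]
    | succ i ih =>
      refine Submodule.span_le.2 ?_
      rintro _ ⟨h, hh, w, hw, rfl⟩
      rw [der_der] at hh
      obtain ⟨u, hu, rfl⟩ := ih hw
      obtain ⟨hN, hfix⟩ := hst (der_antitone P (Nat.le_add_right j i) hh)
      have e := apply_eop (ρ := ρ) hN χ u
      rw [hfix] at e
      refine ⟨(ρ h - 1) u, step_mem hh hu, ?_⟩
      rw [LinearMap.sub_apply, LinearMap.sub_apply, Module.End.one_apply, Module.End.one_apply,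
        map_sub, e]
  refine eq_bot_iff.2 ((hmain (d - j)).trans ?_)
  rw [Nat.add_sub_cancel' hlt.le, hc, Submodule.map_bot]

end Orbit

end Cfsg.Agent.TwoLengthDerived
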