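import Cfsg.Agent.Lib.GrossTwoLength.Basic
import Mathlib.Algebra.CharP.Two
import Mathlib.Data.Fintype.BigOperators

/-!
# Averaging in a twisted group algebra

`π` a representation of a group `Q`, scalar modulo the kernel of the class map onto a symplectic
space `V`, intertwined by a 2-group `H` of operators, in characteristic two. For a four term
relation `(π x + π x⁻¹ + π y + π y⁻¹) T = 0` the two hyperplanes of `y - x` and `y + x` cover.
-/

set_option autoImplicit false
set_option linter.unusedSectionVars false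
set_option linter.style.haveILetI false

namespace Cfsg.Agent.TwoLengthDerived

open FittingHeight (Plane.Iso)

variable {q : ℕ} [Fact q.Prime] {K W Q H V : Type*} [Field K] [CharP K 2] [AddCommGroup W]
  [Module K W] [Nontrivial W] [Group Q] [Finite Q] [Group H] [Finite H] [AddCommGroup V]
  [Module (ZMod q) V] [Finite V]

/-- The value of a form with multiplicative values. -/
def ev (β : V →+ V →+ Additive Kˣ) (x y : V) : K := ((β x y).toMul : Kˣ)

/-- The data. -/
structure Twist (q : ℕ) [Fact q.Prime] (K W Q H V : Type*) [Field K] [AddCommGroup W] [Module K W]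
    [Group Q] [Group H] [AddCommGroup V] [Module (ZMod q) V] where
  /-- the representation -/
  π : Q →* Module.End K W
  /-- the operators -/
  S : H →* Module.End K W
  /-- their action on the group -/
  φ : H →* MulAut Q
  /-- their action on the space -/
  act : H →* (Module.End (ZMod q) V)ˣ
  /-- the classes -/
  cls : Q → V
  cls_mul : ∀ a b, cls (a * b) = cls a + cls b
  cls_surj : Function.Surjective cls
  /-- the form -/
  β : V →+ V →+ Additive Kˣ
  alt : ∀ x, β x x = 0
  nd : ∀ x, (∀ v, β v x = 0) → x = 0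
  conj : ∀ g h, π g * π h = ev β (cls g) (cls h) • (π h * π g)
  ker : ∀ g, cls g = 0 → ∃ c : K, π g = c • 1
  twist : ∀ h g, S h * π g = π (φ h g) * S h
  act_cls : ∀ h g, act h • cls g = cls (φ h g)
  cen : ∀ a b : Q, a * b * a⁻¹ * b⁻¹ ∈ Subgroup.center Q
  ne_two : q ≠ 2
  qQ : IsPGroup q Q
  twoH : IsPGroup 2 H

theorem eq_one_of_pow_two {c : K} {n : ℕ} (h : c ^ 2 ^ n = 1) : c = 1 := by
  have : (c - 1) ^ 2 ^ n = 0 := by rw [sub_pow_char_pow, h, one_pow, sub_self]
  exact sub_eq_zero.1 (pow_eq_zero_iff (pow_ne_zero _ two_ne_zero) |>.1 this)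

theorem smul_one_inj' {a b : K} (h : a • (1 : Module.End K W) = b • 1) : a = b :=
  smul_left_injective K (one_ne_zero (α := Module.End K W)) h

namespace Twist

variable (D : Twist q K W Q H V)

/-- The value of the form. -/
def e (x y : V) : K := ev D.β x y

theorem e_add_left (x x' y : V) : D.e (x + x') y = D.e x y * D.e x' y := by
  rw [e, e, e, ev, ev, ev, map_add, AddMonoidHom.add_apply, toMul_add, Units.val_mul]

theorem e_add_right (x y y' : V) : D.e x (y + y') = D.e x y * D.e x y' := by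
  rw [e, e, e, ev, ev, ev, map_add, toMul_add, Units.val_mul]

theorem e_eq_one {x y : V} : D.e x y = 1 ↔ D.β x y = 0 := by
  rw [e, ev, Units.val_eq_one, toMul_eq_one]

theorem e_zero_left (y : V) : D.e 0 y = 1 := D.e_eq_one.2 (by simp)

theorem e_zero_right (x : V) : D.e x 0 = 1 := D.e_eq_one.2 (map_zero _)

theorem e_ne_zero (x y : V) : D.e x y ≠ 0 := Units.ne_zero _

theorem e_neg_left (x y : V) : D.e (-x) y = (D.e x y)⁻¹ :=
  eq_inv_of_mul_eq_one_left (by rw [← D.e_add_left, neg_add_cancel, D.e_zero_left])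

theorem e_neg_right (x y : V) : D.e x (-y) = (D.e x y)⁻¹ :=
  eq_inv_of_mul_eq_one_left (by rw [← D.e_add_right, neg_add_cancel, D.e_zero_right])

theorem e_swap (x y : V) : D.e y x = (D.e x y)⁻¹ := by
  refine eq_inv_of_mul_eq_one_left ?_
  have h := D.e_eq_one.2 (D.alt (x + y))
  rw [D.e_add_left, D.e_add_right, D.e_add_right, D.e_eq_one.2 (D.alt x), D.e_eq_one.2 (D.alt y),
    one_mul, mul_one] at h
  rw [mul_comm]; exact h

theorem exists_e_ne {x : V} (hx : x ≠ 0) : ∃ v, D.e v x ≠ 1 := by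
  by_contra hcon
  push Not at hcon
  exact hx (D.nd x fun v => D.e_eq_one.1 (hcon v))

include D in
theorem noTwo : ∀ c : Additive Kˣ, c + c = 0 → c = 0 := fun c h => by
  have h' : ((c.toMul : Kˣ) : K) ^ 2 ^ 1 = 1 := by
    rw [pow_one, pow_two, ← Units.val_mul, ← toMul_add, h]; rfl
  exact toMul_eq_one.1 (Units.ext (eq_one_of_pow_two h'))

theorem cls_one : D.cls 1 = 0 := by
  have := D.cls_mul 1 1
  rw [one_mul, left_eq_add] at this
  exact this

theorem cls_inv (g : Q) : D.cls g⁻¹ = -D.cls g :=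
  eq_neg_of_add_eq_zero_left (by rw [← D.cls_mul, inv_mul_cancel, D.cls_one])

theorem cls_pow (g : Q) : ∀ n : ℕ, D.cls (g ^ n) = n • D.cls g
  | 0 => by rw [pow_zero, zero_smul, D.cls_one]
  | n + 1 => by rw [pow_succ, D.cls_mul, cls_pow g n, succ_nsmul]

theorem pi_mul_inv (g : Q) : D.π g * D.π g⁻¹ = 1 := by rw [← map_mul, mul_inv_cancel, map_one]

theorem pi_inv_mul (g : Q) : D.π g⁻¹ * D.π g = 1 := by rw [← map_mul, inv_mul_cancel, map_one]

theorem S_mul_inv (h : H) : D.S h * D.S h⁻¹ = 1 := by rw [← map_mul, mul_inv_cancel, map_one]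

theorem S_inv_mul (h : H) : D.S h⁻¹ * D.S h = 1 := by rw [← map_mul, inv_mul_cancel, map_one]

theorem cancel_S {A B : Module.End K W} {h : H} (e : A * D.S h = B * D.S h) : A = B := by
  rw [← mul_one A, ← D.S_mul_inv h, ← mul_assoc, e, mul_assoc, D.S_mul_inv, mul_one]

theorem cancel_pi {A B : Module.End K W} {g : Q} (e : A * D.π g = B * D.π g) : A = B := by
  rw [← mul_one A, ← D.pi_mul_inv g, ← mul_assoc, e, mul_assoc, D.pi_mul_inv, mul_one]

theorem conj_eq (g h : Q) : D.π g * D.π h * D.π g⁻¹ = D.e (D.cls g) (D.cls h) • D.π h := by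
  rw [D.conj, smul_mul_assoc, mul_assoc, D.pi_mul_inv, mul_one]
  rfl

/-- `π (φ h g)` depends only on `π g` and `S h`. -/
theorem pi_phi_congr {h h' : H} {g g' : Q} (hS : D.S h = D.S h') (hg : D.π g = D.π g') :
    D.π (D.φ h g) = D.π (D.φ h' g') := by
  refine D.cancel_S (h := h) ?_
  rw [← D.twist, hg, hS, D.twist]

theorem eq_of_pi_eq {g g' : Q} (h : D.π g = D.π g') : D.cls g = D.cls g' := by
  refine sub_eq_zero.1 (by
    by_contra hne
    obtain ⟨v, hv⟩ := D.exists_e_ne hne
    obtain ⟨a, rfl⟩ := D.cls_surj v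
    refine hv ?_
    have h1 := D.conj_eq a g
    rw [h, D.conj_eq a g'] at h1
    have h2 : D.e (D.cls a) (D.cls g') = D.e (D.cls a) (D.cls g) :=
      smul_one_inj' (W := W) (by
        have := congrArg (· * D.π g'⁻¹) h1
        simpa only [smul_mul_assoc, D.pi_mul_inv] using this)
    rw [sub_eq_add_neg, D.e_add_right, D.e_neg_right, ← h2, mul_inv_cancel₀ (D.e_ne_zero _ _)])

theorem act_iso (h : H) : Plane.Iso D.β (D.act h) := by
  intro x y
  obtain ⟨a, rfl⟩ := D.cls_surj x
  obtain ⟨b, rfl⟩ := D.cls_surj y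
  show D.β (D.act h • D.cls a) (D.act h • D.cls b) = _
  rw [D.act_cls, D.act_cls]
  refine Additive.toMul.injective (Units.ext ?_)
  show D.e (D.cls (D.φ h a)) (D.cls (D.φ h b)) = D.e (D.cls a) (D.cls b)
  have h1 := congrArg (D.S h * ·) (D.conj a b)
  simp only [mul_smul_comm] at h1
  rw [← mul_assoc, D.twist, mul_assoc, D.twist, ← mul_assoc, ← mul_assoc, D.twist,
    mul_assoc (D.π (D.φ h b)) (D.S h), D.twist, ← mul_assoc, ← smul_mul_assoc] at h1
  have h2 := D.cancel_S h1
  rw [D.conj (D.φ h a)] at h2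
  refine smul_one_inj' (W := W) ?_
  have h3 := congrArg (· * (D.π (D.φ h a)⁻¹ * D.π (D.φ h b)⁻¹)) h2
  simp only [smul_mul_assoc] at h3
  rwa [mul_assoc, ← mul_assoc (D.π (D.φ h a)), D.pi_mul_inv, one_mul, D.pi_mul_inv] at h3

/-- An operator fixing a class commutes with its representative. -/
theorem pi_phi_of_fix {h : H} {g : Q} (hfix : D.act h • D.cls g = D.cls g) :
    D.π (D.φ h g) = D.π g := by
  obtain ⟨c, hc⟩ := D.ker (g⁻¹ * D.φ h g) (by
    rw [D.cls_mul, D.cls_inv, ← D.act_cls, hfix, neg_add_cancel])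
  have hcg : D.π (D.φ h g) = c • D.π g := by
    rw [← mul_inv_cancel_left g (D.φ h g), map_mul, hc, mul_smul_comm, mul_one]
  have key : ∀ m : ℕ, D.S (h ^ m) * D.π g = c ^ m • (D.π g * D.S (h ^ m)) := by
    intro m
    induction m with
    | zero => rw [pow_zero, pow_zero, map_one, one_mul, mul_one, one_smul]
    | succ m ih =>
      rw [pow_succ' h m, map_mul, mul_assoc, ih, mul_smul_comm, ← mul_assoc, D.twist, hcg,
        smul_mul_assoc, smul_mul_assoc, smul_smul, mul_assoc, ← pow_succ]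
  obtain ⟨n, hn⟩ := D.twoH h
  have h1 := key (2 ^ n)
  rw [hn, map_one, one_mul, mul_one] at h1
  have h2 : c ^ 2 ^ n = 1 := smul_one_inj' (W := W) (by
    have := congrArg (· * D.π g⁻¹) h1.symm
    simpa only [smul_mul_assoc, D.pi_mul_inv, one_smul] using this)
  rw [hcg, eq_one_of_pow_two h2, one_smul]

theorem comm_of_fix {h : H} {g : Q} (hfix : D.act h • D.cls g = D.cls g) :
    Commute (D.π g) (D.S h) := by
  show D.π g * D.S h = D.S h * D.π g
  rw [D.twist, D.pi_phi_of_fix hfix]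

theorem act_eq_one {h : H} (hS : D.S h = 1) : D.act h = 1 := by
  refine Units.ext (LinearMap.ext fun v => ?_)
  obtain ⟨g, rfl⟩ := D.cls_surj v
  show D.act h • D.cls g = D.cls g
  rw [D.act_cls]
  refine D.eq_of_pi_eq ?_
  have := D.twist h g
  rw [hS, one_mul, mul_one] at this
  exact this.symm

/-- The operators trivial on the space are trivial. -/
def Faithful : Prop := ∀ h : H, D.act h = 1 → D.S h = 1

theorem S_congr (hF : D.Faithful) {h h' : H} (e : D.act h = D.act h') : D.S h = D.S h' := by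
  have := hF (h⁻¹ * h') (by rw [map_mul, map_inv, e, inv_mul_cancel])
  rw [map_mul] at this
  rw [← mul_one (D.S h), ← this, ← mul_assoc, D.S_mul_inv, one_mul]

theorem S_comm (hF : D.Faithful) {h h' : H} (e : Commute (D.act h) (D.act h')) :
    Commute (D.S h) (D.S h') := by
  show D.S h * D.S h' = D.S h' * D.S h
  rw [← map_mul, ← map_mul]
  exact D.S_congr hF (by rw [map_mul, map_mul]; exact e.eq)

theorem S_sq (hF : D.Faithful) {z : H} (hz : ∀ v : V, D.act z • v = -v) : D.S z * D.S z = 1 := by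
  rw [← map_mul]
  refine hF _ (Units.ext (LinearMap.ext fun v => ?_))
  show D.act (z * z) • v = v
  rw [map_mul, mul_smul, hz, hz, neg_neg]

section Average

variable [Fintype Q]

/-- The average with the character of `w`. -/
noncomputable def avg (w : V) (X : Module.End K W) : Module.End K W :=
  ∑ g : Q, (D.e (D.cls g) w)⁻¹ • (D.π g * X * D.π g⁻¹)

theorem avg_add (w : V) (X Y : Module.End K W) : D.avg w (X + Y) = D.avg w X + D.avg w Y := by
  simp only [avg, mul_add, add_mul, smul_add, Finset.sum_add_distrib]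

theorem avg_smul (w : V) (c : K) (X : Module.End K W) : D.avg w (c • X) = c • D.avg w X := by
  simp only [avg, mul_smul_comm, smul_mul_assoc, Finset.smul_sum]
  exact Finset.sum_congr rfl fun g _ => smul_comm _ _ _

theorem avg_sum {ι : Type*} (s : Finset ι) (w : V) (X : ι → Module.End K W) :
    D.avg w (∑ i ∈ s, X i) = ∑ i ∈ s, D.avg w (X i) := by
  simp only [avg, Finset.mul_sum, Finset.sum_mul, Finset.smul_sum]
  exact Finset.sum_comm

theorem avg_zero (w : V) : D.avg w 0 = 0 := by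
  simp only [avg, mul_zero, zero_mul, smul_zero, Finset.sum_const_zero]

/-- The shift. -/
theorem avg_mul_eq_zero {w : V} {g0 x : Q} {T : Module.End K W} (hc : Commute (D.π g0) T)
    (he : D.e (D.cls g0) (D.cls x - w) ≠ 1) : D.avg w (D.π x * T) = 0 := by
  have h1 : D.π g0 * (D.π x * T) * D.π g0⁻¹ = D.e (D.cls g0) (D.cls x) • (D.π x * T) := by
    rw [← mul_assoc, mul_assoc _ T, ← mul_one (D.π g0 * D.π x), ← D.pi_inv_mul g0,
      ← mul_assoc (D.π g0 * D.π x), D.conj_eq]
    rw [smul_mul_assoc, smul_mul_assoc]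
    congr 1
    rw [mul_assoc, ← mul_assoc (D.π g0), hc.eq, mul_assoc T, D.pi_mul_inv, mul_one]
  have key : D.avg w (D.π x * T) = D.e (D.cls g0) (D.cls x - w) • D.avg w (D.π x * T) := by
    rw [avg, Finset.smul_sum]
    refine (Equiv.sum_comp (Equiv.mulRight g0) _).symm.trans ?_
    refine Finset.sum_congr rfl fun g _ => ?_
    simp only [Equiv.coe_mulRight]
    rw [D.cls_mul, D.e_add_left, map_mul, mul_inv_rev g g0, map_mul,
      show D.π g * D.π g0 * (D.π x * T) * (D.π g0⁻¹ * D.π g⁻¹) =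
        D.π g * (D.π g0 * (D.π x * T) * D.π g0⁻¹) * D.π g⁻¹ by simp only [mul_assoc],
      h1, mul_smul_comm, smul_mul_assoc, smul_smul, smul_smul, sub_eq_add_neg, D.e_add_right,
      D.e_neg_right]
    congr 1
    ring
  by_contra hne
  have h2 : (D.e (D.cls g0) (D.cls x - w) - 1) • D.avg w (D.π x * T) = 0 := by
    rw [sub_smul, one_smul, ← key, sub_self]
  rcases smul_eq_zero.1 h2 with h | h
  · exact he (sub_eq_zero.1 h)
  · exact hne h

theorem avg_pi_eq_zero {w : V} {x : Q} (hne : D.cls x ≠ w) : D.avg w (D.π x) = 0 := by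
  obtain ⟨v, hv⟩ := D.exists_e_ne (sub_ne_zero.2 hne)
  obtain ⟨g0, rfl⟩ := D.cls_surj v
  rw [← mul_one (D.π x)]
  exact D.avg_mul_eq_zero (Commute.one_right _) hv

include D in
theorem card_ne_zero : (Fintype.card Q : K) ≠ 0 := by
  obtain ⟨a, ha⟩ := D.qQ.exists_card_eq
  rw [← Nat.card_eq_fintype_card, ha, Nat.cast_pow]
  refine pow_ne_zero _ ?_
  rw [Ne, CharP.cast_eq_zero_iff K 2]
  exact fun h => D.ne_two ((Nat.prime_dvd_prime_iff_eq Nat.prime_two (Fact.out : q.Prime)).1 h).symm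

/-- Independence at the class `0`. -/
theorem indep {z : H} (hz : ∀ v : V, D.act z • v = -v) {ι : Type*} (s : Finset ι) (x : ι → Q)
    (c : ι → K) (hinv : ∀ i ∈ s, D.π (D.φ z (x i)) = D.π (x i)⁻¹) {Y : Module.End K W} {w : V}
    (hY : D.avg (w + w) Y = 0) (h0 : (∑ i ∈ s, c i • D.π (x i)) * D.S z + Y = 0) :
    ∑ i ∈ s, c i * D.e (D.cls (x i)) w = 0 := by
  classical
  obtain ⟨n, hn⟩ : ∃ n, Fintype.card Q = 2 * n + 1 := by
    refine Nat.not_even_iff_odd.1 fun ⟨m, hm⟩ => D.card_ne_zero ?_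
    rw [CharP.cast_eq_zero_iff K 2, hm]
    exact ⟨m, by omega⟩
  -- the average
  have h1 : ∑ i ∈ s, c i • ∑ g : Q, (D.e (D.cls g) (w + w))⁻¹ • D.π (g * x i * D.φ z g⁻¹) = 0 := by
    refine D.cancel_S (h := z) ?_
    rw [zero_mul]
    have h := congrArg (D.avg (w + w)) h0
    rw [D.avg_add, hY, add_zero, D.avg_zero, Finset.sum_mul, D.avg_sum] at h
    rw [← h, Finset.sum_mul]
    refine Finset.sum_congr rfl fun i _ => ?_
    rw [smul_mul_assoc, smul_mul_assoc, D.avg_smul, avg, Finset.sum_mul]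
    congr 1
    refine Finset.sum_congr rfl fun g _ => ?_
    rw [smul_mul_assoc]
    congr 1
    rw [mul_assoc (D.π g), mul_assoc (D.π (x i)), D.twist, ← mul_assoc, ← mul_assoc, ← map_mul,
      ← map_mul]
  have hterm : ∀ i ∈ s, ∀ g : Q, D.avg 0 (D.π (g * x i * D.φ z g⁻¹)) =
      if D.cls g = D.cls (x i ^ n) then (Fintype.card Q : K) • 1 else 0 := by
    intro i hi g
    have hcl : D.cls (g * x i * D.φ z g⁻¹) = D.cls g + D.cls g + D.cls (x i) := by
      rw [D.cls_mul, D.cls_mul, ← D.act_cls, D.cls_inv, hz, neg_neg]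
      abel
    have hx : (2 * n + 1) • D.cls (x i) = 0 := by
      rw [← hn, ← D.cls_pow, pow_card_eq_one, D.cls_one]
    split_ifs with hg
    · obtain ⟨r, rfl⟩ : ∃ r, g = x i ^ n * r := ⟨(x i ^ n)⁻¹ * g, (mul_inv_cancel_left _ _).symm⟩
      rw [D.cls_mul, add_eq_left] at hg
      obtain ⟨a, ha⟩ := D.ker r hg
      have hra : D.π (D.φ z r⁻¹) = D.π r⁻¹ := D.pi_phi_of_fix (by simp [hz, D.cls_inv, hg])
      have hxn : D.π (D.φ z (x i ^ n)⁻¹) = D.π (x i ^ n) := by
        have e1 : ∀ m : ℕ, D.π (D.φ z (x i ^ m)) = D.π ((x i)⁻¹ ^ m) := fun m => by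
          rw [map_pow, map_pow, map_pow, hinv i hi]
        have e2 : D.π (D.φ z (x i ^ n)) * D.π (x i ^ n) = 1 := by
          rw [e1, ← map_mul, inv_pow, inv_mul_cancel, map_one]
        calc D.π (D.φ z (x i ^ n)⁻¹) = D.π (D.φ z (x i ^ n))⁻¹ * 1 := by rw [map_inv, mul_one]
          _ = D.π (x i ^ n) := by rw [← e2, ← mul_assoc, D.pi_inv_mul, one_mul]
      have hy : D.π (x i ^ n * r * x i * D.φ z (x i ^ n * r)⁻¹) = 1 := by
        rw [mul_inv_rev, map_mul (D.φ z), map_mul, map_mul, map_mul, map_mul, hra, hxn, ha,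
          mul_smul_comm, mul_one, smul_mul_assoc, smul_mul_assoc]
        rw [show D.π (x i ^ n) * D.π (x i) * (D.π r⁻¹ * D.π (x i ^ n)) =
          D.π (x i ^ n) * D.π (x i) * D.π r⁻¹ * D.π (x i ^ n) by simp only [mul_assoc]]
        have hr1 : a • D.π r⁻¹ = 1 := by rw [← D.pi_mul_inv r, ha, smul_mul_assoc, one_mul]
        rw [← smul_mul_assoc, ← mul_smul_comm, hr1, mul_one, ← map_mul, ← map_mul, ← pow_succ,
          ← pow_add, show n + 1 + n = Fintype.card Q by omega, pow_card_eq_one, map_one]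
      rw [hy, avg]
      simp only [D.e_zero_right, inv_one, one_smul, mul_one, D.pi_mul_inv, Finset.sum_const,
        Finset.card_univ, Nat.cast_smul_eq_nsmul]
    · refine D.avg_pi_eq_zero fun h => hg ?_
      rw [hcl] at h
      have e2 : (2 * (n + 1)) • D.cls g = D.cls g := by
        have hg0 : (2 * n + 1) • D.cls g = 0 := by rw [← hn, ← D.cls_pow, pow_card_eq_one, D.cls_one]
        rw [show 2 * (n + 1) = (2 * n + 1) + 1 by ring, succ_nsmul, hg0, zero_add]
      have e3 : D.cls g + D.cls g = -D.cls (x i) := eq_neg_of_add_eq_zero_left h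
      rw [D.cls_pow, ← e2, Nat.mul_comm, mul_smul, two_smul, e3, smul_neg, neg_eq_iff_add_eq_zero,
        ← add_smul, show n + 1 + n = 2 * n + 1 by ring, hx]
  have hcls : ∀ i, D.cls (x i ^ n) = n • D.cls (x i) := fun i => D.cls_pow _ _
  have hval : ∀ i, (D.e (D.cls (x i ^ n)) (w + w))⁻¹ = D.e (D.cls (x i)) w := fun i => by
    refine inv_eq_of_mul_eq_one_left ?_
    rw [D.e_add_right, ← D.e_add_left, ← D.e_add_left, hcls,
      show D.cls (x i) + (n • D.cls (x i) + n • D.cls (x i)) = (2 * n + 1) • D.cls (x i) by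
        rw [succ_nsmul', two_mul, add_smul],
      ← hn, ← D.cls_pow, pow_card_eq_one, D.cls_one, D.e_zero_left]
  have hcount : ∀ i, (Finset.univ.filter fun g => D.cls g = D.cls (x i ^ n)).card =
      (Finset.univ.filter fun g => D.cls g = 0).card := by
    intro i
    refine Finset.card_bij (fun g _ => (x i ^ n)⁻¹ * g) (fun g hg => ?_)
      (fun a _ b _ h => mul_left_cancel h) (fun r hr => ⟨x i ^ n * r, ?_, inv_mul_cancel_left _ _⟩)
    · simp only [Finset.mem_filter, Finset.mem_univ, true_and] at hg ⊢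
      rw [D.cls_mul, D.cls_inv, hg, neg_add_cancel]
    · simp only [Finset.mem_filter, Finset.mem_univ, true_and] at hr ⊢
      rw [D.cls_mul, hr, add_zero]
  set N := (Finset.univ.filter fun g : Q => D.cls g = 0).card with hN
  have hN0 : (N : K) ≠ 0 := by
    let R : Subgroup Q :=
      { carrier := {g | D.cls g = 0}
        one_mem' := D.cls_one
        mul_mem' := fun {a b} (ha : D.cls a = 0) (hb : D.cls b = 0) => show D.cls (a * b) = 0 by
          rw [D.cls_mul, ha, hb, add_zero]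
        inv_mem' := fun {a} (ha : D.cls a = 0) => show D.cls a⁻¹ = 0 by
          rw [D.cls_inv, ha, neg_zero] }
    have hR : N = Nat.card R := by
      rw [hN, Nat.card_eq_fintype_card, Fintype.card_subtype]
      exact congrArg Finset.card (Finset.filter_congr fun g _ => Iff.rfl)
    obtain ⟨m, hm⟩ := R.card_subgroup_dvd_card
    intro h
    refine D.card_ne_zero ?_
    rw [← Nat.card_eq_fintype_card, hm, Nat.cast_mul, ← hR, h, zero_mul]
  have h2 := congrArg (D.avg 0) h1
  rw [D.avg_zero, D.avg_sum] at h2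
  have h3 : ∀ i ∈ s, D.avg 0 (c i • ∑ g : Q, (D.e (D.cls g) (w + w))⁻¹ • D.π (g * x i * D.φ z g⁻¹)) =
      (c i * D.e (D.cls (x i)) w) • ((N : K) * (Fintype.card Q : K)) • 1 := by
    intro i hi
    rw [D.avg_smul, D.avg_sum]
    simp only [D.avg_smul, hterm i hi, smul_ite, smul_zero]
    rw [← Finset.sum_filter, Finset.sum_congr rfl (fun g hg => by
      rw [(Finset.mem_filter.1 hg).2, hval]), Finset.sum_const, hcount i,
      ← Nat.cast_smul_eq_nsmul K]
    simp only [smul_smul]
    congr 1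
    ring
  rw [Finset.sum_congr rfl h3, ← Finset.sum_smul, smul_smul] at h2
  refine (mul_eq_zero.1 (smul_one_inj' (W := W) (a := _) (b := 0) (h2.trans (zero_smul K _).symm)))
    |>.resolve_right (mul_ne_zero hN0 D.card_ne_zero)

/-- A lift inverted by an operator negating the class. -/
theorem exists_inverted {z : H} (hz2 : D.S z * D.S z = 1) {v : V} (hv : D.act z • v = -v) :
    ∃ x, D.cls x = v ∧ D.π (D.φ z x) = D.π x⁻¹ ∧ D.π (D.φ z x⁻¹) = D.π x := by
  have h2 : (2 : ZMod q) ≠ 0 := FittingHeight.Plane.two_ne_zero' D.ne_two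
  obtain ⟨y, hy⟩ := D.cls_surj (-((2 : ZMod q)⁻¹ • v))
  have hzz : D.π (D.φ z (D.φ z y)) = D.π y := by
    have h := D.twist (z * z) y
    rw [map_mul D.S, hz2, one_mul, mul_one] at h
    rw [h, map_mul, MulAut.mul_apply]
  refine ⟨y⁻¹ * D.φ z y, ?_, ?_, ?_⟩
  · rw [D.cls_mul, D.cls_inv, ← D.act_cls, hy, neg_neg]
    show (2 : ZMod q)⁻¹ • v + D.act z • (-((2 : ZMod q)⁻¹ • v)) = v
    rw [smul_neg, GrossTwoLength.smul_zmod, hv, smul_neg, neg_neg, ← two_smul (ZMod q),
      smul_smul, mul_inv_cancel₀ h2, one_smul]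
  · rw [map_mul, map_mul, hzz, mul_inv_rev, inv_inv, map_mul, map_inv (D.φ z)]
  · rw [mul_inv_rev, inv_inv, map_mul (D.φ z), map_mul, map_mul]
    congr 1
    have h1 : D.π (D.φ z (D.φ z y)⁻¹) * D.π y = 1 := by
      rw [← hzz, ← map_mul, map_inv, inv_mul_cancel, map_one]
    calc D.π (D.φ z (D.φ z y)⁻¹) = D.π (D.φ z (D.φ z y)⁻¹) * (D.π y * D.π y⁻¹) := by
          rw [D.pi_mul_inv, mul_one]
      _ = D.π y⁻¹ := by rw [← mul_assoc, h1, one_mul]

/-- A four term relation gives a covering by two hyperplanes. -/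
theorem four {z : H} (hz : ∀ v : V, D.act z • v = -v) {x y : Q}
    (hx : D.π (D.φ z x) = D.π x⁻¹ ∧ D.π (D.φ z x⁻¹) = D.π x)
    (hy : D.π (D.φ z y) = D.π y⁻¹ ∧ D.π (D.φ z y⁻¹) = D.π y) {Y : Module.End K W}
    (h0 : (D.π x + D.π x⁻¹ + (D.π y + D.π y⁻¹)) * (D.S z + Y) = 0) {w : V}
    (hY : D.avg (w + w) ((D.π x + D.π x⁻¹ + (D.π y + D.π y⁻¹)) * Y) = 0) :
    D.e (D.cls y - D.cls x) w = 1 ∨ D.e (D.cls y + D.cls x) w = 1 := by
  rw [mul_add] at h0
  have hfour := D.indep hz (Finset.univ : Finset (Fin 4)) ![x, x⁻¹, y, y⁻¹] (fun _ => 1)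
    (fun i _ => by
      fin_cases i
      · exact hx.1
      · simpa using hx.2
      · exact hy.1
      · simpa using hy.2) hY (by
      simp only [Fin.sum_univ_four, one_smul, Matrix.cons_val_zero, Matrix.cons_val_one,
        Matrix.cons_val]
      rw [add_assoc (D.π x + D.π x⁻¹)]
      exact h0)
  simp only [Fin.sum_univ_four, one_mul, D.cls_inv, D.e_neg_left, Matrix.cons_val_zero,
    Matrix.cons_val_one, Matrix.cons_val] at hfour
  set a := D.e (D.cls x) w with ha
  set b := D.e (D.cls y) w with hb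
  have ha0 : a ≠ 0 := D.e_ne_zero _ _
  have hb0 : b ≠ 0 := D.e_ne_zero _ _
  have h2 : (b - a) * (b * a - 1) = 0 := by
    have := congrArg (· * (a * b)) hfour
    rw [zero_mul] at this
    have e1 : (a + a⁻¹ + b + b⁻¹) * (a * b) = a * a * b + b + a * b * b + a := by
      field_simp
    rw [e1] at this
    have e2 : (b - a) * (b * a - 1) = a * a * b + b + a * b * b + a - (2 : K) * (a * a * b + b) := by
      ring
    rw [e2, this, CharTwo.two_eq_zero, zero_mul, sub_zero]
  rcases mul_eq_zero.1 h2 with h | h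
  · left
    rw [sub_eq_add_neg, D.e_add_left, D.e_neg_left, ← ha, ← hb, sub_eq_zero.1 h, mul_inv_cancel₀ ha0]
  · right
    rw [D.e_add_left, ← ha, ← hb, sub_eq_zero.1 h]

end Average

/-- Two hyperplanes and four points cover only a plane of order nine. -/
theorem cover {A : Submodule (ZMod q) V} (hA : ∀ x ∈ A, (∀ t ∈ A, D.β t x = 0) → x = 0) {u v : V}
    (hu : u ∈ A) (hv : v ∈ A)
    (h : ∀ w ∈ A, w + w ≠ u → w + w ≠ -u → w + w ≠ v → w + w ≠ -v →
      D.e (v - u) w = 1 ∨ D.e (v + u) w = 1) :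
    v = u ∨ v = -u ∨ (q = 3 ∧ Nat.card A = 9) := by
  classical
  by_cases huv : v = u
  · exact Or.inl huv
  by_cases huv' : v = -u
  · exact Or.inr (Or.inl huv')
  refine Or.inr (Or.inr ?_)
  have hq : 1 < q := (Fact.out : q.Prime).one_lt
  have h2 : (2 : ZMod q) ≠ 0 := FittingHeight.Plane.two_ne_zero' D.ne_two
  -- the kernels
  let ker : V → Submodule (ZMod q) V := fun a =>
    { carrier := {w | w ∈ A ∧ D.β a w = 0}
      zero_mem' := ⟨zero_mem A, map_zero _⟩
      add_mem' := fun {w w'} hw hw' => ⟨add_mem hw.1 hw'.1, by rw [map_add, hw.2, hw'.2, add_zero]⟩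
      smul_mem' := fun c w hw => ⟨A.smul_mem c hw.1, by
        rw [FittingHeight.Plane.map_smul_zmod, hw.2, smul_zero]⟩ }
  have hkerlt : ∀ a ∈ A, a ≠ 0 → Nat.card (ker a) * q ≤ Nat.card A := by
    intro a ha ha0
    have hlt : ker a < A := by
      refine lt_of_le_of_ne (fun w hw => hw.1) fun e => ha0 (hA a ha fun t ht => ?_)
      have : D.β a t = 0 := (e.ge ht : t ∈ ker a).2
      rw [FittingHeight.Plane.skew D.alt a t, this, neg_zero]
    have h' := Submodule.finrank_lt_finrank_of_lt hlt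
    rw [Module.natCard_eq_pow_finrank (K := ZMod q) (V := ker a),
      Module.natCard_eq_pow_finrank (K := ZMod q) (V := A), Nat.card_zmod, ← pow_succ]
    exact Nat.pow_le_pow_right hq.le h'
  have hsub : v - u ≠ 0 := sub_ne_zero.2 huv
  have hadd : v + u ≠ 0 := fun e => huv' (eq_neg_of_add_eq_zero_left e)
  have k1 := hkerlt _ (sub_mem hv hu) hsub
  have k2 := hkerlt _ (add_mem hv hu) hadd
  haveI := Fintype.ofFinite V
  let half : V → V := fun t => (2 : ZMod q)⁻¹ • t
  have hhalf : ∀ w t : V, w + w = t → w = half t := fun w t e => by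
    rw [← e, ← two_smul (ZMod q) w]
    exact (inv_smul_smul₀ h2 w).symm
  have hcard : ∀ S : Submodule (ZMod q) V,
      (Finset.univ.filter (· ∈ S)).card = Nat.card S := fun S => by
    rw [Nat.card_eq_fintype_card, ← Fintype.card_subtype]
  set E : Finset V := {half u, half (-u), half v, half (-v)} with hE
  have hcov : Finset.univ.filter (· ∈ A) ⊆
      (Finset.univ.filter (· ∈ ker (v - u)) ∪ Finset.univ.filter (· ∈ ker (v + u))) ∪ E := by
    intro w hw
    rw [Finset.mem_filter] at hw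
    by_cases hwE : w ∈ E
    · exact Finset.mem_union_right _ hwE
    refine Finset.mem_union_left _ ?_
    simp only [hE, Finset.mem_insert, Finset.mem_singleton, not_or] at hwE
    rcases h w hw.2 (fun e => hwE.1 (hhalf _ _ e)) (fun e => hwE.2.1 (hhalf _ _ e))
      (fun e => hwE.2.2.1 (hhalf _ _ e)) (fun e => hwE.2.2.2 (hhalf _ _ e)) with h1 | h1
    · exact Finset.mem_union_left _ (Finset.mem_filter.2 ⟨Finset.mem_univ _, hw.2, D.e_eq_one.1 h1⟩)
    · exact Finset.mem_union_right _ (Finset.mem_filter.2 ⟨Finset.mem_univ _, hw.2, D.e_eq_one.1 h1⟩)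
  have hle := Finset.card_le_card hcov
  have hunion := Finset.card_union_add_card_inter (Finset.univ.filter (· ∈ ker (v - u)))
    (Finset.univ.filter (· ∈ ker (v + u)))
  have hinter : 1 ≤ (Finset.univ.filter (· ∈ ker (v - u)) ∩
      Finset.univ.filter (· ∈ ker (v + u))).card :=
    Finset.card_pos.2 ⟨0, Finset.mem_inter.2 ⟨Finset.mem_filter.2 ⟨Finset.mem_univ _, zero_mem _⟩,
      Finset.mem_filter.2 ⟨Finset.mem_univ _, zero_mem _⟩⟩⟩
  have hE4 : E.card ≤ 4 := Finset.card_le_four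
  have hle' := hle.trans (Finset.card_union_le _ _)
  simp only [hcard] at hle' hunion
  -- `|A|` is at least `q ^ 2`
  obtain ⟨a, ha, ha0⟩ : ∃ a ∈ A, a ≠ 0 := ⟨v - u, sub_mem hv hu, hsub⟩
  have hA2 : q * q ≤ Nat.card A := by
    obtain ⟨t, ht, hta⟩ : ∃ t ∈ A, D.β t a ≠ 0 := by
      by_contra hcon
      push Not at hcon
      exact ha0 (hA a ha hcon)
    have hsa : ∀ (c : ZMod q) (s : V), D.β s (c • a) = c.val • D.β s a := fun c s =>
      FittingHeight.Plane.map_smul_zmod _ _ _
    have hm : a ∈ ker a := ⟨ha, D.alt a⟩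
    have hne : 1 < Nat.card (ker a) :=
      Finite.one_lt_card_iff_nontrivial.2 ⟨⟨⟨a, hm⟩, 0, fun e => ha0 (congrArg Subtype.val e)⟩⟩
    rw [Module.natCard_eq_pow_finrank (K := ZMod q) (V := ker a), Nat.card_zmod] at hne
    refine le_trans (Nat.mul_le_mul_right q ?_) (hkerlt a ha ha0)
    rw [Module.natCard_eq_pow_finrank (K := ZMod q) (V := ker a), Nat.card_zmod]
    exact Nat.le_self_pow (fun e => by rw [e, pow_zero] at hne; exact lt_irrefl _ hne) q
  set N := Nat.card A
  have hN : N ≤ Nat.card (ker (v - u)) + Nat.card (ker (v + u)) + 3 := by omega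
  have hmul : N * q ≤ 2 * N + 3 * q := by nlinarith
  have hq3 : q = 3 := by
    have h3 : 3 ≤ q := by
      have := D.ne_two
      omega
    by_contra hne
    nlinarith [show 4 ≤ q by omega]
  subst hq3
  exact ⟨rfl, by omega⟩

/-- An operator acting as a sign on every vector is a sign. -/
theorem sign_of_forall (h2 : q ≠ 2) {A : Submodule (ZMod q) V} {g : (Module.End (ZMod q) V)ˣ}
    (h : ∀ x ∈ A, g • x = x ∨ g • x = -x) : (∀ x ∈ A, g • x = x) ∨ ∀ x ∈ A, g • x = -x := by
  by_contra hcon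
  push Not at hcon
  obtain ⟨⟨x, hx, hx'⟩, ⟨y, hy, hy'⟩⟩ := hcon
  have ex := (h x hx).resolve_left hx'
  have ey := (h y hy).resolve_right hy'
  rcases h (x + y) (add_mem hx hy) with e | e
  · rw [smul_add, ex, ey, add_left_inj] at e
    have : x = 0 := GrossTwoLength.two_smul_inj h2 (by nth_rw 1 [← e]; rw [neg_add_cancel])
    exact hx' (by rw [this, smul_zero])
  · rw [smul_add, ex, ey, neg_add, add_right_inj] at e
    have : y = 0 := GrossTwoLength.two_smul_inj h2 (by nth_rw 1 [e]; rw [neg_add_cancel])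
    exact hy' (by rw [this, smul_zero, neg_zero])

end Twist

end Cfsg.Agent.TwoLengthDerived
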