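import Cfsg.Agent.Lib.GrossTwoLength.Count
import Cfsg.Agent.Lib.HallHigman.TheoremB
import Cfsg.Agent.Lib.HallHigman.Unipotent
import Cfsg.Agent.Lib.TwoLengthDerived.Twisted

/-!
# No element of order eight with a nilpotent seventh power

On a space of order `81` an element acting with fourth power `-1` has eleven orbits, too few for
`(S - 1) ^ 7 = 0`.
-/

set_option autoImplicit false
set_option linter.unusedSectionVars false
set_option linter.style.haveILetI false

namespace Cfsg.Agent.TwoLengthDerived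

open Subgroup
open scoped commutatorElement

variable {q : ℕ} [Fact q.Prime] {K W Q H V : Type*} [Field K] [CharP K 2] [AddCommGroup W]
  [Module K W] [Nontrivial W] [FiniteDimensional K W] [Group Q] [Finite Q] [Group H] [Finite H]
  [AddCommGroup V] [Module (ZMod q) V] [Finite V]

theorem Twist.no_eighth (D : Twist q K W Q H V) (hF : D.Faithful) {c : H}
    (hc4 : ∀ v : V, D.act (c ^ 4) • v = -v) (hnil : (D.S c - 1) ^ 7 = 0) (hV : Nat.card V = 81) :
    False := by
  classical
  haveI := Fintype.ofFinite Q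
  let clsHom : Q →* Multiplicative V :=
    { toFun := fun g => Multiplicative.ofAdd (D.cls g)
      map_one' := by rw [D.cls_one]; rfl
      map_mul' := fun a b => by rw [D.cls_mul]; rfl }
  set R := clsHom.ker with hR
  have hmemR : ∀ g, g ∈ R ↔ D.cls g = 0 := fun g => by
    rw [hR, MonoidHom.mem_ker]
    exact ofAdd_eq_one
  have hsurj : Function.Surjective clsHom := fun v => by
    obtain ⟨g, hg⟩ := D.cls_surj v.toAdd
    exact ⟨g, congrArg Multiplicative.ofAdd hg⟩
  have hidx : R.index = 81 := by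
    rw [hR, Subgroup.index_ker, MonoidHom.range_eq_top.2 hsurj, Subgroup.card_top, ← hV]
    exact Nat.card_congr Multiplicative.toAdd
  have hex : ∀ r : R, ∃ a : K, D.π (r : Q) = a • 1 := fun r => D.ker _ ((hmemR _).1 r.2)
  choose lamf hlamf using hex
  let lam : R →* K :=
    { toFun := lamf
      map_one' := smul_one_inj' (W := W) (by rw [← hlamf, OneMemClass.coe_one, map_one, one_smul])
      map_mul' := fun a b => smul_one_inj' (W := W) (by
        rw [← hlamf, Subgroup.coe_mul, map_mul, hlamf, hlamf, smul_mul_smul_comm, one_mul]) }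
  have hlam : ∀ r : R, D.π r = lam r • 1 := hlamf
  have hcom0 : ∀ a b : Q, ⁅a, b⁆ ∈ R := fun a b => (hmemR _).2 (by
    rw [commutatorElement_def, D.cls_mul, D.cls_mul, D.cls_mul, D.cls_inv, D.cls_inv]; abel)
  have hlamc : ∀ a b : Q, lam ⟨⁅a, b⁆, hcom0 a b⟩ = D.e (D.cls a) (D.cls b) := fun a b =>
    smul_one_inj' (W := W) (by
      rw [← hlam]
      show D.π ⁅a, b⁆ = _
      rw [commutatorElement_def, map_mul, map_mul, map_mul, D.conj_eq, smul_mul_assoc, D.pi_mul_inv])
  set σ := D.φ c with hσ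
  have hσR : R.map σ.toMonoidHom = R := by
    refine Subgroup.eq_of_le_of_card_ge ?_ (le_of_eq (card_map_of_injective σ.injective).symm)
    rintro _ ⟨r, hr, rfl⟩
    rw [SetLike.mem_coe, hmemR] at hr
    refine (hmemR _).2 ?_
    show D.cls (D.φ c r) = 0
    rw [← D.act_cls, hr, smul_zero]
  set g := D.act c with hg
  have hg4 : ∀ v : V, g ^ 4 • v = -v := fun v => by rw [hg, ← map_pow]; exact hc4 v
  have h8 : g ^ 8 = 1 := Units.ext (LinearMap.ext fun v => by
    show g ^ 8 • v = v
    rw [show 8 = 4 + 4 from rfl, pow_add, mul_smul, hg4, hg4, neg_neg])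
  have hS8 : D.S c ^ 8 = 1 := by
    rw [← map_pow]
    exact hF _ (by rw [map_pow]; exact h8)
  have hmain := HallHigman.sq_finrank_le_of_nilpotent 7 _ hnil
  rw [show HallHigman.commutant (D.S c - 1) = HallHigman.commutant (D.S c) by
    ext f
    rw [HallHigman.mem_commutant, HallHigman.mem_commutant, sub_mul, mul_sub, one_mul, mul_one,
      sub_left_inj]] at hmain
  haveI := Fintype.ofFinite (MulAction.orbitRel.Quotient (zpowers g) V)
  have hbound := GrossTwoLength.index_le_of_orbits (r := 8) (by norm_num)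
    (by rw [Nat.card_eq_fintype_card]; exact D.card_ne_zero) D.π R lam hlam
    (fun a b => D.cen a b) hcom0
    (fun x hx => (hmemR _).2 (D.nd _ fun v => by
      obtain ⟨y, rfl⟩ := D.cls_surj v
      exact D.e_eq_one.1 ((hlamc y x).symm.trans (hx y))))
    σ hσR
    (fun r hr => smul_one_inj' (W := W) (by
      rw [← hlam ⟨σ r, hr⟩, ← hlam r]
      exact D.pi_phi_of_fix (by rw [(hmemR _).1 r.2, smul_zero])))
    (D.S c) hS8 (fun x => D.twist c x) hmain
    (fun ω : MulAction.orbitRel.Quotient (zpowers g) V => Function.surjInv D.cls_surj ω.out)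
    (fun x => by
      obtain ⟨⟨a, ha⟩, hax⟩ : D.cls x ∈ MulAction.orbit (zpowers g)
          (Quotient.mk'' (D.cls x) : MulAction.orbitRel.Quotient (zpowers g) V).out :=
        (MulAction.orbitRel (zpowers g) V).symm
          (Quotient.mk_out (s := MulAction.orbitRel (zpowers g) V) (D.cls x))
      obtain ⟨i, rfl⟩ := mem_powers_iff_mem_zpowers.2 ha
      refine ⟨Quotient.mk'' (D.cls x), i, (hmemR _).2 ?_⟩
      have key : ∀ (n : ℕ) (y : Q), g ^ n • D.cls y = D.cls ((σ ^ n) y) := by
        intro n y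
        rw [hg, hσ, ← map_pow, ← map_pow, D.act_cls]
      have hax' : g ^ i • (Quotient.mk'' (D.cls x) :
          MulAction.orbitRel.Quotient (zpowers g) V).out = D.cls x := hax
      rw [← Function.surjInv_eq D.cls_surj
        (Quotient.mk'' (D.cls x) : MulAction.orbitRel.Quotient (zpowers g) V).out, key] at hax'
      rw [D.cls_mul, D.cls_inv, hax', neg_add_cancel])
  have hord : orderOf g = 2 ^ (2 + 1) := by
    haveI : Fact (Nat.Prime 2) := ⟨Nat.prime_two⟩
    refine orderOf_eq_prime_pow (fun h => ?_) (by norm_num [h8])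
    haveI : Nontrivial V := Finite.one_lt_card_iff_nontrivial.1 (by omega)
    obtain ⟨v, hv⟩ := exists_ne (0 : V)
    refine hv (GrossTwoLength.two_smul_inj D.ne_two ?_)
    have h' := hg4 v
    rw [show (4 : ℕ) = 2 ^ 2 from rfl, h, one_smul] at h'
    nth_rw 1 [h']
    rw [neg_add_cancel]
  have horb := HallHigman.card_orbits_free (A := zpowers g) (X := V) (r := 8)
    (by rw [Nat.card_zpowers, hord]; rfl) 0 (fun a => smul_zero (a : (Module.End (ZMod q) V)ˣ))
    (fun v hv a ha => by
      by_contra hne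
      obtain ⟨i, hi⟩ := mem_powers_iff_mem_zpowers.2 a.2
      have hi' : g ^ i = (a : (Module.End (ZMod q) V)ˣ) := hi
      have hfix : g ^ i • v = v := hi' ▸ ha
      have hnd : ¬ 8 ∣ i := fun ⟨j, hj⟩ => hne (Subtype.ext (by
        rw [← hi', hj, pow_mul, h8, one_pow]; rfl))
      -- a power of `g` equal to `g ^ 4` fixes `v`
      have h4 : ∃ j, g ^ (i * j) = g ^ 4 := by
        have : i % 8 = 1 ∨ i % 8 = 2 ∨ i % 8 = 3 ∨ i % 8 = 4 ∨ i % 8 = 5 ∨ i % 8 = 6 ∨ i % 8 = 7 := by
          omega
        rcases this with e | e | e | e | e | e | e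
        · exact ⟨4, by rw [pow_eq_pow_mod (i * 4) h8, Nat.mul_mod, e]⟩
        · exact ⟨2, by rw [pow_eq_pow_mod (i * 2) h8, Nat.mul_mod, e]⟩
        · exact ⟨4, by rw [pow_eq_pow_mod (i * 4) h8, Nat.mul_mod, e]⟩
        · exact ⟨1, by rw [mul_one, pow_eq_pow_mod i h8, e]⟩
        · exact ⟨4, by rw [pow_eq_pow_mod (i * 4) h8, Nat.mul_mod, e]⟩
        · exact ⟨2, by rw [pow_eq_pow_mod (i * 2) h8, Nat.mul_mod, e]⟩
        · exact ⟨4, by rw [pow_eq_pow_mod (i * 4) h8, Nat.mul_mod, e]⟩
      obtain ⟨j, hj⟩ := h4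
      refine hv (GrossTwoLength.two_smul_inj D.ne_two ?_)
      have h' : g ^ 4 • v = v := by
        rw [← hj, pow_mul]
        exact MulAction.mem_stabilizer_iff.1 (pow_mem (MulAction.mem_stabilizer_iff.2 hfix) j)
      rw [hg4] at h'
      nth_rw 1 [← h']
      rw [neg_add_cancel])
  rw [hidx, Nat.card_eq_fintype_card] at hbound
  rw [hV, Nat.card_eq_fintype_card] at horb
  omega

end Cfsg.Agent.TwoLengthDerived
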