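import Cfsg.Agent.Lib.TwoLengthDerived.Signs
import Cfsg.Agent.Lib.TwoLengthDerived.Eighth
import Cfsg.Agent.Lib.PGroup.Basic

/-!
# A chain with a fixed-point-free last term has length two, on a plane of order nine
-/

set_option autoImplicit false
set_option linter.unusedSectionVars false
set_option linter.style.haveILetI false

namespace Cfsg.Agent.TwoLengthDerived

open Subgroup
open scoped commutatorElement
open FittingHeight (Plane.Iso)

section Groups

/-- An invariant homomorphism on a subgroup of index two kills all commutators. -/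
theorem kill_commutators {G E : Type*} [Group G] [CommGroup E] {S : Subgroup G}
    (hS : ∀ g : G, ∀ x ∈ S, g * x * g⁻¹ ∈ S) {σ : G} (hidx : ∀ g : G, g ∉ S → σ⁻¹ * g ∈ S)
    (f : S →* E) (hinv : ∀ x : S, f ⟨σ * x * σ⁻¹, hS σ x x.2⟩ = f x) :
    ∀ (x : G) (_ : x ∈ ⁅(⊤ : Subgroup G), (⊤ : Subgroup G)⁆) (hx : x ∈ S), f ⟨x, hx⟩ = 1 := by
  have hall : ∀ (g : G) (x : S), f ⟨g * x * g⁻¹, hS g x x.2⟩ = f x := by
    intro g x
    by_cases hg : g ∈ S
    · rw [show (⟨g * x * g⁻¹, hS g x x.2⟩ : S) = ⟨g, hg⟩ * x * ⟨g, hg⟩⁻¹ from rfl, map_mul, map_mul,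
        map_inv, mul_comm (f ⟨g, hg⟩), mul_inv_cancel_right]
    · set h : S := ⟨σ⁻¹ * g, hidx g hg⟩ with hh
      have e : (⟨g * x * g⁻¹, hS g x x.2⟩ : S) =
          ⟨σ * (h * x * h⁻¹ : S) * σ⁻¹, hS σ _ (h * x * h⁻¹).2⟩ := Subtype.ext (by
        simp only [hh, Subgroup.coe_mul, InvMemClass.coe_inv]; group)
      rw [e, hinv, map_mul, map_mul, map_inv, mul_comm (f h), mul_inv_cancel_right]
  -- the kernel is a normal subgroup containing all commutators
  let N : Subgroup G :=
    { carrier := {x | ∃ hx : x ∈ S, f ⟨x, hx⟩ = 1}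
      one_mem' := ⟨one_mem S, map_one f⟩
      mul_mem' := fun {a b} ⟨ha, ha'⟩ ⟨hb, hb'⟩ => ⟨mul_mem ha hb, by
        rw [show (⟨a * b, mul_mem ha hb⟩ : S) = ⟨a, ha⟩ * ⟨b, hb⟩ from rfl, map_mul, ha', hb', one_mul]⟩
      inv_mem' := fun {a} ⟨ha, ha'⟩ => ⟨inv_mem ha, by
        rw [show (⟨a⁻¹, inv_mem ha⟩ : S) = ⟨a, ha⟩⁻¹ from rfl, map_inv, ha', inv_one]⟩ }
  have hN : ∀ g : G, ∀ x ∈ N, g * x * g⁻¹ ∈ N := fun g x ⟨hx, hx'⟩ =>
    ⟨hS g x hx, (hall g ⟨x, hx⟩).trans hx'⟩
  have hin : ∀ g : G, ∀ x ∈ S, g * x * g⁻¹ * x⁻¹ ∈ N := fun g x hx =>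
    ⟨mul_mem (hS g x hx) (inv_mem hx), by
      rw [show (⟨g * x * g⁻¹ * x⁻¹, mul_mem (hS g x hx) (inv_mem hx)⟩ : S) =
        ⟨g * x * g⁻¹, hS g x hx⟩ * ⟨x, hx⟩⁻¹ from rfl, map_mul, map_inv, hall g ⟨x, hx⟩,
        mul_inv_cancel]⟩
  have hle : ⁅(⊤ : Subgroup G), (⊤ : Subgroup G)⁆ ≤ N := by
    rw [commutator_le]
    intro a _ b _
    rw [commutatorElement_def]
    by_cases hb : b ∈ S
    · exact hin a b hb
    by_cases ha : a ∈ S
    · have := inv_mem (hin b a ha)
      rwa [show (b * a * b⁻¹ * a⁻¹)⁻¹ = a * b * a⁻¹ * b⁻¹ by group] at this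
    · have h1 : a⁻¹ * b ∈ S := by
        have e1 := hidx a ha
        have e2 := hidx b hb
        have := mul_mem (inv_mem e1) e2
        rwa [show (σ⁻¹ * a)⁻¹ * (σ⁻¹ * b) = a⁻¹ * b by group] at this
      have := hN a _ (hin a _ h1)
      rwa [show a * (a * (a⁻¹ * b) * a⁻¹ * (a⁻¹ * b)⁻¹) * a⁻¹ = a * b * a⁻¹ * b⁻¹ by group] at this
  intro x hx hxS
  obtain ⟨_, h⟩ := hle hx
  exact h

/-- A non-commutative normal subgroup of the derived group, with squares and commutators in a
central `{1, ε}`, contains a further central involution. -/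
theorem exists_central_involution {R : Type*} [Group R] [Finite R] (hR : IsPGroup 2 R) {ε : R}
    (hε : ε ∈ center R) (hεε : ε * ε = 1) {B : Subgroup R} [B.Normal] (hBd : B ≤ ⁅(⊤ : Subgroup R), (⊤ : Subgroup R)⁆)
    (hsq : ∀ y ∈ B, y * y = 1 ∨ y * y = ε) (hnc : ¬ B ≤ centralizer (B : Set R)) :
    ∃ u ∈ B, u * u = 1 ∧ u ≠ 1 ∧ u ≠ ε ∧ ∀ y ∈ B, Commute u y := by
  haveI : Fact (Nat.Prime 2) := ⟨Nat.prime_two⟩
  by_contra hcon
  push Not at hcon
  set C := B ⊓ centralizer (B : Set R) with hC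
  haveI : C.Normal := by rw [hC]; infer_instance
  have hinv : ∀ u ∈ C, u * u = 1 → u = 1 ∨ u = ε := by
    intro u hu h2
    by_contra h
    push Not at h
    obtain ⟨y, hy, hy'⟩ := hcon u hu.1 h2 h.1 h.2
    exact hy' (mem_centralizer_iff.1 hu.2 y hy).symm
  set π := QuotientGroup.mk' C
  have hπs : Function.Surjective π := QuotientGroup.mk'_surjective C
  haveI : (B.map π).Normal := (inferInstance : B.Normal).map π hπs
  have hne : B.map π ≠ ⊥ := by
    rw [Ne, Subgroup.map_eq_bot_iff, QuotientGroup.ker_mk']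
    exact fun h => hnc fun x hx => (h hx).2
  have hne' := PGroup.inf_center_ne_bot (hR.to_quotient C) (B.map π) hne
  obtain ⟨⟨w, hw⟩, hw1'⟩ := ne_bot_iff_exists_ne_one.1 hne'
  have hw1 : w ≠ 1 := fun e => hw1' (Subtype.ext e)
  obtain ⟨⟨l, hl, rfl⟩, hlc⟩ := hw
  have hlC : l ∉ C := fun h => hw1 ((QuotientGroup.eq_one_iff l).2 h)
  have hcC : ∀ h : R, h * l * h⁻¹ * l⁻¹ ∈ C := fun h => by
    refine (QuotientGroup.eq_one_iff _).1 ?_
    show π (h * l * h⁻¹ * l⁻¹) = 1
    rw [map_mul, map_mul, map_mul, map_inv, map_inv, mem_center_iff.1 hlc (π h), mul_inv_cancel_right,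
      mul_inv_cancel]
  have hζ : ∀ h : R, h * l * h⁻¹ * l⁻¹ = 1 ∨ h * l * h⁻¹ * l⁻¹ = ε := by
    intro h
    set c := h * l * h⁻¹ * l⁻¹ with hc
    refine hinv c (hcC h) ?_
    have e1 : h * l * h⁻¹ = c * l := by rw [hc, inv_mul_cancel_right]
    have hcl : Commute c l := (mem_centralizer_iff.1 (hcC h).2 l hl).symm
    have hl2 : l * l ∈ center R := by
      rcases hsq l hl with e | e <;> rw [e]
      exacts [one_mem _, hε]
    have e2 : (h * l * h⁻¹) * (h * l * h⁻¹) = l * l := by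
      rw [show h * l * h⁻¹ * (h * l * h⁻¹) = h * (l * l) * h⁻¹ by group,
        mem_center_iff.1 hl2 h, mul_inv_cancel_right]
    rw [e1, ← pow_two, hcl.mul_pow, pow_two, pow_two] at e2
    exact mul_eq_right.1 e2
  let S : Subgroup R :=
    { carrier := {h | Commute h l}
      one_mem' := Commute.one_left l
      mul_mem' := fun ha hb => Commute.mul_left ha hb
      inv_mem' := fun ha => Commute.inv_left ha }
  have hle : ⁅(⊤ : Subgroup R), (⊤ : Subgroup R)⁆ ≤ S := by
    rw [commutator_le]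
    intro a _ b _
    have hca : ∀ h : R, ∃ c, (c = 1 ∨ c = ε) ∧ h * l * h⁻¹ = c * l := fun h =>
      ⟨_, hζ h, by rw [inv_mul_cancel_right]⟩
    have hcen : ∀ c, (c = 1 ∨ c = ε) → ∀ x : R, x * c = c * x ∧ c * c = 1 := by
      rintro c (rfl | rfl) x
      · exact ⟨by rw [mul_one, one_mul], one_mul 1⟩
      · exact ⟨mem_center_iff.1 hε x, hεε⟩
    obtain ⟨ca, hca', ea⟩ := hca a
    obtain ⟨cb, hcb', eb⟩ := hca b
    have hconj : ∀ (h c : R), (c = 1 ∨ c = ε) → h * l * h⁻¹ = c * l → h⁻¹ * l * h = c * l := by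
      intro h c hc e
      calc h⁻¹ * l * h = h⁻¹ * (c * (c * l)) * h := by rw [← mul_assoc c, (hcen c hc 1).2, one_mul]
        _ = h⁻¹ * c * (h * l * h⁻¹) * h := by rw [← e, mul_assoc h⁻¹ c]
        _ = c * h⁻¹ * (h * l * h⁻¹) * h := by rw [(hcen c hc h⁻¹).1]
        _ = c * l := by group
    show Commute ⁅a, b⁆ l
    refine mul_inv_eq_iff_eq_mul.1 ?_
    have ea' := hconj a ca hca' ea
    have eb' := hconj b cb hcb' eb
    rw [commutatorElement_def,
      show a * b * a⁻¹ * b⁻¹ * l * (a * b * a⁻¹ * b⁻¹)⁻¹ = a * (b * (a⁻¹ * (b⁻¹ * l * b) * a) * b⁻¹) * a⁻¹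
      by group, eb',
      show a⁻¹ * (cb * l) * a = (a⁻¹ * cb) * l * a by group, (hcen cb hcb' a⁻¹).1,
      show cb * a⁻¹ * l * a = cb * (a⁻¹ * l * a) by group, ea',
      show b * (cb * (ca * l)) * b⁻¹ = (b * cb) * (ca * l) * b⁻¹ by group, (hcen cb hcb' b).1,
      show cb * b * (ca * l) * b⁻¹ = cb * ((b * ca) * l * b⁻¹) by group, (hcen ca hca' b).1,
      show ca * b * l * b⁻¹ = ca * (b * l * b⁻¹) by group, eb,
      show a * (cb * (ca * (cb * l))) * a⁻¹ = (a * (cb * ca * cb)) * l * a⁻¹ by group]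
    have hm : a * (cb * ca * cb) = ca * a := by
      rw [(hcen cb hcb' ca).1.symm.trans rfl, mul_assoc, (hcen cb hcb' 1).2, mul_one, (hcen ca hca' a).1]
    rw [hm, show ca * a * l * a⁻¹ = ca * (a * l * a⁻¹) by group, ea, ← mul_assoc, (hcen ca hca' 1).2,
      one_mul]
  exact hlC ⟨hl, mem_centralizer_iff.2 fun y hy => (hle (hBd hy) : Commute y l).eq⟩

end Groups

variable {q : ℕ} [Fact q.Prime] {K W Q H V : Type*} [Field K] [CharP K 2] [AddCommGroup W]
  [Module K W] [Nontrivial W] [FiniteDimensional K W] [Group Q] [Finite Q] [Group H] [Finite H]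
  [AddCommGroup V] [Module (ZMod q) V] [Finite V]

namespace Twist

variable (D : Twist q K W Q H V)

/-- The elements acting as a sign on a subspace. -/
def SignOn (A : Submodule (ZMod q) V) (g : (Module.End (ZMod q) V)ˣ) : Prop :=
  (∀ x ∈ A, g • x = x) ∨ ∀ x ∈ A, g • x = -x

theorem act_pow_two (h : H) : ∃ j : ℕ, D.act h ^ 2 ^ j = 1 := by
  obtain ⟨j, hj⟩ := D.twoH h
  exact ⟨j, by rw [← map_pow, hj, map_one]⟩

theorem geo_two (hq : q = 3) : GrossTwoLength.Geo (q := q) D.β 2 :=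
  ⟨D.alt, D.nd, D.noTwo, D.ne_two, le_rfl, by rw [hq]; rfl⟩

/-- Signs commute. -/
theorem signOn_comm {A : Submodule (ZMod q) V} {g h : (Module.End (ZMod q) V)ˣ}
    (hg : SignOn A g) (hh : SignOn A h) : ∀ x ∈ A, (g * h * g⁻¹ * h⁻¹) • x = x := by
  have hi : ∀ {w : (Module.End (ZMod q) V)ˣ}, SignOn A w → SignOn A w⁻¹ := by
    rintro w (hw | hw)
    · exact Or.inl fun x hx => inv_smul_eq_iff.2 (hw x hx).symm
    · refine Or.inr fun x hx => inv_smul_eq_iff.2 ?_
      rw [smul_neg, hw x hx, neg_neg]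
  intro x hx
  simp only [mul_smul]
  rcases hh with hh | hh <;> rcases hg with hg | hg
  all_goals
    have hh' : SignOn A h⁻¹ := hi (by first | exact Or.inl hh | exact Or.inr hh)
    have hxm : ∀ y ∈ A, g⁻¹ • y ∈ A := fun y hy => by
      first
        | (rw [inv_smul_eq_iff.2 (hg y hy).symm]; exact hy)
        | (rw [show g⁻¹ • y = -y from inv_smul_eq_iff.2 (by rw [smul_neg, hg y hy, neg_neg])]
           exact neg_mem hy)
  · rw [inv_smul_eq_iff.2 (hh x hx).symm, inv_smul_eq_iff.2 (hg x hx).symm, hh x hx, hg x hx]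
  · rw [inv_smul_eq_iff.2 (hh x hx).symm,
      show g⁻¹ • x = -x from inv_smul_eq_iff.2 (by rw [smul_neg, hg x hx, neg_neg]), smul_neg, hh x hx,
      smul_neg, hg x hx, neg_neg]
  · rw [show h⁻¹ • x = -x from inv_smul_eq_iff.2 (by rw [smul_neg, hh x hx, neg_neg]), smul_neg,
      inv_smul_eq_iff.2 (hg x hx).symm, smul_neg, hh x hx, neg_neg, hg x hx]
  · rw [show h⁻¹ • x = -x from inv_smul_eq_iff.2 (by rw [smul_neg, hh x hx, neg_neg]), smul_neg,
      show g⁻¹ • x = -x from inv_smul_eq_iff.2 (by rw [smul_neg, hg x hx, neg_neg]), neg_neg, hh x hx,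
      smul_neg, hg x hx, neg_neg]

/-- If all of `H^{(j)}` are signs on `A`, then `H^{(j+1)}` fixes `A`. -/
theorem fix_of_signs {A : Submodule (ZMod q) V} {j : ℕ}
    (h : ∀ c ∈ der (⊤ : Subgroup H) j, SignOn A (D.act c)) :
    ∀ c ∈ der (⊤ : Subgroup H) (j + 1), ∀ x ∈ A, D.act c • x = x := by
  let S : Subgroup H :=
    { carrier := {c | ∀ x ∈ A, D.act c • x = x}
      one_mem' := fun x _ => by rw [map_one, one_smul]
      mul_mem' := fun {a b} ha hb x hx => by rw [map_mul, mul_smul, hb x hx, ha x hx]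
      inv_mem' := fun {a} ha x hx => by rw [map_inv, inv_smul_eq_iff, ha x hx] }
  suffices hle : der (⊤ : Subgroup H) (j + 1) ≤ S from fun c hc => hle hc
  rw [der_succ, commutator_le]
  intro a ha b hb x hx
  rw [commutatorElement_def, map_mul, map_mul, map_mul, map_inv, map_inv]
  exact signOn_comm (h a ha) (h b hb) x hx

/-- The fixed space of a central involution of the derived term is a plane of order nine. -/
theorem plane_of_invol (hF : D.Faithful) {z : H} (hz : ∀ v : V, D.act z • v = -v) {m : ℕ}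
    (hc : Chain D.S ⊤ ⊤ (m + 2)) (hzm : z ∈ der (⊤ : Subgroup H) (m + 1)) {b : H}
    (hb : b ∈ der (⊤ : Subgroup H) m) (hb2 : D.act b * D.act b = 1) (hb1 : D.act b ≠ 1)
    (hbc : ∀ c ∈ der (⊤ : Subgroup H) m, Commute (D.act c) (D.act b))
    (hA : fixS (D.act b) ≠ ⊥) : q = 3 ∧ Nine D.β (fixS (D.act b)) := by
  have I : Invol D.β (D.act b) := ⟨D.alt, D.nd, D.noTwo, D.ne_two, D.act_iso b, hb2⟩
  by_cases hnine : q = 3 ∧ Nat.card (fixS (D.act b)) = 9
  · exact ⟨hnine.1, D.geo_two hnine.1, by rw [hnine.2, hnine.1]; rfl, I.nondeg_fix⟩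
  exfalso
  have hsigns : ∀ c ∈ der (⊤ : Subgroup H) m, SignOn (fixS (D.act b)) (D.act c) := fun c hc' => by
    rcases D.signs_invol hF hz hb2 hb1 (hbc c hc') (fun w => hc.three (fun _ _ _ _ => Submodule.mem_top)
      rfl hzm hb hc' Submodule.mem_top) with h | h | h
    · exact Or.inl h
    · exact Or.inr h
    · exact absurd h hnine
  obtain ⟨x, hx, hx0⟩ := (Submodule.ne_bot_iff _).1 hA
  refine hx0 (GrossTwoLength.two_smul_inj D.ne_two ?_)
  have h := D.fix_of_signs hsigns z hzm x hx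
  rw [hz] at h
  nth_rw 1 [← h]
  rw [neg_add_cancel]

/-- Commutators on a plane of order nine are signs. -/
theorem commutator_signOn {T : Submodule (ZMod q) V} (N : Nine D.β T) {a b : H}
    (ha : Pres T (D.act a)) (hb : Pres T (D.act b)) (ha' : Pres T (D.act a⁻¹))
    (hb' : Pres T (D.act b⁻¹)) : SignOn T (D.act ⁅a, b⁆) := by
  obtain ⟨i, hi⟩ := D.act_pow_two a
  obtain ⟨j, hj⟩ := D.act_pow_two b
  obtain ⟨l, hl⟩ := D.act_pow_two (a * b)
  rw [map_inv] at ha' hb'
  rw [map_mul] at hl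
  rw [commutatorElement_def, map_mul, map_mul, map_mul, map_inv, map_inv]
  exact N.commutator_sign (D.act_iso a) (D.act_iso b) ha hb ha' hb' hi hj hl

/-- The case of two planes exchanged by the group. -/
theorem no_long (hF : D.Faithful) {z : H} (hz : ∀ v : V, D.act z • v = -v) {m : ℕ} (hm : 1 ≤ m)
    (hc : Chain D.S ⊤ ⊤ (m + 2)) (hzm : z ∈ der (⊤ : Subgroup H) (m + 1))
    (hsq : ∀ y ∈ der (⊤ : Subgroup H) m, D.act y * D.act y = 1 ∨ D.act y * D.act y = D.act z)
    {b : H} (hb : b ∈ der (⊤ : Subgroup H) m) (hb2 : D.act b * D.act b = 1) (hb1 : D.act b ≠ 1)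
    (hbz : D.act b ≠ D.act z) (hbc : ∀ c ∈ der (⊤ : Subgroup H) m, Commute (D.act c) (D.act b)) :
    False := by
  classical
  set U := D.act b with hU
  set Z := D.act z with hZ
  have hZc : ∀ g : (Module.End (ZMod q) V)ˣ, Commute Z g := fun g => Units.ext (LinearMap.ext fun v => by
    show (Z * g) • v = (g * Z) • v
    rw [mul_smul, mul_smul, hz, hz, smul_neg])
  have hZ2 : Z * Z = 1 := Units.ext (LinearMap.ext fun v => by
    show (Z * Z) • v = v
    rw [mul_smul, hz, hz, neg_neg])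
  have I : Invol D.β U := ⟨D.alt, D.nd, D.noTwo, D.ne_two, D.act_iso b, hb2⟩
  obtain ⟨hfz, hnz⟩ := fixS_mul_of_neg (U := U) hz
  have hU' : D.act (z * b) = Z * U := map_mul _ _ _
  have hA : fixS U ≠ ⊥ := fun h => hbz (I.ext (fun x hx => by
    rw [h, Submodule.mem_bot] at hx; rw [hx, smul_zero, smul_zero])
    fun x hx => by rw [mem_negS.1 hx, hz])
  have hA' : negS U ≠ ⊥ := fun h => hb1 (I.ext (fun x hx => by rw [mem_fixS.1 hx, one_smul])
    fun x hx => by rw [h, Submodule.mem_bot] at hx; rw [hx, smul_zero, smul_zero])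
  have hbzd : z * b ∈ der (⊤ : Subgroup H) m := mul_mem (der_succ_le _ m hzm) hb
  obtain ⟨hq, NA⟩ := D.plane_of_invol hF hz hc hzm hb hb2 hb1 hbc hA
  obtain ⟨-, NA'⟩ := D.plane_of_invol hF hz hc hzm hbzd
    (by rw [hU', show Z * U * (Z * U) = Z * (U * Z) * U by group, ← (hZc U).eq,
      show Z * (Z * U) * U = Z * Z * (U * U) by group, hZ2, hb2, one_mul])
    (fun h => hbz (by rw [hU'] at h; rw [← one_mul U, ← hZ2, mul_assoc, h, mul_one]))
    (fun c hc' => by rw [hU']; exact (hZc _).symm.mul_right (hbc c hc'))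
    (by rw [hU', hfz]; exact hA')
  rw [hU', hfz] at NA'
  -- the group preserves the pair of planes
  have hconj : ∀ h : H, D.act h * U * (D.act h)⁻¹ = U ∨ D.act h * U * (D.act h)⁻¹ = Z * U := by
    intro h
    set w := h * b * h⁻¹ with hw
    have hwd : w ∈ der (⊤ : Subgroup H) m := conj_mem_der (mem_top h) hb
    have eW : D.act w = D.act h * U * (D.act h)⁻¹ := by rw [hw, map_mul, map_mul, map_inv]
    rw [← eW]
    have hW2 : D.act w * D.act w = 1 := by
      rw [eW, show D.act h * U * (D.act h)⁻¹ * (D.act h * U * (D.act h)⁻¹) =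
        D.act h * (U * U) * (D.act h)⁻¹ by group, hb2, mul_one, mul_inv_cancel]
    have hP := mem_of_commute (hbc w hwd)
    obtain ⟨i, hi⟩ := D.act_pow_two w
    have hsign : ∀ {T : Submodule (ZMod q) V}, Nine D.β T → Pres T (D.act w) → SignOn T (D.act w) := by
      intro T N hT
      rcases N.cases (D.act_iso w) hT hi with h | h | h
      · exact Or.inl h
      · exact Or.inr h
      · refine Or.inl fun x hx => ?_
        have h0 := h x hx
        rw [smul_smul, hW2, one_smul, eq_neg_iff_add_eq_zero] at h0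
        rw [GrossTwoLength.two_smul_inj D.ne_two h0, smul_zero]
    have hw1 : D.act w ≠ 1 := fun e => hb1 (by
      rw [eW, mul_inv_eq_one] at e
      exact mul_eq_left.1 e)
    have hwz : D.act w ≠ Z := fun e => hbz (by
      rw [eW, mul_inv_eq_iff_eq_mul, (hZc _).eq, mul_right_inj] at e
      exact e)
    rcases hsign NA hP.1 with h1 | h1 <;> rcases hsign NA' hP.2 with h2 | h2
    · exact absurd (I.ext (fun x hx => by rw [h1 x hx, one_smul]) fun x hx => by
        rw [h2 x hx, one_smul]) hw1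
    · exact Or.inl (I.ext (fun x hx => by rw [h1 x hx, mem_fixS.1 hx]) fun x hx => by
        rw [h2 x hx, mem_negS.1 hx])
    · refine Or.inr (I.ext (fun x hx => ?_) fun x hx => ?_)
      · rw [h1 x hx, mul_smul, mem_fixS.1 hx, hz]
      · rw [h2 x hx, mul_smul, mem_negS.1 hx, hz, neg_neg]
    · exact absurd (I.ext (fun x hx => by rw [h1 x hx, hz]) fun x hx => by rw [h2 x hx, hz]) hwz
  let HA : Subgroup H :=
    { carrier := {h | Commute (D.act h) U}
      one_mem' := by show Commute (D.act 1) U; rw [map_one]; exact Commute.one_left U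
      mul_mem' := fun {a c} ha hb' => by
        show Commute (D.act (a * c)) U
        rw [map_mul]; exact Commute.mul_left ha hb'
      inv_mem' := fun {a} ha => by
        show Commute (D.act a⁻¹) U
        rw [map_inv]; exact Commute.inv_left ha }
  have hHAn : ∀ g : H, ∀ x ∈ HA, g * x * g⁻¹ ∈ HA := by
    intro g x hx
    show Commute (D.act (g * x * g⁻¹)) U
    obtain ⟨U₀, hU₀, e⟩ : ∃ U₀, Commute (D.act x) U₀ ∧ U = D.act g * U₀ * (D.act g)⁻¹ := by
      rcases hconj g with e | e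
      · exact ⟨U, hx, e.symm⟩
      · refine ⟨Z * U, (hZc _).symm.mul_right hx, ?_⟩
        rw [show D.act g * (Z * U) * (D.act g)⁻¹ = D.act g * Z * U * (D.act g)⁻¹ by group,
          ← (hZc _).eq, show Z * D.act g * U * (D.act g)⁻¹ = Z * (D.act g * U * (D.act g)⁻¹) by group,
          e, ← mul_assoc, hZ2, one_mul]
    rw [map_mul, map_mul, map_inv, e]
    show D.act g * D.act x * (D.act g)⁻¹ * (D.act g * U₀ * (D.act g)⁻¹) =
      D.act g * U₀ * (D.act g)⁻¹ * (D.act g * D.act x * (D.act g)⁻¹)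
    rw [show D.act g * D.act x * (D.act g)⁻¹ * (D.act g * U₀ * (D.act g)⁻¹) =
      D.act g * (D.act x * U₀) * (D.act g)⁻¹ by group, hU₀.eq]
    group
  have hout : ∀ g : H, g ∉ HA → D.act g * U * (D.act g)⁻¹ = Z * U := fun g hg =>
    (hconj g).resolve_left fun e => hg (mul_inv_eq_iff_eq_mul.1 e)
  have hidx : ∀ σ g : H, σ ∉ HA → g ∉ HA → σ⁻¹ * g ∈ HA := by
    intro σ g hσ hg
    show Commute (D.act (σ⁻¹ * g)) U
    refine mul_inv_eq_iff_eq_mul.1 ?_
    rw [map_mul, map_inv, show (D.act σ)⁻¹ * D.act g * U * ((D.act σ)⁻¹ * D.act g)⁻¹ =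
      (D.act σ)⁻¹ * (D.act g * U * (D.act g)⁻¹) * D.act σ by group, hout g hg, ← hout σ hσ]
    group
  have hPres : ∀ {h : H}, h ∈ HA → Pres (fixS U) (D.act h) := fun hh => (mem_of_commute hh).1
  have hzA : ¬ ∀ x ∈ fixS U, Z • x = x := fun h => hA (by
    refine (Submodule.eq_bot_iff _).2 fun x hx => GrossTwoLength.two_smul_inj D.ne_two ?_
    have := h x hx
    rw [hz] at this
    nth_rw 1 [← this]
    rw [neg_add_cancel])
  have hnotall : ¬ ∀ c ∈ der (⊤ : Subgroup H) m, SignOn (fixS U) (D.act c) := fun h =>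
    hzA (D.fix_of_signs h z hzm)
  have hcommHA : ∀ a ∈ HA, ∀ c ∈ HA, SignOn (fixS U) (D.act ⁅a, c⁆) := fun a ha c hc' =>
    D.commutator_signOn NA (hPres ha) (hPres hc') (hPres (inv_mem ha)) (hPres (inv_mem hc'))
  let NS : Subgroup H :=
    { carrier := {c | SignOn (fixS U) (D.act c)}
      one_mem' := Or.inl fun x _ => by rw [map_one, one_smul]
      mul_mem' := fun {a c} ha hb' => by
        show SignOn (fixS U) (D.act (a * c))
        rw [map_mul]
        rcases ha with h1 | h1 <;> rcases hb' with h2 | h2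
        · exact Or.inl fun x hx => by rw [mul_smul, h2 x hx, h1 x hx]
        · exact Or.inr fun x hx => by rw [mul_smul, h2 x hx, smul_neg, h1 x hx]
        · exact Or.inr fun x hx => by rw [mul_smul, h2 x hx, h1 x hx]
        · exact Or.inl fun x hx => by rw [mul_smul, h2 x hx, smul_neg, h1 x hx, neg_neg]
      inv_mem' := fun {a} ha => by
        show SignOn (fixS U) (D.act a⁻¹)
        rw [map_inv]
        rcases ha with h1 | h1
        · exact Or.inl fun x hx => inv_smul_eq_iff.2 (h1 x hx).symm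
        · exact Or.inr fun x hx => inv_smul_eq_iff.2 (by rw [smul_neg, h1 x hx, neg_neg]) }
  have hder1 : der (⊤ : Subgroup H) 1 ≤ HA := by
    rw [der_succ, commutator_le]
    intro a _ c _
    rw [commutatorElement_def]
    by_cases hc' : c ∈ HA
    · exact mul_mem (hHAn a c hc') (inv_mem hc')
    by_cases ha : a ∈ HA
    · rw [show a * c * a⁻¹ * c⁻¹ = a * (c * a⁻¹ * c⁻¹) by group]
      exact mul_mem ha (hHAn c _ (inv_mem ha))
    · have h1 : a⁻¹ * c ∈ HA := hidx a c ha hc'
      have := hHAn a _ (mul_mem (hHAn a _ h1) (inv_mem h1))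
      rwa [show a * (a * (a⁻¹ * c) * a⁻¹ * (a⁻¹ * c)⁻¹) * a⁻¹ = a * c * a⁻¹ * c⁻¹ by group] at this
  have hder2 : der (⊤ : Subgroup H) 2 ≤ NS := by
    rw [der_succ, commutator_le]
    exact fun a ha c hc' => hcommHA a (hder1 ha) c (hder1 hc')
  obtain rfl : m = 1 := le_antisymm (by
    by_contra hm2
    exact hnotall fun c hc' => hder2 (der_antitone _ (show 2 ≤ m by omega) hc')) hm
  obtain ⟨σ₀, hσ₀⟩ : ∃ σ : H, σ ∉ HA := by
    by_contra hcon
    push Not at hcon
    refine hnotall fun c hc' => ?_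
    have hle : der (⊤ : Subgroup H) 1 ≤ NS := by
      rw [der_succ, commutator_le]
      exact fun a _ e _ => hcommHA a (hcon a) e (hcon e)
    exact hle hc'
  -- the quotient by the signs
  set N := NS.subgroupOf HA with hN
  haveI hNn : N.Normal := ⟨fun x hx g => by
    have h : SignOn (fixS U) (D.act (x : H)) := hx
    show SignOn (fixS U) (D.act ((g * x * g⁻¹ : HA) : H))
    rw [Subgroup.coe_mul, Subgroup.coe_mul, InvMemClass.coe_inv, map_mul, map_mul, map_inv]
    have hg' := hPres (inv_mem g.2)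
    rw [map_inv] at hg'
    rcases h with h | h
    · exact Or.inl fun y hy => by rw [mul_smul, mul_smul, h _ (hg' y hy), smul_inv_smul]
    · exact Or.inr fun y hy => by rw [mul_smul, mul_smul, h _ (hg' y hy), smul_neg, smul_inv_smul]⟩
  letI : CommGroup (HA ⧸ N) :=
    { (inferInstance : Group (HA ⧸ N)) with
      mul_comm := fun x y => by
        induction x using QuotientGroup.induction_on with | _ x => ?_
        induction y using QuotientGroup.induction_on with | _ y => ?_
        rw [← QuotientGroup.mk_mul, ← QuotientGroup.mk_mul, QuotientGroup.eq]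
        show SignOn (fixS U) (D.act (((x * y)⁻¹ * (y * x) : HA) : H))
        rw [show (((x * y)⁻¹ * (y * x) : HA) : H) = ⁅(y : H)⁻¹, (x : H)⁻¹⁆ by
          simp only [Subgroup.coe_mul, InvMemClass.coe_inv]; group]
        exact hcommHA _ (inv_mem y.2) _ (inv_mem x.2) }
  let η : HA →* HA ⧸ N := QuotientGroup.mk' N
  have hη : ∀ x : HA, η x = 1 ↔ SignOn (fixS U) (D.act (x : H)) := fun x => QuotientGroup.eq_one_iff x
  have hsqHA : ∀ σ : H, σ ∉ HA → σ * σ ∈ HA := by
    intro σ hσ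
    have := hidx σ⁻¹ σ (fun h => hσ (by simpa using inv_mem h)) hσ
    rwa [inv_inv] at this
  obtain ⟨σ, hσ, hσ2⟩ : ∃ σ : H, ∃ hσ : σ ∉ HA, η ⟨σ * σ, hsqHA σ hσ⟩ ≠ 1 := by
    by_contra hcon
    push Not at hcon
    refine hnotall fun c hc' => ?_
    refine (hη ⟨c, hder1 hc'⟩).1 (kill_commutators hHAn (fun g hg => hidx σ₀ g hσ₀ hg) η (fun x => ?_) c
      hc' (hder1 hc'))
    have hxs : (x : H) * σ₀ ∉ HA := fun h => hσ₀ (by
      have := mul_mem (inv_mem x.2) h
      rwa [inv_mul_cancel_left] at this)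
    have e : (⟨(x : H) * σ₀ * ((x : H) * σ₀), hsqHA _ hxs⟩ : HA) =
        x * ⟨σ₀ * x * σ₀⁻¹, hHAn σ₀ x x.2⟩ * ⟨σ₀ * σ₀, hsqHA σ₀ hσ₀⟩ := Subtype.ext (by
      simp only [Subgroup.coe_mul]; group)
    have h1 := hcon _ hxs
    rw [e, map_mul, map_mul, hcon σ₀ hσ₀, mul_one] at h1
    -- exponent two on the image
    obtain ⟨i, hi⟩ := D.act_pow_two (x : H)
    have hx2 : η x * η x = 1 := by
      rw [← map_mul, hη, Subgroup.coe_mul, map_mul]
      rcases NA.cases (D.act_iso _) (hPres x.2) hi with h | h | h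
      · exact Or.inl fun y hy => by rw [mul_smul, h y hy, h y hy]
      · exact Or.inl fun y hy => by rw [mul_smul, h y hy, smul_neg, h y hy, neg_neg]
      · exact Or.inr fun y hy => by rw [mul_smul, h y hy]
    exact mul_left_cancel (h1.trans hx2.symm)
  let cj : HA →* HA :=
    { toFun := fun x => ⟨σ * x * σ⁻¹, hHAn σ x x.2⟩
      map_one' := Subtype.ext (by simp)
      map_mul' := fun x y => Subtype.ext (by simp only [Subgroup.coe_mul]; group) }
  have hθinv : ∀ x : HA, (η * η.comp cj) (cj x) = (η * η.comp cj) x := by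
    intro x
    show η (cj x) * η (cj (cj x)) = η x * η (cj x)
    have e : cj (cj x) = ⟨σ * σ, hsqHA σ hσ⟩ * x * ⟨σ * σ, hsqHA σ hσ⟩⁻¹ := Subtype.ext (by
      show σ * (σ * x * σ⁻¹) * σ⁻¹ = σ * σ * x * (σ * σ)⁻¹
      group)
    rw [e, map_mul, map_mul, map_inv, mul_comm (η ⟨σ * σ, _⟩) (η x), mul_inv_cancel_right, mul_comm]
  have hkill := kill_commutators hHAn (fun g hg => hidx σ g hσ hg) (η * η.comp cj) hθinv
  -- an element of the derived group with the action of `σ ^ 2` on the first plane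
  obtain ⟨b1, hb1m, b2, hb2m, hnc⟩ : ∃ b1 ∈ der (⊤ : Subgroup H) 1, ∃ b2 ∈ der (⊤ : Subgroup H) 1,
      ¬ ∀ x ∈ fixS U, D.act b1 • D.act b2 • x = D.act b2 • D.act b1 • x := by
    by_contra hcon
    push Not at hcon
    refine hzA ?_
    let S : Subgroup H :=
      { carrier := {c | ∀ x ∈ fixS U, D.act c • x = x}
        one_mem' := fun x _ => by rw [map_one, one_smul]
        mul_mem' := fun {a c} ha hb' x hx => by rw [map_mul, mul_smul, hb' x hx, ha x hx]
        inv_mem' := fun {a} ha x hx => by rw [map_inv, inv_smul_eq_iff, ha x hx] }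
    have hle : der (⊤ : Subgroup H) 2 ≤ S := by
      rw [der_succ, commutator_le]
      intro a ha c hc' x hx
      have ha1 := hPres (inv_mem (hder1 ha))
      have hc1 := hPres (inv_mem (hder1 hc'))
      rw [map_inv] at ha1 hc1
      rw [commutatorElement_def, map_mul, map_mul, map_mul, map_inv, map_inv]
      simp only [mul_smul]
      rw [hcon a ha c hc' _ (ha1 _ (hc1 x hx)), smul_inv_smul, smul_inv_smul]
    exact hle hzm
  have hb1A := hPres (hder1 hb1m)
  have hb2A := hPres (hder1 hb2m)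
  obtain ⟨i1, hi1⟩ := D.act_pow_two b1
  obtain ⟨i2, hi2⟩ := D.act_pow_two b2
  obtain ⟨i12, hi12⟩ := D.act_pow_two (b1 * b2)
  rw [map_mul] at hi12
  obtain ⟨h1', h2', h12'⟩ :=
    (NA.comm_or (D.act_iso b1) (D.act_iso b2) hb1A hb2A hi1 hi2 hi12).resolve_left hnc
  set s : HA := ⟨σ * σ, hsqHA σ hσ⟩ with hs
  obtain ⟨is, his⟩ := D.act_pow_two (σ * σ)
  have hs1 : ∀ x ∈ fixS U, D.act (σ * σ) • D.act (σ * σ) • x = -x := by
    rcases NA.cases (D.act_iso _) (hPres s.2) his with h | h | h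
    · exact absurd ((hη s).2 (Or.inl h)) hσ2
    · exact absurd ((hη s).2 (Or.inr h)) hσ2
    · exact h
  obtain ⟨y, hy, hyA⟩ : ∃ y ∈ der (⊤ : Subgroup H) 1,
      ∀ x ∈ fixS U, D.act (σ * σ) • x = D.act y • x := by
    obtain ⟨w, hw, hcase⟩ := NA.exists_eq hb1A hb2A (hPres s.2) h1' h2' h12' hs1
    obtain ⟨c, hc', ec⟩ : ∃ c ∈ der (⊤ : Subgroup H) 1, D.act c = w := by
      rcases hw with rfl | rfl | rfl
      exacts [⟨b1, hb1m, rfl⟩, ⟨b2, hb2m, rfl⟩, ⟨b1 * b2, mul_mem hb1m hb2m, map_mul _ _ _⟩]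
    subst ec
    rcases hcase with h | h
    · exact ⟨c, hc', h⟩
    · refine ⟨z * c, mul_mem (der_succ_le _ 1 hzm) hc', fun x hx => ?_⟩
      rw [h x hx, map_mul, mul_smul, hz]
  set yA : HA := ⟨y, hder1 hy⟩ with hyAdef
  have hθy : η yA * η (cj yA) = 1 := hkill y hy (hder1 hy)
  have hηs : η yA = η s := by
    refine QuotientGroup.eq.2 ?_
    show SignOn (fixS U) (D.act ((yA⁻¹ * s : HA) : H))
    refine Or.inl fun x hx => ?_
    show D.act (y⁻¹ * (σ * σ)) • x = x
    rw [map_mul D.act y⁻¹, mul_smul, map_inv, hyA x hx, inv_smul_smul]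
  have hcs : cj s = s := Subtype.ext (show σ * (σ * σ) * σ⁻¹ = σ * σ by group)
  have hy2 : η yA * η yA = 1 := by
    rw [← map_mul, hη]
    show SignOn (fixS U) (D.act (y * y))
    rw [map_mul]
    rcases hsq y hy with h | h <;> rw [h]
    · exact Or.inl fun x _ => one_smul _ x
    · exact Or.inr fun x _ => hz x
  have hconjsign : SignOn (fixS U) (D.act (σ * (y⁻¹ * (σ * σ)) * σ⁻¹)) := by
    refine (hη (cj (yA⁻¹ * s))).1 ?_
    rw [map_mul cj, map_inv cj, hcs, map_mul, map_inv, inv_eq_of_mul_eq_one_left hθy, ← hηs, hy2]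
  -- transported to the second plane
  have hswap : ∀ x ∈ negS U, D.act σ • x ∈ fixS U := fun x hx => by
    have e1 : D.act σ * U = Z * U * D.act σ := mul_inv_eq_iff_eq_mul.1 (hout σ hσ)
    have e2 : U * D.act σ = Z * (D.act σ * U) := by
      rw [e1, ← mul_assoc, ← mul_assoc, hZ2, one_mul]
    rw [mem_fixS, smul_smul, e2, mul_smul, mul_smul, mem_negS.1 hx, hz, smul_neg, neg_neg]
  have hback : ∀ (g : (Module.End (ZMod q) V)ˣ) (x : V),
      g • x = (D.act σ)⁻¹ • ((D.act σ * g * (D.act σ)⁻¹) • D.act σ • x) := fun g x => by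
    simp only [mul_smul, inv_smul_smul]
  have hfixA : ∀ x ∈ fixS U, D.act (y⁻¹ * (σ * σ)) • x = x := fun x hx => by
    rw [map_mul D.act y⁻¹, mul_smul, map_inv, hyA x hx, inv_smul_smul]
  obtain ⟨b', hb', eb'⟩ : ∃ b' ∈ der (⊤ : Subgroup H) 1, D.act b' = D.act (σ * σ) := by
    have e : σ * σ = y * (y⁻¹ * (σ * σ)) := (mul_inv_cancel_left _ _).symm
    rw [map_mul D.act, map_mul D.act, map_inv] at hconjsign
    rcases hconjsign with h | h
    · refine ⟨y, hy, ?_⟩
      rw [e, map_mul D.act y, show D.act (y⁻¹ * (σ * σ)) = 1 from I.ext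
        (fun x hx => by rw [hfixA x hx, one_smul])
        (fun x hx => by rw [hback, h _ (hswap x hx), inv_smul_smul, one_smul]), mul_one]
    · refine ⟨y * b, mul_mem hy hb, ?_⟩
      rw [e, map_mul D.act y, map_mul D.act y, show D.act (y⁻¹ * (σ * σ)) = U from I.ext
        (fun x hx => by rw [hfixA x hx, mem_fixS.1 hx])
        (fun x hx => by rw [hback, h _ (hswap x hx), smul_neg, inv_smul_smul, mem_negS.1 hx])]
  have h4 : ∀ v : V, D.act (σ ^ 4) • v = -v := by
    have e : D.act (σ ^ 4) = D.act (σ * σ) * D.act (σ * σ) := by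
      rw [← map_mul]
      congr 1
      rw [← pow_two, ← pow_two, ← pow_mul]
    have e' : D.act (σ ^ 4) = Z := I.ext (fun x hx => by rw [e, mul_smul, hs1 x hx, hz])
      fun x hx => by
        have hc4 : D.act σ * D.act (σ ^ 4) * (D.act σ)⁻¹ = D.act (σ ^ 4) := by
          rw [← map_inv, ← map_mul, ← map_mul]
          congr 1
          group
        rw [hback, hc4, e, mul_smul, hs1 _ (hswap x hx), smul_neg, inv_smul_smul, hz]
    exact fun v => by rw [e', hz]
  have hS1 : D.S (σ ^ 4) = D.S z := D.S_congr hF (Units.ext (LinearMap.ext fun v => by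
    show D.act (σ ^ 4) • v = D.act z • v
    rw [h4, hz]))
  have hS2 : D.S (σ * σ) = D.S b' := D.S_congr hF eb'.symm
  refine D.no_eighth hF h4 ?_ ?_
  · have e2 : (D.S σ - 1) ^ 2 = D.S (σ * σ) - 1 := by
      rw [pow_two, map_mul, end_sub (D.S σ) 1, end_sub _ 1, add_mul, mul_add, mul_one, one_mul,
        add_assoc, ← add_assoc (D.S σ) (D.S σ), end_add_self, zero_add]
    have e4 : (D.S σ - 1) ^ 4 = D.S (σ ^ 4) - 1 := by
      rw [show (4 : ℕ) = 2 * 2 from rfl, pow_mul, e2, pow_two, show σ ^ (2 * 2) = σ * σ * (σ * σ) by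
        rw [pow_mul, pow_two, pow_two], map_mul D.S (σ * σ), end_sub _ 1, end_sub _ 1, add_mul,
        mul_add, mul_one, one_mul, add_assoc, ← add_assoc (D.S (σ * σ)) (D.S (σ * σ)), end_add_self,
        zero_add]
    rw [show (7 : ℕ) = 4 + (2 + 1) from rfl, pow_add, pow_add, pow_one, e2, e4, hS1, hS2]
    refine LinearMap.ext fun w => ?_
    rw [Module.End.mul_apply, Module.End.mul_apply, LinearMap.zero_apply]
    exact hc.kill (j := 2) (fun _ _ _ _ => Submodule.mem_top) rfl hzm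
      (step_mem hb' (step_mem (mem_top σ) Submodule.mem_top))
  · rw [I.card_eq, NA.card, NA'.card, hq]
    rfl

/-- A fixed-point-free last term: two steps on a plane of order nine. -/
theorem core_plane [Nontrivial V] (hF : D.Faithful) {z : H} (hz : ∀ v : V, D.act z • v = -v) {m : ℕ}
    (hc : Chain D.S ⊤ ⊤ (m + 2)) (hzm : z ∈ der (⊤ : Subgroup H) (m + 1)) :
    m = 0 ∧ q = 3 ∧ Nat.card V = 9 := by
  classical
  have hW : ∀ g ∈ (⊤ : Subgroup H), ∀ w ∈ (⊤ : Submodule K W), D.S g w ∈ (⊤ : Submodule K W) :=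
    fun _ _ _ _ => Submodule.mem_top
  obtain ⟨v, hv⟩ := exists_ne (0 : V)
  have hz1 : D.act z ≠ 1 := fun h => hv (GrossTwoLength.two_smul_inj D.ne_two (by
    have h' := hz v
    rw [h, one_smul] at h'
    nth_rw 1 [h']
    rw [neg_add_cancel]))
  -- the set of signs
  have hkill : ∀ j, (∀ c ∈ der (⊤ : Subgroup H) j, D.act c = 1 ∨ D.act c = D.act z) →
      j ≤ m → False := by
    intro j h hj
    refine hz1 (Units.ext (LinearMap.ext fun x => ?_))
    refine D.fix_of_signs (A := ⊤) (j := j) (fun c hc' => ?_) z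
      (der_antitone _ (show j + 1 ≤ m + 1 by omega) hzm) x Submodule.mem_top
    rcases h c hc' with e | e
    · exact Or.inl fun y _ => by rw [e, one_smul]
    · exact Or.inr fun y _ => by rw [e, hz]
  by_cases hnine : q = 3 ∧ Nat.card V = 9
  · refine ⟨?_, hnine⟩
    have N : Nine D.β (⊤ : Submodule (ZMod q) V) := ⟨D.geo_two hnine.1, by
      rw [Nat.card_congr Submodule.topEquiv.toEquiv, hnine.2, hnine.1]; rfl,
      fun x _ h => D.nd x fun w => h w Submodule.mem_top⟩
    by_contra hm0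
    refine hkill 1 (fun c hc' => ?_) (by omega)
    let S : Subgroup H :=
      { carrier := {c | D.act c = 1 ∨ D.act c = D.act z}
        one_mem' := Or.inl (map_one _)
        mul_mem' := fun {a b} ha hb => by
          show D.act (a * b) = 1 ∨ D.act (a * b) = D.act z
          rw [map_mul]
          rcases ha with e | e <;> rcases hb with e' | e' <;> rw [e, e']
          · exact Or.inl (one_mul 1)
          · exact Or.inr (one_mul _)
          · exact Or.inr (mul_one _)
          · exact Or.inl (Units.ext (LinearMap.ext fun x => by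
              show (D.act z * D.act z) • x = x
              rw [mul_smul, hz, hz, neg_neg]))
        inv_mem' := fun {a} ha => by
          show D.act a⁻¹ = 1 ∨ D.act a⁻¹ = D.act z
          rw [map_inv]
          rcases ha with e | e <;> rw [e]
          · exact Or.inl inv_one
          · exact Or.inr (inv_eq_of_mul_eq_one_left (Units.ext (LinearMap.ext fun x => by
              show (D.act z * D.act z) • x = x
              rw [mul_smul, hz, hz, neg_neg]))) }
    have hle : der (⊤ : Subgroup H) 1 ≤ S := by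
      rw [der_succ, commutator_le]
      intro a _ b _
      rcases D.commutator_signOn N (a := a) (b := b) (fun _ _ => Submodule.mem_top)
        (fun _ _ => Submodule.mem_top) (fun _ _ => Submodule.mem_top)
        (fun _ _ => Submodule.mem_top) with h | h
      · exact Or.inl (Units.ext (LinearMap.ext fun x => h x Submodule.mem_top))
      · refine Or.inr (Units.ext (LinearMap.ext fun x => ?_))
        show D.act ⁅a, b⁆ • x = D.act z • x
        rw [h x Submodule.mem_top, hz]
    exact hle hc'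
  exfalso
  rcases Nat.eq_zero_or_pos m with rfl | hm
  · refine hkill 0 (fun c _ => (D.signs_top hF hz fun w => ?_).resolve_right hnine) le_rfl
    exact hc.kill (j := 1) hW rfl hzm (step_mem (mem_top c) Submodule.mem_top)
  have hwall : ∀ y ∈ der (⊤ : Subgroup H) m, ∀ y' ∈ der (⊤ : Subgroup H) m, ∀ w,
      (D.S z - 1) ((D.S y - 1) ((D.S y' - 1) w)) = 0 := fun y hy y' hy' w =>
    hc.three hW rfl hzm hy hy' Submodule.mem_top
  have hsq : ∀ y ∈ der (⊤ : Subgroup H) m, D.act y * D.act y = 1 ∨ D.act y * D.act y = D.act z := by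
    intro y hy
    rw [← map_mul]
    refine (D.signs_top hF hz fun w => ?_).resolve_right hnine
    have e : D.S (y * y) - 1 = (D.S y - 1) * (D.S y - 1) := by
      rw [map_mul, end_sub (D.S y) 1, end_sub _ 1, add_mul, mul_add, mul_one, one_mul, add_assoc,
        ← add_assoc (D.S y) (D.S y), end_add_self, zero_add]
    rw [e, Module.End.mul_apply]
    exact hwall y hy y hy w
  set R := D.act.range with hR
  set ε : R := ⟨D.act z, z, rfl⟩ with hε
  set B := (der (⊤ : Subgroup H) m).map D.act.rangeRestrict with hB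
  haveI hBn : B.Normal := Subgroup.Normal.map ⟨fun x hx g => conj_mem_der (mem_top g) hx⟩ _
    D.act.rangeRestrict_surjective
  have hεc : ε ∈ center R := mem_center_iff.2 fun g => Subtype.ext (Units.ext (LinearMap.ext fun x => by
    show ((g : (Module.End (ZMod q) V)ˣ) * D.act z) • x = (D.act z * (g : (Module.End (ZMod q) V)ˣ)) • x
    rw [mul_smul, mul_smul, hz, hz, smul_neg]))
  have hεε : ε * ε = 1 := Subtype.ext (Units.ext (LinearMap.ext fun x => by
    show (D.act z * D.act z) • x = x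
    rw [mul_smul, hz, hz, neg_neg]))
  obtain ⟨u, hu, hu2, hu1, huε, hucomm⟩ := exists_central_involution
    (R := R) (D.twoH.of_surjective _ D.act.rangeRestrict_surjective) hεc hεε (B := B)
    (by
      rw [hB, Subgroup.map_le_iff_le_comap]
      refine (der_antitone _ (show 1 ≤ m from hm)).trans ?_
      rw [der_succ, der_zero, ← map_le_iff_le_comap, map_commutator,
        map_top_of_surjective _ D.act.rangeRestrict_surjective])
    (by
      rintro _ ⟨y, hy, rfl⟩
      rcases hsq y hy with e | e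
      · exact Or.inl (Subtype.ext e)
      · exact Or.inr (Subtype.ext e))
    (fun hle => hz1 (by
      let S : Subgroup H := D.act.ker
      suffices hs : der (⊤ : Subgroup H) (m + 1) ≤ S from hs hzm
      rw [der_succ, commutator_le]
      intro a ha c hc'
      show D.act ⁅a, c⁆ = 1
      rw [map_commutatorElement, commutatorElement_eq_one_iff_mul_comm]
      exact congrArg Subtype.val
        (mem_centralizer_iff.1 (hle (mem_map_of_mem _ hc')) _ (mem_map_of_mem _ ha))))
  obtain ⟨b, hb, rfl⟩ := hu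
  exact D.no_long hF hz hm hc hzm hsq hb (congrArg Subtype.val hu2) (fun e => hu1 (Subtype.ext e))
    (fun e => huε (Subtype.ext e))
    fun c hc' => Units.ext (congrArg (fun r : R => (((r : (Module.End (ZMod q) V)ˣ)) : Module.End (ZMod q) V))
      (hucomm _ (mem_map_of_mem _ hc')).eq.symm)

end Twist

end Cfsg.Agent.TwoLengthDerived
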