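import Cfsg.Agent.Lib.TwoLengthDerived.Restrict
import Cfsg.Agent.Lib.TwoLengthDerived.Core

/-!
# The local theorem

A chain whose last derived term acts non-trivially on the space has two steps, on a plane of order
nine where the group induces a quaternion group, and the group fixes the orthogonal of the plane.
-/

set_option autoImplicit false
set_option linter.unusedSectionVars false
set_option linter.style.haveILetI false

namespace Cfsg.Agent.TwoLengthDerived

open Subgroup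
open GrossTwoLength (IsRot tau plane)
open scoped commutatorElement

variable {q : ℕ} [Fact q.Prime] {K W Q H V : Type*} [Field K] [CharP K 2] [AddCommGroup W]
  [Module K W] [Nontrivial W] [FiniteDimensional K W] [Group Q] [Finite Q] [Group H] [Finite H]
  [AddCommGroup V] [Module (ZMod q) V] [Finite V]

theorem eq_or_eq_of_mem_zpowers {G : Type*} [Group G] {g x : G} (hg : g * g = 1)
    (hx : x ∈ zpowers g) : x = 1 ∨ x = g := by
  obtain ⟨i, rfl⟩ := mem_zpowers_iff.1 hx
  have h2 : g ^ (2 : ℤ) = 1 := by rw [zpow_two, hg]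
  rcases Int.even_or_odd i with ⟨j, rfl⟩ | ⟨j, rfl⟩
  · exact Or.inl (by rw [← two_mul, zpow_mul, h2, one_zpow])
  · exact Or.inr (by rw [zpow_add, zpow_mul, h2, one_zpow, one_mul, zpow_one])

namespace Twist

variable (D : Twist q K W Q H V)

/-- The fixed space of a central involution of the last term is fixed by the group. -/
theorem fix_orth {z : H} (hZ : D.act z * D.act z = 1) (hZc : ∀ h, Commute (D.act h) (D.act z))
    (hneg : negS (D.act z) ≠ ⊥) (h : H)
    (h0 : ∀ w, (D.S z - 1) ((D.S h - 1) w) = 0) : ∀ x ∈ fixS (D.act z), D.act h • x = x := by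
  intro x hx
  have I : Invol D.β (D.act z) := ⟨D.alt, D.nd, D.noTwo, D.ne_two, D.act_iso z, hZ⟩
  have h2 : (2 : ZMod q) ≠ 0 := FittingHeight.Plane.two_ne_zero' D.ne_two
  obtain ⟨g, rfl⟩ := D.cls_surj x
  set g' := D.φ h g with hg'
  have hg'f : D.cls g' ∈ fixS (D.act z) := by
    rw [hg', ← D.act_cls]; exact (mem_of_commute (hZc h)).1 _ hx
  have hTc : (D.S z + 1) * D.S h = D.S z + 1 := by
    have e : (D.S z - 1) * (D.S h - 1) = 0 := LinearMap.ext h0
    rw [end_sub (D.S z) 1, mul_sub, mul_one, sub_eq_zero] at e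
    exact e
  have hc : ∀ u, D.cls u ∈ fixS (D.act z) → Commute (D.π u) (D.S z + 1) := fun u hu =>
    (D.comm_of_fix (mem_fixS.1 hu)).add_right (Commute.one_right _)
  set A := D.π g' + D.π g with hA
  have hAT : A * (D.S z + 1) = 0 := by
    have e : D.π g' * (D.S z + 1) = D.π g * (D.S z + 1) := by
      calc D.π g' * (D.S z + 1) = D.π g' * (D.S z + 1) * D.S h := by rw [mul_assoc, hTc]
        _ = (D.S z + 1) * (D.π g' * D.S h) := by rw [(hc g' hg'f).eq, mul_assoc]
        _ = (D.S z + 1) * (D.S h * D.π g) := by rw [hg', D.twist]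
        _ = _ := by rw [← mul_assoc, hTc, (hc g hx).eq]
    rw [hA, add_mul, e, end_add_self]
  have hAS : A * D.S z = A := by
    rw [mul_add, mul_one, add_eq_zero_iff_eq_neg, end_neg] at hAT
    exact hAT
  have hkey : ∀ v ∈ negS (D.act z), ∃ p, D.cls p = v ∧ A * D.π p = A := by
    intro v hv
    obtain ⟨a, ha⟩ := D.cls_surj ((2 : ZMod q)⁻¹ • v)
    have ha' : D.cls a ∈ negS (D.act z) := ha ▸ Submodule.smul_mem _ _ hv
    refine ⟨a * D.φ z a⁻¹, ?_, ?_⟩
    · rw [D.cls_mul, ← D.act_cls, D.cls_inv, smul_neg, mem_negS.1 ha', neg_neg, ha,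
        ← two_smul (ZMod q), smul_smul, mul_inv_cancel₀ h2, one_smul]
    · have hca : ∀ u, D.cls u ∈ fixS (D.act z) → D.π a * D.π u = D.π u * D.π a := fun u hu => by
        rw [D.conj]
        show D.e (D.cls a) (D.cls u) • _ = _
        rw [D.e_eq_one.2 (I.orth hu ha').1, one_smul]
      have hcA : D.π a * A = A * D.π a := by
        rw [hA, mul_add, add_mul, hca g' hg'f, hca g hx]
      refine D.cancel_S (h := z) ?_
      calc A * D.π (a * D.φ z a⁻¹) * D.S z = A * D.π a * (D.π (D.φ z a⁻¹) * D.S z) := by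
            rw [map_mul]; simp only [mul_assoc]
        _ = D.π a * (A * D.S z) * D.π a⁻¹ := by
            rw [← D.twist, ← hcA]; simp only [mul_assoc]
        _ = A * D.S z := by rw [hAS, hcA, mul_assoc, D.pi_mul_inv, mul_one]
  obtain ⟨v1, hv1, hv10⟩ := (Submodule.ne_bot_iff _).1 hneg
  obtain ⟨v2, hv2, hv12⟩ : ∃ v2 ∈ negS (D.act z), D.e v2 v1 ≠ 1 := by
    by_contra hcon
    push Not at hcon
    exact hv10 (I.nondeg_neg v1 hv1 fun t ht => D.e_eq_one.1 (hcon t ht))
  obtain ⟨p1, hp1, hA1⟩ := hkey v1 hv1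
  obtain ⟨p2, hp2, hA2⟩ := hkey v2 hv2
  have hA0 : A = 0 := by
    have e1 : A * (D.π p2 * D.π p1) = A := by rw [← mul_assoc, hA2, hA1]
    have e2 : A * (D.π p1 * D.π p2) = A := by rw [← mul_assoc, hA1, hA2]
    rw [D.conj, mul_smul_comm, e2, hp1, hp2] at e1
    have e3 : (D.e v2 v1 - 1) • A = 0 := by
      rw [sub_smul, one_smul, sub_eq_zero]; exact e1
    exact (smul_eq_zero.1 e3).resolve_left (sub_ne_zero.2 hv12)
  rw [hA, add_eq_zero_iff_eq_neg, end_neg] at hA0
  rw [D.act_cls]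
  exact D.eq_of_pi_eq hA0

/-- The local theorem. -/
theorem local_plane {n j : ℕ} (hj : j + 1 = n) (hc : Chain D.S ⊤ ⊤ n) {z0 : H}
    (hz0 : z0 ∈ der (⊤ : Subgroup H) j) (hne : D.act z0 ≠ 1) :
    n = 2 ∧ q = 3 ∧ ∃ (t : (Module.End (ZMod q) V)ˣ) (y1 y2 : H), IsRot D.β 2 (D.act y1) ∧
      IsRot D.β 2 (D.act y2) ∧ IsRot D.β 2 (D.act y1 * D.act y2) ∧
      tau 2 (D.act y1) = t ∧ tau 2 (D.act y2) = t ∧ tau 2 (D.act y1 * D.act y2) = t ∧
      (∀ h, D.act h ∈ closure ({D.act y1, D.act y2} : Set (Module.End (ZMod q) V)ˣ)) ∧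
      ∀ z' ∈ der (⊤ : Subgroup H) 1, D.act z' = 1 ∨ D.act z' = t := by
  classical
  haveI : Fact (Nat.Prime 2) := ⟨Nat.prime_two⟩
  subst hj
  have hW : ∀ g ∈ (⊤ : Subgroup H), ∀ w ∈ (⊤ : Submodule K W), D.S g w ∈ (⊤ : Submodule K W) :=
    fun _ _ _ _ => Submodule.mem_top
  obtain ⟨m, rfl⟩ : ∃ m, j = m + 1 := by
    refine ⟨j - 1, (Nat.sub_add_cancel (Nat.pos_of_ne_zero fun e => hne (D.act_eq_one ?_))).symm⟩
    subst e
    refine LinearMap.ext fun w => ?_
    have h := hc.kill (j := 0) hW rfl (w := w) hz0 Submodule.mem_top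
    rw [LinearMap.sub_apply, Module.End.one_apply, sub_eq_zero] at h
    rw [h, Module.End.one_apply]
  -- a central element of the last term
  obtain ⟨z, hzd, hz1, hZc⟩ : ∃ z ∈ der (⊤ : Subgroup H) (m + 1), D.act z ≠ 1 ∧
      ∀ h, Commute (D.act h) (D.act z) := by
    set B := (der (⊤ : Subgroup H) (m + 1)).map D.act.rangeRestrict
    haveI : B.Normal := Subgroup.Normal.map ⟨fun x hx g => conj_mem_der (mem_top g) hx⟩ _
      D.act.rangeRestrict_surjective
    have hB : B ≠ ⊥ := fun h => hne (by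
      have := mem_map_of_mem D.act.rangeRestrict hz0
      rw [show (der (⊤ : Subgroup H) (m + 1)).map D.act.rangeRestrict = ⊥ from h, mem_bot] at this
      exact congrArg Subtype.val this)
    obtain ⟨⟨w, ⟨z, hz, rfl⟩, hwc⟩, hw1⟩ := ne_bot_iff_exists_ne_one.1 (PGroup.inf_center_ne_bot
      (D.twoH.of_surjective _ D.act.rangeRestrict_surjective) B hB)
    exact ⟨z, hz, fun e => hw1 (Subtype.ext (Subtype.ext e)), fun h =>
      congrArg Subtype.val (mem_center_iff.1 hwc (D.act.rangeRestrict h))⟩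
  have hZ2 : D.act z * D.act z = 1 := by
    rw [← map_mul]
    refine D.act_eq_one (LinearMap.ext fun w => ?_)
    rw [map_mul, Module.End.mul_apply, Module.End.one_apply]
    exact hc.sq hW rfl hzd Submodule.mem_top
  have I : Invol D.β (D.act z) := ⟨D.alt, D.nd, D.noTwo, D.ne_two, D.act_iso z, hZ2⟩
  set V1 := negS (D.act z) with hV1
  have hneg : V1 ≠ ⊥ := fun h => hz1 (I.ext (fun x hx => by rw [mem_fixS.1 hx, one_smul])
    fun x hx => by rw [← hV1, h, Submodule.mem_bot] at hx; rw [hx, smul_zero, smul_zero])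
  have hinv : ∀ h : H, ∀ v ∈ V1, D.act h • v ∈ V1 := fun h => (mem_of_commute (hZc h)).2
  haveI := D.nontrivial_fixedSpace V1
  haveI : Nontrivial V1 := Submodule.nontrivial_iff_ne_bot.2 hneg
  obtain ⟨rfl, hq, hcard⟩ := (D.restrict V1 hinv I.nondeg_neg).core_plane
    (D.restrict_faithful V1 hinv I.nondeg_neg) (z := z)
    (fun v => Subtype.ext (mem_negS.1 v.2)) (D.restrict_chain V1 hinv I.nondeg_neg hc) hzd
  have N : Nine D.β V1 := ⟨D.geo_two hq, by rw [hcard, hq]; rfl, I.nondeg_neg⟩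
  have hfix : ∀ h : H, ∀ x ∈ fixS (D.act z), D.act h • x = x := fun h =>
    D.fix_orth hZ2 hZc hneg h fun w => hc.kill (j := 1) hW rfl hzd
      (step_mem (mem_top h) Submodule.mem_top)
  -- equal on the plane, equal everywhere
  have hext : ∀ a b : H, (∀ x ∈ V1, D.act a • x = D.act b • x) → D.act a = D.act b := fun a b h =>
    I.ext (fun x hx => by rw [hfix a x hx, hfix b x hx]) h
  obtain ⟨a, b, hab⟩ : ∃ a b : H, ¬ ∀ x ∈ V1, D.act a • D.act b • x = D.act b • D.act a • x := by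
    by_contra hcon
    push Not at hcon
    refine hz1 ?_
    suffices hle : der (⊤ : Subgroup H) 1 ≤ D.act.ker from hle hzd
    rw [der_succ, commutator_le]
    intro a _ b _
    show D.act ⁅a, b⁆ = 1
    rw [map_commutatorElement, commutatorElement_eq_one_iff_mul_comm, ← map_mul, ← map_mul]
    exact hext _ _ fun x hx => by rw [map_mul, map_mul, mul_smul, mul_smul, hcon a b x hx]
  obtain ⟨i, hi⟩ := D.act_pow_two a
  obtain ⟨k, hk⟩ := D.act_pow_two b
  obtain ⟨l, hl⟩ := D.act_pow_two (a * b)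
  rw [map_mul] at hl
  obtain ⟨ha, hb, hab'⟩ := (N.comm_or (D.act_iso a) (D.act_iso b) (hinv a) (hinv b) hi hk hl).resolve_left hab
  have hsq : ∀ y : H, (∀ x ∈ V1, D.act y • D.act y • x = -x) → D.act y * D.act y = D.act z := by
    intro y hy
    rw [← map_mul]
    exact hext _ _ fun x hx => by rw [map_mul, mul_smul, hy x hx, mem_negS.1 hx]
  have hrot : ∀ y : H, (∀ x ∈ V1, D.act y • D.act y • x = -x) →
      IsRot D.β 2 (D.act y) ∧ tau 2 (D.act y) = D.act z := by
    intro y hy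
    have e : tau 2 (D.act y) = D.act z := (tau_two _).trans (hsq y hy)
    refine ⟨⟨D.act_iso y, ?_, ?_, fun f hf => hfix y f (mem_fixS.2 (e ▸ hf))⟩, e⟩
    · rw [show (2 : ℕ) ^ 2 = 2 * 2 from rfl, pow_mul, pow_two, pow_two, hsq y hy, hZ2]
    · rw [plane, e]
      show Nat.card (negS (D.act z)) = q ^ 2
      rw [← hV1, hcard, hq]; rfl
  have hab'' : ∀ x ∈ V1, D.act (a * b) • D.act (a * b) • x = -x := fun x hx => by
    rw [map_mul]; exact hab' x hx
  refine ⟨rfl, hq, D.act z, a, b, (hrot a ha).1, (hrot b hb).1, ?_, (hrot a ha).2, (hrot b hb).2,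
    ?_, fun h => ?_, fun z' hz' => ?_⟩
  · rw [← map_mul]; exact (hrot _ hab'').1
  · rw [← map_mul]; exact (hrot _ hab'').2
  · set S := closure ({D.act a, D.act b} : Set (Module.End (ZMod q) V)ˣ)
    have haS : D.act a ∈ S := subset_closure (Or.inl rfl)
    have hbS : D.act b ∈ S := subset_closure (Or.inr rfl)
    have hZS : D.act z ∈ S := hsq a ha ▸ mul_mem haS haS
    obtain ⟨t, ht⟩ := D.act_pow_two h
    rcases N.cases (D.act_iso h) (hinv h) ht with e | e | e
    · rw [hext h 1 (fun x hx => by rw [e x hx, map_one, one_smul]), map_one]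
      exact one_mem S
    · rw [hext h z (fun x hx => by rw [e x hx, mem_negS.1 hx])]
      exact hZS
    obtain ⟨c, hc3, hcase⟩ := N.exists_eq (hinv a) (hinv b) (hinv h) ha hb hab' e
    obtain ⟨y, rfl, hyS⟩ : ∃ y : H, D.act y = c ∧ D.act y ∈ S := by
      rcases hc3 with rfl | rfl | rfl
      exacts [⟨a, rfl, haS⟩, ⟨b, rfl, hbS⟩, ⟨a * b, map_mul _ _ _, map_mul D.act a b ▸ mul_mem haS hbS⟩]
    rcases hcase with he | he
    · rw [hext h y he]; exact hyS
    · rw [hext h (z * y) (fun x hx => by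
        rw [he x hx, map_mul, mul_smul, mem_negS.1 (hinv y x hx)]), map_mul]
      exact mul_mem hZS hyS
  · refine eq_or_eq_of_mem_zpowers hZ2 ?_
    suffices hle : der (⊤ : Subgroup H) 1 ≤ (zpowers (D.act z)).comap D.act from hle hz'
    rw [der_succ, commutator_le]
    intro u _ w _
    show D.act ⁅u, w⁆ ∈ zpowers (D.act z)
    rcases D.commutator_signOn N (hinv u) (hinv w) (hinv u⁻¹) (hinv w⁻¹) with e | e
    · rw [hext ⁅u, w⁆ 1 (fun x hx => by rw [e x hx, map_one, one_smul]), map_one]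
      exact one_mem _
    · rw [hext ⁅u, w⁆ z (fun x hx => by rw [e x hx, mem_negS.1 hx])]
      exact mem_zpowers _

end Twist

end Cfsg.Agent.TwoLengthDerived
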