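import Cfsg.Agent.Lib.GrossTwoLength.Bound
import Cfsg.Agent.Lib.TwoLengthDerived.Local

/-!
# The last derived term on a weight

For a 2-group with a chain of `d` steps: on the space of a weight of the centre of a class two
normal `q`-subgroup the last derived term is trivial, or `q = 3` and the term before it induces a
quaternion group of rotations.
-/

set_option autoImplicit false
set_option linter.unusedSectionVars false
set_option linter.style.haveILetI false

namespace Cfsg.Agent.TwoLengthDerived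

open Subgroup
open GrossTwoLength (ClassTwo IsRot tau natCast_card_ne_zero)
open FittingHeight (weightSpace wStab apply_mul apply_eq_of_mem_wStab mapsTo_weightSpace
  mapsTo_weightSpace_of_commute exists_weight)
open scoped commutatorElement

variable {M : Type*} [Group M] {k : Type*} [Field k] {E : Type*} [AddCommGroup E] [Module k E]
  {ρ : M →* Module.End k E}

/-- A chain on an invariant subspace, seen from the subgroup. -/
theorem chain_restrict {P : Subgroup M} {W0 : Submodule k E} {n : ℕ} (hc : Chain ρ P W0 n)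
    {W : Submodule k E} (hW : W ≤ W0) (S : P →* Module.End k W)
    (hS : ∀ (g : P) (w : W), ((S g w : W) : E) = ρ (g : M) (w : E)) : Chain S ⊤ ⊤ n := by
  have key : ∀ i, (Wsp S ⊤ ⊤ i).map W.subtype ≤ Wsp ρ P W0 i := by
    intro i
    induction i with
    | zero => rintro _ ⟨w, -, rfl⟩; exact hW w.2
    | succ i ih =>
      rw [Submodule.map_le_iff_le_comap]
      refine Submodule.span_le.2 ?_
      rintro _ ⟨g, hg, w, hw, rfl⟩
      have hg' : (g : M) ∈ der P i := by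
        have := mem_map_of_mem P.subtype hg
        rwa [map_der, ← MonoidHom.range_eq_map, range_subtype] at this
      show (((S g - 1) w : W) : E) ∈ Wsp ρ P W0 (i + 1)
      rw [LinearMap.sub_apply, Module.End.one_apply, Submodule.coe_sub, hS]
      have h := step_mem (ρ := ρ) hg' (ih (Submodule.mem_map_of_mem hw))
      rwa [LinearMap.sub_apply, Module.End.one_apply] at h
  have h := key n
  rw [hc, le_bot_iff] at h
  exact Submodule.map_injective_of_injective W.injective_subtype (h.trans (Submodule.map_bot _).symm)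

variable {q : ℕ} [Fact q.Prime] {Q Z : Subgroup M} [Finite M] [IsAlgClosed k] [CharP k 2]
  [FiniteDimensional k E]

/-- The form with values in the units. -/
noncomputable def unitForm (h : ClassTwo q Q Z) (χ : Z →* k) :
    (h.pairing χ).Space →+ (h.pairing χ).Space →+ Additive kˣ :=
  AddMonoidHom.mk' (fun x => ((rootsOfUnity q k).subtype.toAdditive).comp ((h.pairing χ).form x))
    fun x x' => AddMonoidHom.ext fun v => by simp

theorem unitForm_inj (h : ClassTwo q Q Z) (χ : Z →* k) {x v x' v' : (h.pairing χ).Space}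
    (e : unitForm h χ x v = unitForm h χ x' v') :
    (h.pairing χ).form x v = (h.pairing χ).form x' v' :=
  Additive.toMul.injective (Subtype.val_injective (congrArg Additive.toMul e))

theorem isRot_unitForm {h : ClassTwo q Q Z} {χ : Z →* k} {d : ℕ}
    {y : (Module.End (ZMod q) (h.pairing χ).Space)ˣ} (hy : IsRot (unitForm h χ) d y) :
    IsRot (h.pairing χ).form d y :=
  ⟨fun x v => unitForm_inj h χ (hy.iso x v), hy.pow, hy.card, hy.fix⟩

/-- The last two derived terms on a weight. -/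
theorem weight_cases (ρ : M →* Module.End k E) (hq2 : q ≠ 2) (h : ClassTwo q Q Z) (χ : Z →* k)
    {v : E} (hv0 : v ≠ 0) (hv : v ∈ weightSpace ρ Z χ) {P : Subgroup M} (hP : IsPGroup 2 P) {d : ℕ}
    (hc : Chain ρ P ⊤ d) :
    ∃ hst : der P (d - 1) ≤ wStab k Z χ, (∀ z (hz : z ∈ der P (d - 1)), h.act χ ⟨z, hst hz⟩ = 1) ∨
      (q = 3 ∧ 2 ≤ d ∧ ∃ (hst2 : der P (d - 2) ≤ wStab k Z χ)
        (t : (Module.End (ZMod q) (h.pairing χ).Space)ˣ)
        (y1 y2 : M) (h1 : y1 ∈ der P (d - 2)) (h2 : y2 ∈ der P (d - 2)),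
        IsRot (h.pairing χ).form 2 (h.act χ ⟨y1, hst2 h1⟩) ∧
        IsRot (h.pairing χ).form 2 (h.act χ ⟨y2, hst2 h2⟩) ∧
        IsRot (h.pairing χ).form 2 (h.act χ ⟨y1, hst2 h1⟩ * h.act χ ⟨y2, hst2 h2⟩) ∧
        tau 2 (h.act χ ⟨y1, hst2 h1⟩) = t ∧ tau 2 (h.act χ ⟨y2, hst2 h2⟩) = t ∧
        tau 2 (h.act χ ⟨y1, hst2 h1⟩ * h.act χ ⟨y2, hst2 h2⟩) = t ∧
        (∀ y (hy : y ∈ der P (d - 2)), h.act χ ⟨y, hst2 hy⟩ ∈
          closure ({h.act χ ⟨y1, hst2 h1⟩, h.act χ ⟨y2, hst2 h2⟩} : Set _)) ∧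
        ∀ z (hz : z ∈ der P (d - 1)),
          h.act χ ⟨z, hst hz⟩ = 1 ∨ h.act χ ⟨z, hst hz⟩ = t) := by
  classical
  haveI : Fact (Nat.Prime 2) := ⟨Nat.prime_two⟩
  haveI := h.normal
  haveI := h.normal_centre
  haveI := Fintype.ofFinite Z
  have hZk : (Fintype.card Z : k) ≠ 0 := by
    rw [← Nat.card_eq_fintype_card]
    exact natCast_card_ne_zero hq2 (h.isPGroup.to_le h.le)
  obtain ⟨j₀, hj₀, hst0, hc0⟩ := orbit hP.isNilpotent (fun g _ => by
      rw [normalizer_eq_top]; exact mem_top g) hZk (fun _ _ _ _ => Submodule.mem_top) hc hv0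
    Submodule.mem_top hv
  set Pg := h.pairing χ with hPg
  set W₀ := weightSpace ρ Z χ with hW₀
  set R0 : Subgroup M := Pg.rad.map Q.subtype with hR0
  have hR0Q : R0 ≤ Q := map_subtype_le _
  have hZR0 : Z ≤ R0 := fun z hz => ⟨⟨z, h.le hz⟩, fun y => by
    rw [hPg, h.pairing_eq_one, ← map_one χ]
    congr 1
    exact Subtype.ext (commutatorElement_eq_one_iff_mul_comm.2 (h.comm hz y.2)), rfl⟩
  have hQW₀ : ∀ g ∈ Q, ∀ w ∈ W₀, ρ g w ∈ W₀ := fun g hg w hw =>
    mapsTo_weightSpace_of_commute ρ (mem_centralizer_iff.2 fun z hz => (h.comm hz hg).symm) hw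
  have hval : ∀ z (hz : z ∈ Z), ∀ w ∈ W₀, ρ z w = χ ⟨z, hz⟩ • w := fun z hz w hw => hw ⟨z, hz⟩
  have hrad : ∀ r ∈ R0, ∀ g, (hg : g ∈ Q) → ∀ (hc : ⁅g, r⁆ ∈ Z), χ ⟨⁅g, r⁆, hc⟩ = 1 := by
    rintro _ ⟨r, hr, rfl⟩ g hg hc
    exact (h.pairing_eq_one χ ⟨g, hg⟩ r).1 (hr ⟨g, hg⟩)
  have hcomm₀ : ∀ a ∈ R0, ∀ b ∈ R0, ∀ w ∈ W₀, ρ a (ρ b w) = ρ b (ρ a w) := by
    intro a ha b hb w hw
    rw [← apply_mul, ← apply_mul, show a * b = ⁅a, b⁆ * (b * a) by group, apply_mul,
      hval _ (h.com a (hR0Q ha) b (hR0Q hb)) _ (hQW₀ _ (hR0Q (mul_mem hb ha)) w hw),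
      hrad b hb a (hR0Q ha), one_smul]
  have hR0k : (Nat.card R0 : k) ≠ 0 := natCast_card_ne_zero hq2 (h.isPGroup.to_le hR0Q)
  obtain ⟨θ, v', hv'W, hv'0, hv'⟩ : ∃ (θ : R0 →* k) (v' : E), v' ∈ W₀ ∧ v' ≠ 0 ∧
      v' ∈ weightSpace ρ R0 θ := by
    by_cases hall : ∀ r : R0, ρ (r : M) v = v
    · exact ⟨1, v, hv, hv0, fun r => by rw [hall r, MonoidHom.one_apply, one_smul]⟩
    · push Not at hall
      obtain ⟨r, hr⟩ := hall
      obtain ⟨θ, v', h1, h2, h3, -⟩ := exists_weight ρ hR0k (fun l hl => hQW₀ l (hR0Q hl)) hcomm₀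
        (l₀ := r) hv hr
      exact ⟨θ, v', h1, h2, h3⟩
  have hθχ : ∀ z (hz : z ∈ Z), θ ⟨z, hZR0 hz⟩ = χ ⟨z, hz⟩ := fun z hz =>
    smul_left_injective k hv'0 ((hv' ⟨z, hZR0 hz⟩).symm.trans (hval z hz v' hv'W))
  have hle : weightSpace ρ R0 θ ≤ W₀ := fun w hw z => by
    rw [show (z : M) = ((⟨(z : M), hZR0 z.2⟩ : R0) : M) from rfl, hw ⟨(z : M), hZR0 z.2⟩, hθχ _ z.2]
  have hR0m : ∀ m ∈ wStab k Z χ, ∀ r ∈ R0, m * r * m⁻¹ ∈ R0 := by
    rintro m hm _ ⟨r, hr, rfl⟩
    refine ⟨⟨m * r * m⁻¹, h.normal.conj_mem _ r.2 _⟩, fun y => ?_, rfl⟩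
    have hiso : Pg.toFun ⟨m * (⟨m⁻¹ * y * m, by
        simpa using h.normal.conj_mem _ y.2 m⁻¹⟩ : Q) * m⁻¹, h.normal.conj_mem _ (by
        simpa using h.normal.conj_mem _ y.2 m⁻¹) _⟩ ⟨m * r * m⁻¹, h.normal.conj_mem _ r.2 _⟩ =
        Pg.toFun _ r := (h.conjIso χ ⟨m, hm⟩).2 _ r
    rw [hr] at hiso
    rw [← hiso]
    congr 1
    exact Subtype.ext (show (y : M) = m * (m⁻¹ * y * m) * m⁻¹ by group)
  haveI := Fintype.ofFinite R0
  have hR0k' : (Fintype.card R0 : k) ≠ 0 := by rwa [← Nat.card_eq_fintype_card]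
  obtain ⟨j₁, hj₁, hst1, hc1⟩ := orbit ((hP.to_le (der_le P j₀)).isNilpotent)
    (fun g hg => GrossTwoLength.Conj.mem_normalizer (X := M) fun r hr => hR0m g (hst0 hg) r hr)
    hR0k' (W₀ := ⊤ ⊓ W₀) (fun g hg w hw => ⟨Submodule.mem_top, by
      obtain ⟨hN, hfix⟩ := hst0 hg
      have := mapsTo_weightSpace ρ hN hw.2
      rwa [hfix] at this⟩) hc0 hv'0 ⟨Submodule.mem_top, hv'W⟩ hv'
  rw [der_der] at hst1 hc1
  set j := j₀ + j₁ with hj
  have hjd : j < d := by omega
  rw [show d - j₀ - j₁ = d - j by omega] at hc1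
  set Hs := der P j with hHs
  have hHst : Hs ≤ wStab k Z χ := (der_antitone P (Nat.le_add_right j₀ j₁)).trans hst0
  set W := weightSpace ρ R0 θ with hW
  haveI : Nontrivial W := ⟨⟨⟨v', hv'⟩, 0, fun e => hv'0 (congrArg Subtype.val e)⟩⟩
  have hQW : ∀ g ∈ Q, ∀ w ∈ W, ρ g w ∈ W := by
    intro g hg w hw r
    have hc : g⁻¹ * r * g ∈ R0 := by
      have : g⁻¹ * r * g = ⁅g⁻¹, (r : M)⁆ * r := by group
      rw [this]
      exact mul_mem (hZR0 (h.com _ (inv_mem hg) _ (hR0Q r.2))) r.2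
    rw [show ρ (r : M) (ρ g w) = ρ g (ρ (g⁻¹ * r * g) w) by
      rw [← apply_mul, ← apply_mul]; congr 2; group, hw ⟨_, hc⟩, map_smul]
    congr 1
    rw [show (⟨g⁻¹ * r * g, hc⟩ : R0) =
        ⟨⁅g⁻¹, (r : M)⁆, hZR0 (h.com _ (inv_mem hg) _ (hR0Q r.2))⟩ * r from
      Subtype.ext (show g⁻¹ * r * g = ⁅g⁻¹, (r : M)⁆ * r by group), map_mul,
      hθχ _ (h.com _ (inv_mem hg) _ (hR0Q r.2)), hrad r r.2 g⁻¹ (inv_mem hg), one_mul]
  have hHW : ∀ g ∈ Hs, ∀ w ∈ W, ρ g w ∈ W := fun g hg w hw => by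
    obtain ⟨hN, hfix⟩ := hst1 hg
    have := mapsTo_weightSpace ρ hN hw
    rwa [hfix] at this
  let π : Q →* Module.End k W :=
    { toFun := fun g => (ρ (g : M)).restrict (hQW g g.2)
      map_one' := LinearMap.ext fun w => Subtype.ext (by
        show ρ ((1 : Q) : M) (w : E) = w
        rw [OneMemClass.coe_one, map_one, Module.End.one_apply])
      map_mul' := fun a b => LinearMap.ext fun w => Subtype.ext (apply_mul ρ (a : M) (b : M) (w : E)) }
  let S : Hs →* Module.End k W :=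
    { toFun := fun g => (ρ (g : M)).restrict (hHW g g.2)
      map_one' := LinearMap.ext fun w => Subtype.ext (by
        show ρ ((1 : Hs) : M) (w : E) = w
        rw [OneMemClass.coe_one, map_one, Module.End.one_apply])
      map_mul' := fun a b => LinearMap.ext fun w => Subtype.ext (apply_mul ρ (a : M) (b : M) (w : E)) }
  let D : Twist q k W Q Hs Pg.Space :=
    { π := π
      S := S
      φ := (MulAut.conjNormal (H := Q)).comp Hs.subtype
      act := (h.act χ).comp (Subgroup.inclusion hHst)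
      cls := Pg.cls
      cls_mul := Pg.cls_mul
      cls_surj := Pg.cls_surjective
      β := unitForm h χ
      alt := fun x => by
        show (rootsOfUnity q k).subtype.toAdditive (Pg.form x x) = 0
        rw [Pg.form_self, map_zero]
      nd := fun x hx => Pg.form_nondeg x fun w => by
        have := hx w
        exact Additive.toMul.injective (Subtype.val_injective (congrArg Additive.toMul this))
      conj := fun g g' => LinearMap.ext fun w => Subtype.ext (by
        have hval' : ev (unitForm h χ) (Pg.cls g) (Pg.cls g') =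
            χ ⟨⁅(g : M), (g' : M)⁆, h.com _ g.2 _ g'.2⟩ := by
          show (((((rootsOfUnity q k).subtype.toAdditive)
            (Pg.form (Pg.cls g) (Pg.cls g'))).toMul : kˣ) : k) = _
          rw [Pg.form_cls]
          exact h.pairing_val χ g g'
        show ρ (g : M) (ρ (g' : M) (w : E)) =
          ev (unitForm h χ) (Pg.cls g) (Pg.cls g') • ρ (g' : M) (ρ (g : M) (w : E))
        rw [hval', ← apply_mul, ← apply_mul,
          show (g : M) * g' = ⁅(g : M), (g' : M)⁆ * ((g' : M) * g) by group, apply_mul,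
          hval _ (h.com _ g.2 _ g'.2) _ (hle (hQW _ (mul_mem g'.2 g.2) _ w.2))])
      ker := fun g hg => ⟨θ ⟨(g : M), mem_map_of_mem Q.subtype (Pg.cls_eq_zero.1 hg)⟩,
        LinearMap.ext fun w => Subtype.ext
          (w.2 ⟨(g : M), mem_map_of_mem Q.subtype (Pg.cls_eq_zero.1 hg)⟩)⟩
      twist := fun m g => LinearMap.ext fun w => Subtype.ext (by
        show ρ (m : M) (ρ (g : M) (w : E)) =
          ρ ((MulAut.conjNormal (m : M) g : Q) : M) (ρ (m : M) (w : E))
        rw [← apply_mul, ← apply_mul, MulAut.conjNormal_apply, inv_mul_cancel_right])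
      act_cls := fun m g => h.act_cls χ (Subgroup.inclusion hHst m) g
      cen := fun a b => mem_center_iff.2 fun g => Subtype.ext (h.comm (h.com _ a.2 _ b.2) g.2)
      ne_two := hq2
      qQ := h.isPGroup
      twoH := hP.to_le (der_le P j) }
  have hcS : Chain D.S ⊤ ⊤ (d - j) :=
    chain_restrict hc1 (W := W) (le_inf (le_inf le_top hle) le_rfl) S fun _ _ => rfl
  have hmem : ∀ (i : ℕ) (y : M) (hy : y ∈ Hs), y ∈ der P (j + i) →
      (⟨y, hy⟩ : Hs) ∈ der (⊤ : Subgroup Hs) i := fun i y hy hyi => by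
    rw [← mem_map_iff_mem Hs.subtype_injective, map_der, ← MonoidHom.range_eq_map, range_subtype]
    show y ∈ der Hs i
    rw [hHs, der_der]
    exact hyi
  have hd1 : der P (d - 1) ≤ Hs := der_antitone P (by omega)
  refine ⟨hd1.trans hHst, ?_⟩
  by_cases hall : ∀ z (hz : z ∈ der P (d - 1)), h.act χ ⟨z, hHst (hd1 hz)⟩ = 1
  · exact Or.inl hall
  refine Or.inr ?_
  push Not at hall
  obtain ⟨z0, hz0, hne⟩ := hall
  obtain ⟨hdj, hq, t, y1, y2, hr1, hr2, hr12, ht1, ht2, ht12, hcl, hz'⟩ :=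
    D.local_plane (n := d - j) (j := d - j - 1) (by omega) hcS
      (z0 := ⟨z0, hd1 hz0⟩) (hmem _ z0 (hd1 hz0) (by
        rw [show j + (d - j - 1) = d - 1 by omega]; exact hz0)) hne
  have hj2 : d - 2 = j := by omega
  have hd2 : der P (d - 2) ≤ Hs := by rw [hj2]
  have hd2' : Hs ≤ der P (d - 2) := by rw [hj2]
  refine ⟨hq, by omega, hd2.trans hHst, t, y1, y2, hd2' y1.2, hd2' y2.2, isRot_unitForm hr1,
    isRot_unitForm hr2, isRot_unitForm hr12, ht1, ht2, ht12, fun y hy => hcl ⟨y, hd2 hy⟩,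
    fun z hz => hz' ⟨z, hd1 hz⟩ (hmem 1 z (hd1 hz) (by
      rw [show j + 1 = d - 1 by omega]; exact hz))⟩

end Cfsg.Agent.TwoLengthDerived
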