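import Cfsg.Agent.Lib.GrossTwoLength.Main
import Cfsg.Agent.Lib.TwoLengthDerived.Weight

/-!
# The last derived terms lie in `O_{2',2}`

`M` solvable, faithful in characteristic two, `O_2(M) = 1`, every 2-subgroup with a chain of `d`
steps: the `d-1`-st derived terms of the 2-subgroups lie in `O_{2',2}(M)`.
-/

set_option autoImplicit false
set_option linter.unusedSectionVars false
set_option linter.style.haveILetI false

namespace Cfsg.Agent.TwoLengthDerived

open Subgroup GrossTwoLength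
open FittingHeight (weightSpace wStab centralizer_le_wStab)
open scoped commutatorElement

/-- The elements of the last derived terms of the 2-subgroups in `N`. -/
def lastGens {M : Type*} [Group M] (N : Subgroup M) (d : ℕ) : Set M :=
  {z | ∃ P : Subgroup M, IsPGroup 2 P ∧ P ≤ N ∧ z ∈ der P (d - 1)}

theorem conj_mem_lastGens {M : Type*} [Group M] {N : Subgroup M} {d : ℕ} {g z : M}
    (hg : g ∈ normalizer (N : Set M)) (hz : z ∈ lastGens N d) : g * z * g⁻¹ ∈ lastGens N d := by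
  obtain ⟨P, hP, hPN, hzP⟩ := hz
  refine ⟨P.map (MulAut.conj g).toMonoidHom, hP.map _, ?_, ?_⟩
  · rintro _ ⟨x, hx, rfl⟩
    exact (mem_normalizer_iff.1 hg x).1 (hPN hx)
  · rw [← map_der]
    exact mem_map_of_mem _ hzP

variable {M : Type*} [Group M] [Finite M] [Group.IsSolvable M] {k : Type*} [Field k] [IsAlgClosed k]
  [CharP k 2] {E : Type*} [AddCommGroup E] [Module k E] [FiniteDimensional k E]

/-- The hypotheses. -/
structure Hyp (ρ : M →* Module.End k E) (d : ℕ) : Prop where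
  faith : ∀ m : M, ρ m = 1 → m = 1
  core : pCore 2 M = ⊥
  two_le : 2 ≤ d
  chain : ∀ P : Subgroup M, IsPGroup 2 P → Chain ρ P ⊤ d

variable {ρ : M →* Module.End k E} {d : ℕ} (D : Hyp ρ d)
include D

theorem Hyp.sq {N : Subgroup M} {z : M} (hz : z ∈ lastGens N d) : z * z = 1 := by
  obtain ⟨P, hP, -, hzP⟩ := hz
  refine D.faith _ (LinearMap.ext fun w => ?_)
  rw [map_mul, Module.End.mul_apply, Module.End.one_apply]
  exact (D.chain P hP).sq (fun _ _ _ _ => Submodule.mem_top) (by have := D.two_le; omega) hzP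
    Submodule.mem_top

theorem Hyp.inv_eq {N : Subgroup M} {z : M} (hz : z ∈ lastGens N d) : z⁻¹ = z :=
  inv_eq_of_mul_eq_one_left (D.sq hz)

theorem Hyp.gens_centralizer_abelian {N : Subgroup M} {q : ℕ} [Fact q.Prime] (hq2 : q ≠ 2)
    {A : Subgroup M} (hA : A.Normal) (hAc : IsMulCommutative A) (hAq : IsPGroup q A) {z : M}
    (hz : z ∈ lastGens N d) : z ∈ centralizer (A : Set M) := by
  obtain ⟨P, hP, -, hzP⟩ := hz
  haveI := hA
  haveI : Fact (Nat.Prime 2) := ⟨Nat.prime_two⟩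
  haveI := Fintype.ofFinite A
  have hAk : (Nat.card A : k) ≠ 0 := natCast_card_ne_zero hq2 hAq
  refine mem_centralizer_iff.2 fun a (ha : a ∈ A) => ?_
  have hmem : a⁻¹ * (z * a * z⁻¹) ∈ A := mul_mem (inv_mem ha) (hA.conj_mem a ha z)
  have h1 := FittingHeight.eq_one_of_forall_weight ρ hAk (l₀ := ⟨_, hmem⟩) (D.faith _)
    fun χ v hv0 hv => by
    obtain ⟨j, hj, hst, -⟩ := orbit hP.isNilpotent (fun g _ => by
        rw [normalizer_eq_top]; exact mem_top g)
      (by rw [← Nat.card_eq_fintype_card]; exact hAk) (fun _ _ _ _ => Submodule.mem_top)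
      (D.chain P hP) hv0 Submodule.mem_top hv
    have hzs : z ∈ wStab k A χ := hst (der_antitone P (by omega) hzP)
    have hc : z * a * z⁻¹ ∈ A := hA.conj_mem a ha z
    rw [show (⟨a⁻¹ * (z * a * z⁻¹), hmem⟩ : A) = (⟨a, ha⟩ : A)⁻¹ * ⟨z * a * z⁻¹, hc⟩ from rfl,
      map_mul, FittingHeight.apply_eq_of_mem_wStab hzs ⟨a, ha⟩ hc, ← map_mul, inv_mul_cancel, map_one]
  have h2 : a⁻¹ * (z * a * z⁻¹) = 1 := h1
  rw [inv_mul_eq_one] at h2
  exact eq_mul_inv_iff_mul_eq.1 h2

theorem Hyp.le_centralizer_abelian {N : Subgroup M} {q : ℕ} [Fact q.Prime] (hq2 : q ≠ 2)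
    {A : Subgroup M} (hA : A.Normal) (hAc : IsMulCommutative A) (hAq : IsPGroup q A) :
    normalClosure (lastGens N d) ≤ centralizer (A : Set M) := by
  haveI := hA
  exact normalClosure_le_normal fun _ hz => D.gens_centralizer_abelian hq2 hA hAc hAq hz

theorem Hyp.le_wStab {N : Subgroup M} {q : ℕ} [Fact q.Prime] (hq2 : q ≠ 2) {Q Z : Subgroup M}
    (h : ClassTwo q Q Z) (χ : Z →* k) : normalClosure (lastGens N d) ≤ wStab k Z χ :=
  (D.le_centralizer_abelian hq2 h.normal_centre ⟨⟨fun a b => Subtype.ext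
    (h.comm b.2 (h.le a.2))⟩⟩ (h.isPGroup.to_le h.le)).trans (centralizer_le_wStab χ)

/-- The last derived terms centralise `O_q` for `q ≠ 3`. -/
theorem Hyp.gens_centralizer_core {N : Subgroup M} {q : ℕ} [Fact q.Prime] (hq2 : q ≠ 2)
    (hq3 : q ≠ 3) {z : M} (hz : z ∈ lastGens N d) : z ∈ centralizer (pCore q M : Set M) := by
  haveI : Fact (Nat.Prime 2) := ⟨Nat.prime_two⟩
  have hco : (orderOf z).Coprime q :=
    ((Nat.coprime_primes Nat.prime_two (Fact.out : q.Prime)).2 (Ne.symm hq2)).coprime_dvd_left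
      (orderOf_dvd_of_pow_eq_one (by rw [pow_two, D.sq hz]))
  refine centralizes_of_weights ρ (natCast_ne_zero_two hq2) D.faith hco
    (fun A hA hAc hAq => D.gens_centralizer_abelian hq2 hA hAc hAq hz) ?_ (pCore q M) inferInstance
    PCore.isPGroup_pCore
  intro Q Z h χ v hv0 hv y x hy hx
  obtain ⟨P, hP, -, hzP⟩ := hz
  obtain ⟨hst, hcase⟩ := weight_cases ρ hq2 h χ hv0 hv hP (D.chain P hP)
  rcases hcase with h1 | ⟨hq, -⟩
  · exact h.val_eq_one_of_act χ (m := ⟨z, hst hzP⟩) (h1 z hzP) hy hx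
  · exact absurd hq hq3

theorem Hyp.le_centralizer_core {N : Subgroup M} {q : ℕ} [Fact q.Prime] (hq2 : q ≠ 2)
    (hq3 : q ≠ 3) : normalClosure (lastGens N d) ≤ centralizer (pCore q M : Set M) :=
  normalClosure_le_normal fun _ hz => D.gens_centralizer_core hq2 hq3 hz

theorem Hyp.commute_step {r : ℕ} [Fact r.Prime] (hr2 : r ≠ 2) {U R0 S : Subgroup M}
    (hU : IsPGroup 2 U) (hR0 : IsPGroup r R0) (hS : IsPGroup 2 S)
    (hR0U : R0 ≤ normalizer (U : Set M)) (hSU : S ≤ normalizer (U : Set M))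
    (hSR : ∀ x ∈ S, Conj x R0) {z g : M} (hz : z ∈ der S (d - 1)) (hg : g ∈ R0) :
    ∀ u ∈ U, g⁻¹ * z * g * z * u = u * (g⁻¹ * z * g * z) := by
  classical
  haveI : Fact (Nat.Prime 2) := ⟨Nat.prime_two⟩
  set L := normalClosure (lastGens (⊤ : Subgroup M) d) with hL
  haveI : L.Normal := normalClosure_normal
  have hzg : z ∈ lastGens (⊤ : Subgroup M) d := ⟨S, hS, le_top, hz⟩
  have hzz : z * z = 1 := D.sq hzg
  have hzinv : z⁻¹ = z := D.inv_eq hzg
  have hzS : z ∈ S := der_le S _ hz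
  set c := g⁻¹ * z * g * z with hcdef
  have hcR : c ∈ R0 := by
    rw [hcdef, show g⁻¹ * z * g * z = g⁻¹ * (z * g * z⁻¹) by rw [hzinv]; group]
    exact mul_mem (inv_mem hg) (hSR z hzS g hg)
  have hzL : z ∈ L := subset_normalClosure hzg
  have hz2L : g⁻¹ * z * g ∈ L := by
    simpa using (inferInstance : L.Normal).conj_mem z hzL g⁻¹
  have hcL : c ∈ L := mul_mem hz2L hzL
  obtain ⟨mc, hmc⟩ : ∃ m, c ^ r ^ m = 1 := by
    obtain ⟨m, hm⟩ := hR0 ⟨c, hcR⟩
    exact ⟨m, congrArg Subtype.val hm⟩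
  have hzc : z * c * z⁻¹ = c⁻¹ := by
    rw [hcdef]
    simp only [mul_inv_rev, inv_inv, hzinv, mul_assoc]
    rw [hzz, mul_one]
  have hR0L : IsPGroup r (R0 ⊓ L : Subgroup M) := hR0.to_le inf_le_left
  have hSL : ∀ y ∈ S, Conj y (R0 ⊓ L) := fun y hy u hu =>
    ⟨hSR y hy u hu.1, (inferInstance : L.Normal).conj_mem u hu.2 y⟩
  -- step A
  have stepA : ∀ q : ℕ, q.Prime → q ≠ 2 → q ≠ r → c ∈ centralizer (pCore q M : Set M) := by
    intro q hq hq2 hqr
    haveI := Fact.mk hq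
    by_cases hq3 : q ≠ 3
    · exact D.le_centralizer_core hq2 hq3 hcL
    push Not at hq3
    have hco : (orderOf c).Coprime q :=
      (((Nat.coprime_primes (Fact.out : r.Prime) hq).2 (Ne.symm hqr)).pow_left mc).coprime_dvd_left
        (orderOf_dvd_of_pow_eq_one hmc)
    refine centralizes_of_weights ρ (natCast_ne_zero_two hq2) D.faith hco
      (fun A hA hAc hAq => D.le_centralizer_abelian hq2 hA hAc hAq hcL) ?_ (pCore q M) inferInstance
      PCore.isPGroup_pCore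
    intro Q Z h χ v hv0 hv y' x' hy' hx'
    have hcS : c ∈ wStab k Z χ := D.le_wStab hq2 h χ hcL
    refine h.val_eq_one_of_act χ (m := ⟨c, hcS⟩) ?_ hy' hx'
    obtain ⟨hst, hcase⟩ := weight_cases ρ hq2 h χ hv0 hv hS (D.chain S hS)
    set ch := h.act χ ⟨c, hcS⟩ with hchd
    set zh := h.act χ ⟨z, hst hz⟩ with hzh
    have hinv : zh * ch * zh⁻¹ = ch⁻¹ := by
      rw [hzh, hchd, ← map_inv, ← map_inv, ← map_mul, ← map_mul]
      congr 1
      exact Subtype.ext hzc
    have hchr : ch ^ r ^ mc = 1 := by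
      rw [hchd, ← map_pow, show (⟨c, hcS⟩ : wStab k Z χ) ^ r ^ mc = 1 from Subtype.ext hmc, map_one]
    refine eq_one_of_inverted hr2 hchr ?_
    have hcommute : zh * ch = ch * zh := by
      rcases hcase with h1 | ⟨-, -, hst2, t, y1, y2, h1, h2, hrot, -, -, ht, -, -, -, hcl⟩
      · rw [hzh, h1 z hz, one_mul, mul_one]
      rcases hcl z hz with e | e
      · rw [hzh, e, one_mul, mul_one]
      rw [hzh, e, ← ht]
      have hqd : q + 1 = 2 ^ 2 := by rw [hq3]; rfl
      have G := h.form_geo χ hq2 le_rfl hqd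
      haveI : Finite (h.pairing χ).Space := inferInstanceAs (Finite (Additive (Q ⧸ (h.pairing χ).rad)))
      let Γ := ((R0 ⊓ L).subgroupOf (wStab k Z χ)).map (h.act χ)
      refine FittingHeight.Plane.centralizes (β := (h.pairing χ).form) G.alt G.nd G.noTwo hq2 le_rfl
        hqd hrot.iso (hrot.tau_sq G) (plane 2 (h.act χ ⟨y1, hst2 h1⟩)) (fun w => mem_plane) hrot.card
        hr2 (Ne.symm hqr) Γ ?_ ?_ ?_ ch ⟨⟨c, hcS⟩, ⟨hcR, hcL⟩, rfl⟩
      · exact hR0L.comap_subtype.map _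
      · rintro _ ⟨m, -, rfl⟩
        exact h.act_iso χ m
      · rintro _ ⟨m, hmm, rfl⟩
        refine ⟨⟨y1, hst2 h1⟩ * m * ⟨y1, hst2 h1⟩⁻¹, hSL y1 (der_le S _ h1) _ hmm, ?_⟩
        rw [map_mul, map_mul, map_inv]
    rw [hcommute, mul_inv_cancel_right] at hinv
    rw [← inv_eq_iff_mul_eq_one, ← hinv]
  -- step B
  have hUL2 : IsPGroup 2 (U ⊓ L : Subgroup M) := hU.to_le inf_le_left
  have hgU : g ∈ normalizer (U : Set M) := hR0U hg
  have hconjUL : ∀ m ∈ normalizer (U : Set M), Conj m (U ⊓ L) := fun m hm u hu =>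
    ⟨(mem_normalizer_iff.1 hm u).1 hu.1, (inferInstance : L.Normal).conj_mem u hu.2 m⟩
  have hcU : c ∈ normalizer (U : Set M) := hR0U hcR
  have stepB : ∀ u ∈ U ⊓ L, u * c * u⁻¹ * c⁻¹ = 1 := by
    intro u hu
    set s := u * c * u⁻¹ * c⁻¹ with hs
    have hsU : s ∈ U := by
      rw [hs, show u * c * u⁻¹ * c⁻¹ = u * (c * u⁻¹ * c⁻¹) by group]
      exact mul_mem hu.1 ((mem_normalizer_iff.1 hcU _).1 (inv_mem hu.1))
    obtain ⟨ms, hms⟩ : ∃ m, s ^ 2 ^ m = 1 := by
      obtain ⟨m, hm⟩ := hU ⟨s, hsU⟩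
      exact ⟨m, congrArg Subtype.val hm⟩
    have hsL : s ∈ L := mul_mem (mul_mem (mul_mem hu.2 hcL) (inv_mem hu.2)) (inv_mem hcL)
    -- the prime `r` itself
    have hsr : s ∈ centralizer (pCore r M : Set M) := by
      by_cases hr3 : r ≠ 3
      · exact D.le_centralizer_core hr2 hr3 hsL
      push Not at hr3
      have hr : r.Prime := Fact.out
      have hco : (orderOf s).Coprime r :=
        (((Nat.coprime_primes Nat.prime_two hr).2 (Ne.symm hr2)).pow_left ms).coprime_dvd_left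
          (orderOf_dvd_of_pow_eq_one hms)
      refine centralizes_of_weights ρ (natCast_ne_zero_two hr2) D.faith hco
        (fun A hA hAc hAq => D.le_centralizer_abelian hr2 hA hAc hAq hsL) ?_ (pCore r M) inferInstance
        PCore.isPGroup_pCore
      intro Q Z h χ v hv0 hv y' x' hy' hx'
      have hst : L ≤ wStab k Z χ := D.le_wStab hr2 h χ
      refine h.val_eq_one_of_act χ (m := ⟨s, hst hsL⟩) ?_ hy' hx'
      set uh := h.act χ ⟨u, hst hu.2⟩ with huh
      set ch := h.act χ ⟨c, hst hcL⟩ with hchd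
      suffices hcu : Commute ch uh by
        rw [show (⟨s, hst hsL⟩ : wStab k Z χ) =
          ⟨u, hst hu.2⟩ * ⟨c, hst hcL⟩ * ⟨u, hst hu.2⟩⁻¹ * ⟨c, hst hcL⟩⁻¹ from Subtype.ext rfl,
          map_mul, map_mul, map_mul, map_inv, map_inv, ← huh, ← hchd, ← hcu.eq]
        group
      by_cases hc1 : ch = 1
      · rw [hc1]; exact Commute.one_left _
      have hchr : ch ^ r ^ mc = 1 := by
        rw [hchd, ← map_pow, show (⟨c, hst hcL⟩ : wStab k Z χ) ^ r ^ mc = 1 from Subtype.ext hmc,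
          map_one]
      -- the conjugate group
      set S2 := S.map (MulAut.conj g⁻¹).toMonoidHom with hS2
      have hS22 : IsPGroup 2 S2 := hS.map _
      have hz2 : g⁻¹ * z * g ∈ der S2 (d - 1) := by
        rw [hS2, ← map_der]
        exact ⟨z, hz, by simp⟩
      obtain ⟨hstS, hcase⟩ := weight_cases ρ hr2 h χ hv0 hv hS (D.chain S hS)
      obtain ⟨hstS2, hcase2⟩ := weight_cases ρ hr2 h χ hv0 hv hS22 (D.chain S2 hS22)
      set zh := h.act χ ⟨z, hstS hz⟩ with hzh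
      set zh2 := h.act χ ⟨g⁻¹ * z * g, hstS2 hz2⟩ with hzh2
      have hche : ch = zh2 * zh := by
        rw [hchd, hzh, hzh2, ← map_mul]; rfl
      have hsq : ∀ {m : M} (hm : m ∈ wStab k Z χ), m * m = 1 →
          h.act χ ⟨m, hm⟩ * h.act χ ⟨m, hm⟩ = 1 := fun hm h2 => by
        rw [← map_mul, show (⟨_, hm⟩ : wStab k Z χ) * ⟨_, hm⟩ = 1 from Subtype.ext h2, map_one]
      have hne : zh ≠ 1 := by
        intro e
        refine hc1 (eq_one_of_inverted hr2 hchr ?_)
        rw [hche, e, mul_one]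
        refine hsq _ ?_
        rw [show g⁻¹ * z * g * (g⁻¹ * z * g) = g⁻¹ * (z * z) * g by group, hzz, mul_one, inv_mul_cancel]
      have hne2 : zh2 ≠ 1 := by
        intro e
        refine hc1 (eq_one_of_inverted hr2 hchr ?_)
        rw [hche, e, one_mul]
        exact hsq _ hzz
      rcases hcase with h1 | ⟨-, -, hs2, t, y1, -, h1, -, hrot, -, -, ht, -, -, -, hcl⟩
      · exact absurd (h1 z hz) hne
      rcases hcase2 with h2 | ⟨-, -, hs2', t', y1', -, h1', -, hrot2, -, -, ht', -, -, -, hcl'⟩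
      · exact absurd (h2 _ hz2) hne2
      have hzt : zh = tau 2 (h.act χ ⟨y1, hs2 h1⟩) := ((hcl z hz).resolve_left hne).trans ht.symm
      have hzt2 : zh2 = tau 2 (h.act χ ⟨y1', hs2' h1'⟩) :=
        ((hcl' _ hz2).resolve_left hne2).trans ht'.symm
      have hqd : r + 1 = 2 ^ 2 := by rw [hr3]; rfl
      have G := h.form_geo χ hr2 le_rfl hqd
      haveI : Finite (h.pairing χ).Space := inferInstanceAs (Finite (Additive (Q ⧸ (h.pairing χ).rad)))
      let ΓU := ((U ⊓ L).subgroupOf (wStab k Z χ)).map (h.act χ)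
      let ΓR := ((R0 ⊓ L).subgroupOf (wStab k Z χ)).map (h.act χ)
      have hconj : ∀ (A : Subgroup M) (m : M) (hm : m ∈ wStab k Z χ), Conj m A →
          Conj (h.act χ ⟨m, hm⟩) ((A.subgroupOf (wStab k Z χ)).map (h.act χ)) := by
        rintro A m hm hA _ ⟨w, hw, rfl⟩
        refine ⟨⟨m, hm⟩ * w * ⟨m, hm⟩⁻¹, hA _ hw, ?_⟩
        rw [map_mul, map_mul, map_inv]
      obtain ⟨y, hy, hye⟩ := der_le S2 _ h1'
      have hy1'U : y1' ∈ normalizer (U : Set M) := by
        rw [← hye]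
        exact mul_mem (mul_mem (inv_mem hgU) (hSU hy)) (inv_mem (inv_mem hgU))
      have hy1'R : Conj y1' R0 := by
        rw [← hye]
        intro w hw
        have e1 := hSR y hy _ (mul_mem (mul_mem hg hw) (inv_mem hg))
        have e2 := mul_mem (mul_mem (inv_mem hg) e1) hg
        rwa [show g⁻¹ * (y * (g * w * g⁻¹) * y⁻¹) * g =
          (MulAut.conj g⁻¹).toMonoidHom y * w * ((MulAut.conj g⁻¹).toMonoidHom y)⁻¹ by
            show _ = g⁻¹ * y * g⁻¹⁻¹ * w * (g⁻¹ * y * g⁻¹⁻¹)⁻¹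
            group] at e2
      have key := rotation_commute G (U := ΓU) (R := ΓR) (hUL2.comap_subtype.map _)
        (by rintro _ ⟨m, -, rfl⟩; exact h.act_iso χ m) (hR0L.comap_subtype.map _)
        (by
          rintro _ ⟨m, hmR, rfl⟩
          exact hconj (U ⊓ L) (m : M) m.2 (hconjUL _ (hR0U hmR.1)))
        hrot hrot2 (hconj (U ⊓ L) _ (hs2 h1) (hconjUL _ (hSU (der_le S _ h1))))
        (hconj (U ⊓ L) _ (hs2' h1') (hconjUL _ hy1'U)) (hconj (R0 ⊓ L) _ (hs2 h1) (hSL _ (der_le S _ h1)))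
        (hconj (R0 ⊓ L) _ (hs2' h1') (fun w hw =>
          ⟨hy1'R w hw.1, (inferInstance : L.Normal).conj_mem w hw.2 _⟩))
        (by
          refine ⟨⟨c, hst hcL⟩⁻¹, inv_mem (show c ∈ R0 ⊓ L from ⟨hcR, hcL⟩), ?_⟩
          rw [map_inv, ← hchd, hche, hzt, hzt2, mul_inv_rev, hrot.tau_inv G, hrot2.tau_inv G])
        (v := uh) ⟨⟨u, hst hu.2⟩, hu, rfl⟩
      have hchinv : ch⁻¹ = tau 2 (h.act χ ⟨y1, hs2 h1⟩) * tau 2 (h.act χ ⟨y1', hs2' h1'⟩) := by
        rw [hche, hzt, hzt2, mul_inv_rev, hrot.tau_inv G, hrot2.tau_inv G]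
      rw [← hchinv] at key
      exact Commute.inv_left_iff.1 key
    -- all the primes
    have hsF : s ∈ centralizer (fittingSubgroup M : Set M) := by
      have hle : fittingSubgroup M ≤ centralizer ({s} : Set M) := by
        rw [Components.fittingSubgroup_eq_iSup_pCore]
        refine iSup_le fun ⟨q, hq⟩ => ?_
        rcases eq_or_ne q 2 with rfl | hq2
        · simp only [D.core, bot_le]
        have hmem : s ∈ centralizer (pCore q M : Set M) := by
          rcases eq_or_ne q r with rfl | hqr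
          · exact hsr
          · have hc' := stepA q (Nat.prime_of_mem_primeFactors hq) hq2 hqr
            haveI : (centralizer (pCore q M : Set M)).Normal := inferInstance
            rw [hs]
            exact mul_mem ((inferInstance : (centralizer (pCore q M : Set M)).Normal).conj_mem c hc' u)
              (inv_mem hc')
        exact fun w hw => mem_centralizer_singleton_iff.2 (mem_centralizer_iff.1 hmem w hw)
      exact mem_centralizer_iff.2 fun w hw => mem_centralizer_singleton_iff.1 (hle hw)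
    have := Subnormal.mem_pCore_of_mem_fittingSubgroup (Components.centralizer_fittingSubgroup_le hsF) hms
    rwa [D.core, mem_bot] at this
  -- `c` centralises `U`
  intro u hu
  set e := u⁻¹ * (c * u * c⁻¹) with he
  have heU : e ∈ U := mul_mem (inv_mem hu) ((mem_normalizer_iff.1 hcU u).1 hu)
  have heL : e ∈ L := by
    rw [he, show u⁻¹ * (c * u * c⁻¹) = u⁻¹ * c * u⁻¹⁻¹ * c⁻¹ by group]
    exact mul_mem ((inferInstance : L.Normal).conj_mem c hcL u⁻¹) (inv_mem hcL)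
  obtain ⟨md, hmd⟩ := hU ⟨e, heU⟩
  have hcomm : c * e = e * c := by
    have h1 := stepB e ⟨heU, heL⟩
    rw [mul_inv_eq_one, mul_inv_eq_iff_eq_mul] at h1
    exact h1.symm
  have h1 : e = 1 := FittingHeight.eq_one_of_conj_eq_mul (x := u) (c := c)
    (((((Nat.coprime_primes Nat.prime_two (Fact.out : r.Prime)).2 (Ne.symm hr2)).pow md
      mc).coprime_dvd_left (orderOf_dvd_of_pow_eq_one (congrArg Subtype.val hmd))).coprime_dvd_right
      (orderOf_dvd_of_pow_eq_one hmc))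
    (by rw [he, mul_inv_cancel_left]) hcomm
  rw [he, inv_mul_eq_one] at h1
  exact mul_inv_eq_iff_eq_mul.1 h1.symm

/-- The last derived terms lie in `O_{2',2}(M)`. -/
theorem Hyp.mem_pPrimePCore {P : Subgroup M} (hP : IsPGroup 2 P) {z₀ : M}
    (hz₀ : z₀ ∈ der P (d - 1)) : z₀ ∈ pPrimePCore 2 M := by
  classical
  haveI : Fact (Nat.Prime 2) := ⟨Nat.prime_two⟩
  set N := pPrimeCore 2 M with hN
  set K := pPrimePCore 2 M with hK
  haveI hKn : K.Normal := PCore.pPrimePCore_normal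
  set π := QuotientGroup.mk' K with hπ
  have hπs : Function.Surjective π := QuotientGroup.mk'_surjective K
  haveI : Group.IsSolvable (M ⧸ K) := inferInstance
  -- `O_2(M/K) = 1`
  have hX2 : pCore 2 (M ⧸ K) = ⊥ := by
    let f : M ⧸ N →* M ⧸ K := QuotientGroup.map N K (MonoidHom.id M) PCore.pPrimeCore_le_pPrimePCore
    have hfs : Function.Surjective f := fun u => by
      obtain ⟨m, rfl⟩ := hπs u
      exact ⟨(m : M ⧸ N), rfl⟩
    have hker : f.ker ≤ pCore 2 (M ⧸ N) := by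
      intro u hu
      obtain ⟨m, rfl⟩ := QuotientGroup.mk'_surjective N u
      exact ((QuotientGroup.eq_one_iff m).1 hu : m ∈ K)
    haveI : ((pCore 2 (M ⧸ K)).comap f).Normal := Normal.comap inferInstance f
    have hp : IsPGroup 2 ((pCore 2 (M ⧸ K)).comap f) :=
      (PCore.isPGroup_pCore (p := 2) (G := M ⧸ K)).comap_of_ker_isPGroup f
        ((PCore.isPGroup_pCore (p := 2) (G := M ⧸ N)).to_le hker)
    refine (eq_bot_iff_forall _).2 fun u hu => ?_
    obtain ⟨w, rfl⟩ := hfs u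
    obtain ⟨m, rfl⟩ := QuotientGroup.mk'_surjective N w
    exact (QuotientGroup.eq_one_iff m).2 (PCore.le_pCore hp hu : m ∈ K)
  suffices hsuff : ∀ r : ℕ, r.Prime → r ≠ 2 → ∀ g : M, π g ∈ pCore r (M ⧸ K) →
      Commute (π z₀) (π g) by
    have hC : π z₀ ∈ centralizer (fittingSubgroup (M ⧸ K) : Set (M ⧸ K)) := by
      have hle : fittingSubgroup (M ⧸ K) ≤ centralizer ({π z₀} : Set (M ⧸ K)) := by
        rw [Components.fittingSubgroup_eq_iSup_pCore]
        refine iSup_le fun ⟨r, hr⟩ => ?_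
        rcases eq_or_ne r 2 with rfl | hr2
        · simp only [hX2, bot_le]
        intro u hu
        obtain ⟨g, rfl⟩ := hπs u
        exact mem_centralizer_singleton_iff.2
          (hsuff r (Nat.prime_of_mem_primeFactors hr) hr2 g hu).eq.symm
      exact mem_centralizer_iff.2 fun u hu => mem_centralizer_singleton_iff.1 (hle hu)
    have h2 : π z₀ ∈ pCore 2 (M ⧸ K) :=
      Subnormal.mem_pCore_of_mem_fittingSubgroup (k := 1)
        (Components.centralizer_fittingSubgroup_le hC)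
        (by rw [pow_one, pow_two, ← map_mul, D.sq ⟨P, hP, le_top (α := Subgroup M), hz₀⟩, map_one])
    rw [hX2, mem_bot] at h2
    exact (QuotientGroup.eq_one_iff _).1 h2
  intro r hr hr2 g₀ hg₀
  haveI := Fact.mk hr
  -- the 2-group `U` and the `r`-group `R0`
  obtain ⟨PK⟩ := (inferInstance : Nonempty (Sylow 2 K))
  set U := (PK : Subgroup K).map K.subtype with hUdef
  have hU2 : IsPGroup 2 U := PK.2.map _
  set M1 := normalizer (U : Set M) with hM1
  have hdecK : ∀ m : M, ∃ n ∈ M1, ∃ b ∈ K, m = n * b := fun m => by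
    obtain ⟨n, hn, b, hb, hnb⟩ := (mem_sup_of_normal_right (s := M1) (t := K)).1
      ((Sylow.normalizer_sup_eq_top PK).ge (mem_top m))
    exact ⟨n, hn, b, hb, hnb.symm⟩
  have hπK : ∀ b ∈ K, π b = 1 := fun b hb => (QuotientGroup.eq_one_iff b).2 hb
  set P1 := (pCore r (M ⧸ K)).comap π with hP1
  haveI hP1n : P1.Normal := Normal.comap inferInstance π
  set N1 := P1.subgroupOf M1 with hN1
  haveI hN1n : N1.Normal := hP1n.comap _
  obtain ⟨Sr⟩ := (inferInstance : Nonempty (Sylow r N1))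
  set R0' := (Sr : Subgroup N1).map N1.subtype with hR0'
  set R0 := R0'.map M1.subtype with hR0
  have hR0r : IsPGroup r R0 := (Sr.2.map _).map _
  let fN : N1 →* pCore r (M ⧸ K) :=
    (π.comp (M1.subtype.comp N1.subtype)).codRestrict (pCore r (M ⧸ K)) fun a => a.2
  have hfN : Function.Surjective fN := by
    rintro ⟨u, hu⟩
    obtain ⟨m, rfl⟩ := hπs u
    obtain ⟨n, hn, b, hb, rfl⟩ := hdecK m
    have hu' : n ∈ P1 := by
      show π n ∈ pCore r (M ⧸ K)
      rwa [map_mul, hπK b hb, mul_one] at hu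
    exact ⟨⟨⟨n, hn⟩, hu'⟩, Subtype.ext (by
      show π n = π (n * b)
      rw [map_mul, hπK b hb, mul_one])⟩
  have hrep : ∀ m : M, π m ∈ pCore r (M ⧸ K) → ∃ g ∈ R0, π g = π m := by
    intro m hm
    obtain ⟨a, ha, haf⟩ :=
      (map_eq_of_isPGroup_image fN hfN PCore.isPGroup_pCore Sr).ge (mem_top ⟨π m, hm⟩)
    exact ⟨((a : M1) : M), ⟨a, ⟨a, ha, rfl⟩, rfl⟩, congrArg Subtype.val haf⟩
  -- a Sylow subgroup of the normaliser of `R0`
  set NR := normalizer (R0' : Set M1) with hNR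
  let φ : NR →* M ⧸ K := π.comp (M1.subtype.comp NR.subtype)
  have hφs : Function.Surjective φ := by
    intro u
    obtain ⟨m, rfl⟩ := hπs u
    obtain ⟨n, hn, b, hb, hnb⟩ := hdecK m
    obtain ⟨n', hn', p, hp, hnp⟩ := (mem_sup_of_normal_right (s := NR) (t := N1)).1
      ((Sylow.normalizer_sup_eq_top Sr).ge (mem_top (⟨n, hn⟩ : M1)))
    obtain ⟨g1, ⟨g1', hg1', hg1eq⟩, hπg1⟩ := hrep (p : M) hp
    refine ⟨⟨n' * g1', mul_mem hn' (le_normalizer hg1')⟩, ?_⟩
    have hg1v : ((g1' : M1) : M) = g1 := hg1eq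
    show π ((n' * g1' : M1) : M) = π m
    rw [Subgroup.coe_mul, map_mul, hg1v, hπg1, ← map_mul, ← Subgroup.coe_mul, hnp, hnb, map_mul,
      hπK b hb, mul_one]
  obtain ⟨T⟩ := (inferInstance : Nonempty (Sylow 2 NR))
  set S := ((T : Subgroup NR).map NR.subtype).map M1.subtype with hS
  have hS2 : IsPGroup 2 S := (T.2.map _).map _
  have hSM1 : S ≤ M1 := map_subtype_le _
  have hSR : ∀ x ∈ S, Conj x R0 := by
    rintro _ ⟨_, ⟨x, -, rfl⟩, rfl⟩ _ ⟨w, hw, rfl⟩
    exact ⟨_, (mem_normalizer_iff.1 x.2 w).1 hw, rfl⟩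
  -- the image of `P`
  obtain ⟨TP, hTP⟩ := (hP.map π).exists_le_sylow
  obtain ⟨γ, hγ⟩ := MulAction.exists_smul_eq (M ⧸ K) (T.mapSurjective hφs) TP
  have hPS : P.map π ≤ (S.map π).map (MulAut.conj γ).toMonoidHom := by
    intro x hx
    have hx' : x ∈ (γ • T.mapSurjective hφs : Sylow 2 (M ⧸ K)) := hγ ▸ hTP hx
    replace hx' : x ∈ ((γ • T.mapSurjective hφs : Sylow 2 (M ⧸ K)) : Subgroup (M ⧸ K)) := hx'
    rw [Sylow.coe_subgroup_smul] at hx'
    obtain ⟨w, hw, rfl⟩ := Subgroup.mem_smul_pointwise_iff_exists _ _ _ |>.1 hx'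
    obtain ⟨t, ht, rfl⟩ : ∃ t ∈ (T : Subgroup NR), φ t = w := hw
    exact ⟨_, ⟨_, ⟨_, ⟨t, ht, rfl⟩, rfl⟩, rfl⟩, rfl⟩
  have hmem : π z₀ ∈ ((der S (d - 1)).map π).map (MulAut.conj γ).toMonoidHom := by
    rw [map_der, map_der]
    refine der_mono hPS _ ?_
    rw [← map_der]
    exact mem_map_of_mem π hz₀
  obtain ⟨_, ⟨z, hz, rfl⟩, hγz⟩ := hmem
  obtain ⟨g, hgR, hπg⟩ : ∃ g ∈ R0, π g = γ⁻¹ * π g₀ * γ := by
    obtain ⟨m, hm⟩ := hπs (γ⁻¹ * π g₀ * γ)
    rw [← hm]
    refine hrep m ?_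
    rw [hm]
    simpa using (inferInstance : (pCore r (M ⧸ K)).Normal).conj_mem _ hg₀ γ⁻¹
  suffices hcK : π (g⁻¹ * z * g * z) = 1 by
    have hzz : π z * π z = 1 := by
      rw [← map_mul, D.sq ⟨S, hS2, le_top (α := Subgroup M), hz⟩, map_one]
    rw [map_mul, map_mul, map_mul, map_inv, mul_eq_one_iff_eq_inv, inv_eq_of_mul_eq_one_left hzz,
      mul_assoc, inv_mul_eq_iff_eq_mul] at hcK
    rw [← hγz]
    show Commute (γ * π z * γ⁻¹) (π g₀)
    have e : π g₀ = γ * π g * γ⁻¹ := by rw [hπg]; group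
    rw [e]
    show γ * π z * γ⁻¹ * (γ * π g * γ⁻¹) = γ * π g * γ⁻¹ * (γ * π z * γ⁻¹)
    rw [show γ * π z * γ⁻¹ * (γ * π g * γ⁻¹) = γ * (π z * π g) * γ⁻¹ by group, hcK]
    group
  have hcentU := D.commute_step hr2 hU2 hR0r hS2 (map_subtype_le _) hSM1 hSR hz hgR
  -- hence in `K`
  refine hπK _ ?_
  set c := g⁻¹ * z * g * z
  have hC : (c : M ⧸ N) ∈ centralizer (pCore 2 (M ⧸ N) : Set (M ⧸ N)) := by
    refine mem_centralizer_iff.2 fun u hu => ?_
    let f : K →* pCore 2 (M ⧸ N) :=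
      ((QuotientGroup.mk' N).comp K.subtype).codRestrict (pCore 2 (M ⧸ N)) fun b => b.2
    have hfs : Function.Surjective f := by
      rintro ⟨w, hw⟩
      obtain ⟨m, rfl⟩ := QuotientGroup.mk'_surjective N w
      exact ⟨⟨m, hw⟩, rfl⟩
    obtain ⟨b, hb, hbu⟩ :=
      (map_eq_of_isPGroup_image f hfs PCore.isPGroup_pCore PK).ge (mem_top ⟨u, hu⟩)
    have hbv : ((b : M) : M ⧸ N) = u := congrArg Subtype.val hbu
    rw [← hbv, ← QuotientGroup.mk_mul, ← QuotientGroup.mk_mul,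
      hcentU (b : M) ⟨b, hb, rfl⟩]
  exact PCore.centralizer_pCore_le_of_isSolvable PCore.pPrimeCore_quotient_self_eq_bot hC

end Cfsg.Agent.TwoLengthDerived
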