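import Cfsg.Agent.Lib.TwoLengthExponent.Geometry
import Cfsg.Agent.Lib.TwoLengthDerived.LastTerm

/-!
# The last derived terms of the 2-subgroups of the normaliser of a 2-group

`U` a 2-group containing the last derived terms of the 2-subgroups of its normaliser: these
generate an elementary abelian group, centralised by the elements of the derived terms before,
as far as it meets them.
-/

set_option autoImplicit false
set_option linter.unusedSectionVars false
set_option linter.style.haveILetI false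

namespace Cfsg.Agent.TwoLengthDerived

open Subgroup GrossTwoLength
open FittingHeight (weightSpace wStab)
open scoped commutatorElement

variable {M : Type*} [Group M] [Finite M] [Group.IsSolvable M] {k : Type*} [Field k] [IsAlgClosed k]
  [CharP k 2] {E : Type*} [AddCommGroup E] [Module k E] [FiniteDimensional k E]

/-- The subgroup generated by the last derived terms. -/
def lastGroup {M : Type*} [Group M] (N : Subgroup M) (d : ℕ) : Subgroup M :=
  closure (lastGens N d)

theorem conj_mem_lastGroup {M : Type*} [Group M] {N : Subgroup M} {d : ℕ} {g a : M}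
    (hg : g ∈ normalizer (N : Set M)) (ha : a ∈ lastGroup N d) : g * a * g⁻¹ ∈ lastGroup N d := by
  have : lastGroup N d ≤ (lastGroup N d).comap (MulAut.conj g).toMonoidHom :=
    (closure_le _).2 fun z hz => subset_closure (conj_mem_lastGens hg hz)
  exact this ha

theorem lastGroup_le_normalClosure {M : Type*} [Group M] (N : Subgroup M) (d : ℕ) :
    lastGroup N d ≤ normalClosure (lastGens N d) :=
  (closure_le _).2 subset_normalClosure

/-- The hypotheses: the last derived terms of the 2-subgroups of the normaliser lie in `U`. -/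
structure NHyp (ρ : M →* Module.End k E) (U : Subgroup M) (d : ℕ) : Prop extends Hyp ρ d where
  two : IsPGroup 2 U
  mem : lastGens (normalizer (U : Set M)) d ⊆ U

variable {ρ : M →* Module.End k E} {U : Subgroup M} {d : ℕ} (D : NHyp ρ U d)
include D

theorem NHyp.lastGroup_le : lastGroup (normalizer (U : Set M)) d ≤ U := (closure_le _).2 D.mem

theorem NHyp.group_le_wStab {q : ℕ} [Fact q.Prime] (hq2 : q ≠ 2) {Q Z : Subgroup M}
    (h : ClassTwo q Q Z) (χ : Z →* k) : lastGroup (normalizer (U : Set M)) d ≤ wStab k Z χ :=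
  (lastGroup_le_normalClosure _ _).trans (D.toHyp.le_wStab hq2 h χ)

/-- An element of the group trivial on all weights is trivial. -/
theorem NHyp.eq_one_of_act {s : M} (hs : s ∈ lastGroup (normalizer (U : Set M)) d)
    (h1 : ∀ (q : ℕ) (_ : Fact q.Prime) (hq2 : q ≠ 2) (Q Z : Subgroup M) (h : ClassTwo q Q Z)
      (χ : Z →* k) (v : E), v ≠ 0 → v ∈ weightSpace ρ Z χ →
      h.act χ ⟨s, D.group_le_wStab hq2 h χ hs⟩ = 1) : s = 1 := by
  haveI : Fact (Nat.Prime 2) := ⟨Nat.prime_two⟩
  obtain ⟨m, hm⟩ := D.two ⟨s, D.lastGroup_le hs⟩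
  have hsm : s ^ 2 ^ m = 1 := congrArg Subtype.val hm
  have hle : fittingSubgroup M ≤ centralizer ({s} : Set M) := by
    rw [Components.fittingSubgroup_eq_iSup_pCore]
    refine iSup_le fun ⟨q, hq⟩ => ?_
    rcases eq_or_ne q 2 with rfl | hq2
    · simp only [D.core, bot_le]
    haveI := Fact.mk (Nat.prime_of_mem_primeFactors hq)
    have hco : (orderOf s).Coprime q :=
      (((Nat.coprime_primes Nat.prime_two (Fact.out : q.Prime)).2 (Ne.symm hq2)).pow_left
        m).coprime_dvd_left (orderOf_dvd_of_pow_eq_one hsm)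
    have hmem := centralizes_of_weights ρ (natCast_ne_zero_two hq2) D.faith hco
      (fun A hA hAc hAq => D.toHyp.le_centralizer_abelian hq2 hA hAc hAq
        (lastGroup_le_normalClosure _ _ hs))
      (fun Q Z h χ v hv0 hv y x hy hx =>
        h.val_eq_one_of_act χ (h1 q inferInstance hq2 Q Z h χ v hv0 hv) hy hx)
      (pCore q M) inferInstance PCore.isPGroup_pCore
    exact fun w hw => mem_centralizer_singleton_iff.2 (mem_centralizer_iff.1 hmem w hw)
  have hF : s ∈ centralizer (fittingSubgroup M : Set M) :=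
    mem_centralizer_iff.2 fun w hw => mem_centralizer_singleton_iff.1 (hle hw)
  have := Subnormal.mem_pCore_of_mem_fittingSubgroup (Components.centralizer_fittingSubgroup_le hF) hsm
  rwa [D.core, mem_bot] at this

/-- Two of the generators commute. -/
theorem NHyp.gens_commute {z z' : M} (hz : z ∈ lastGens (normalizer (U : Set M)) d)
    (hz' : z' ∈ lastGens (normalizer (U : Set M)) d) : Commute z z' := by
  classical
  haveI : Fact (Nat.Prime 2) := ⟨Nat.prime_two⟩
  set M1 := normalizer (U : Set M) with hM1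
  set A := lastGroup M1 d with hA
  have hzA : z ∈ A := subset_closure hz
  have hzA' : z' ∈ A := subset_closure hz'
  have hmem : ⁅z, z'⁆ ∈ A :=
    mul_mem (mul_mem (mul_mem hzA hzA') (inv_mem hzA)) (inv_mem hzA')
  refine commutatorElement_eq_one_iff_mul_comm.1 (D.eq_one_of_act hmem ?_)
  intro q hqF hq2 Q Z h χ v hv0 hv
  have hst := D.group_le_wStab hq2 h χ
  rw [show (⟨⁅z, z'⁆, hst hmem⟩ : wStab k Z χ) = ⁅(⟨z, hst hzA⟩ : wStab k Z χ), (⟨z', hst hzA'⟩ : wStab k Z χ)⁆ from rfl,
    map_commutatorElement, commutatorElement_eq_one_iff_mul_comm]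
  obtain ⟨P, hP, hPN, hzP⟩ := hz
  obtain ⟨P', hP', hPN', hzP'⟩ := hz'
  obtain ⟨hs1, hcase⟩ := weight_cases ρ hq2 h χ hv0 hv hP (D.chain P hP)
  obtain ⟨hs1', hcase'⟩ := weight_cases ρ hq2 h χ hv0 hv hP' (D.chain P' hP')
  rcases hcase with h1 | ⟨hq, -, hs2, t, y1, y2, h1, h2, hr1, hr2, hr12, ht1, ht2, ht12, -, hcl⟩
  · rw [h1 z hzP, one_mul, mul_one]
  rcases hcase' with h1' | ⟨-, -, hs2', t', y, -, hy, -, hr, -, -, ht, -, -, -, hcl'⟩
  · rw [h1' z' hzP', one_mul, mul_one]
  rcases hcl z hzP with e | e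
  · rw [e, one_mul, mul_one]
  rcases hcl' z' hzP' with e' | e'
  · rw [e', one_mul, mul_one]
  rw [e, e', ← ht1, ← ht]
  have hqd : q + 1 = 2 ^ 2 := by rw [hq]; rfl
  have G := h.form_geo χ hq2 le_rfl hqd
  haveI : Finite (h.pairing χ).Space := inferInstanceAs (Finite (Additive (Q ⧸ (h.pairing χ).rad)))
  let Γ := (M1.subgroupOf (wStab k Z χ)).map (h.act χ)
  let O := (A.subgroupOf (wStab k Z χ)).map (h.act χ)
  have hAU : A ≤ U := D.lastGroup_le
  have hsolv : Group.IsSolvable Γ :=
    Group.isSolvable_of_surjective (f := (h.act χ).subgroupMap (M1.subgroupOf (wStab k Z χ)))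
      (MonoidHom.subgroupMap_surjective _ _)
  refine (tau_commute_of_quaternion G hsolv ?_ (O := O) ((D.two.to_le hAU).comap_subtype.map _)
    (map_mono fun a ha => le_normalizer (hAU ha)) ?_ hr1 hr2 hr12 (ht2.trans ht1.symm)
    (ht12.trans ht1.symm) ⟨⟨y1, hs2 h1⟩, hPN (der_le P _ h1), rfl⟩
    ⟨⟨y2, hs2 h2⟩, hPN (der_le P _ h2), rfl⟩ hr ⟨⟨y, hs2' hy⟩, hPN' (der_le P' _ hy), rfl⟩
    ?_ ?_).eq
  · rintro _ ⟨m, -, rfl⟩
    exact h.act_iso χ m
  · rintro _ ⟨m, hm, rfl⟩ _ ⟨a, ha, rfl⟩
    exact ⟨m * a * m⁻¹, conj_mem_lastGroup (le_normalizer hm) ha, by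
      rw [map_mul, map_mul, map_inv]⟩
  · rw [ht1, ← e]
    exact ⟨⟨z, hst hzA⟩, hzA, rfl⟩
  · rw [ht, ← e']
    exact ⟨⟨z', hst hzA'⟩, hzA', rfl⟩

theorem NHyp.lastGroup_commute {a b : M} (ha : a ∈ lastGroup (normalizer (U : Set M)) d)
    (hb : b ∈ lastGroup (normalizer (U : Set M)) d) : Commute a b := by
  induction ha, hb using closure_induction₂ with
  | mem x y hx hy => exact D.gens_commute hx hy
  | one_left y hy => exact Commute.one_left y
  | one_right x hx => exact Commute.one_right x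
  | mul_left x y z hx hy hz h1 h2 => exact h1.mul_left h2
  | mul_right y z x hy hz hx h1 h2 => exact h1.mul_right h2
  | inv_left x y hx hy h => exact h.inv_left
  | inv_right x y hx hy h => exact h.inv_right

theorem NHyp.lastGroup_sq {a : M} (ha : a ∈ lastGroup (normalizer (U : Set M)) d) : a * a = 1 := by
  induction ha using closure_induction with
  | mem x hx => exact D.toHyp.sq hx
  | one => exact one_mul 1
  | mul x y hx hy h1 h2 =>
    rw [show x * y * (x * y) = x * (y * x) * y by group, (D.lastGroup_commute hy hx).eq,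
      show x * (x * y) * y = x * x * (y * y) by group, h1, h2, one_mul]
  | inv x hx h => rw [← mul_inv_rev, h, inv_one]

/-- The derived term before the last centralises what it meets of the group. -/
theorem NHyp.commute_term {P : Subgroup M} (hP : IsPGroup 2 P) (hPN : P ≤ normalizer (U : Set M))
    {w y : M} (hwA : w ∈ lastGroup (normalizer (U : Set M)) d) (hw : w ∈ der P (d - 2))
    (hy : y ∈ der P (d - 2)) : Commute y w := by
  classical
  haveI : Fact (Nat.Prime 2) := ⟨Nat.prime_two⟩
  set M1 := normalizer (U : Set M) with hM1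
  set A := lastGroup M1 d with hA
  have hyA : y * w * y⁻¹ ∈ A := conj_mem_lastGroup (le_normalizer (hPN (der_le P _ hy))) hwA
  have hcA : ⁅y, w⁆ ∈ A := mul_mem hyA (inv_mem hwA)
  have hcd : ⁅y, w⁆ ∈ der P (d - 1) := by
    have := commutator_mem_der hy hw
    rwa [show d - 2 + 1 = d - 1 by have := D.two_le; omega] at this
  refine commutatorElement_eq_one_iff_mul_comm.1 (D.eq_one_of_act hcA ?_)
  intro q hqF hq2 Q Z h χ v hv0 hv
  have hst := D.group_le_wStab hq2 h χ
  obtain ⟨hs1, hcase⟩ := weight_cases ρ hq2 h χ hv0 hv hP (D.chain P hP)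
  rcases hcase with h1 | ⟨hq, -, hs2, t, y1, y2, hy1, hy2, hr1, hr2, -, ht1, ht2, -, hgen, hcl⟩
  · exact h1 _ hcd
  rcases hcl _ hcd with e | e
  · exact e
  have hqd : q + 1 = 2 ^ 2 := by rw [hq]; rfl
  have G := h.form_geo χ hq2 le_rfl hqd
  haveI : Finite (h.pairing χ).Space := inferInstanceAs (Finite (Additive (Q ⧸ (h.pairing χ).rad)))
  set wh := h.act χ ⟨w, hs2 hw⟩ with hwh
  have hw2 : wh * wh = 1 := by
    rw [hwh, ← map_mul]
    exact (congrArg _ (Subtype.ext (D.lastGroup_sq hwA))).trans (map_one _)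
  have hwt : Commute wh t := by
    rw [hwh, ← e, Commute, SemiconjBy, ← map_mul, ← map_mul]
    exact congrArg _ (Subtype.ext (D.lastGroup_commute hwA hcA).eq)
  have hcy : Commute (h.act χ ⟨y, hs2 hy⟩) wh := by
    refine (mem_centralizer_singleton_iff.1 ((closure_le _).2 ?_ (hgen y hy) :
      h.act χ ⟨y, hs2 hy⟩ ∈ centralizer ({wh} : Set _)))
    rintro x (rfl | rfl)
    · exact mem_centralizer_singleton_iff.2 (TwoLengthExponent.commute_rot G hr1 (h.act_iso χ _)
        hw2 (ht1.symm ▸ hwt)).eq.symm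
    · exact mem_centralizer_singleton_iff.2 (TwoLengthExponent.commute_rot G hr2 (h.act_iso χ _)
        hw2 (ht2.symm ▸ hwt)).eq.symm
  rw [show (⟨⁅y, w⁆, hst hcA⟩ : wStab k Z χ) = ⁅(⟨y, hs2 hy⟩ : wStab k Z χ), (⟨w, hs2 hw⟩ : wStab k Z χ)⁆ from rfl,
    map_commutatorElement, commutatorElement_eq_one_iff_mul_comm]
  exact hcy.eq

end Cfsg.Agent.TwoLengthDerived
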