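import Cfsg.Agent.Lib.TwoLengthExponent.Main
import Cfsg.Agent.Lib.TwoLengthDerived.Factor
import Cfsg.Agent.Lib.TwoLengthDerived.Normalizer

/-!
# The 2-length is at most the derived length of a Sylow 2-subgroup

A configuration with chains of `d` steps has 2-length at most `d - 1`: the top group
`M / O_{2',2}(M)` is, up to a subdirect product, made of configurations with chains of `d - 1` steps.
-/

set_option autoImplicit false
set_option linter.unusedSectionVars false
set_option linter.style.haveILetI false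

namespace Cfsg.Agent.TwoLengthDerived

open Subgroup GrossTwoLength
open TwoLengthExponent (K2 descend pLengthLE_zero_of_no_two)
open scoped commutatorElement

universe u

variable {M : Type u} [Group M] [Finite M] [Group.IsSolvable M]

/-- The top group is made of configurations with shorter chains. -/
theorem pLengthLE_top {n : ℕ} {ρ : M →* Module.End K2 (Fin n → K2)} {f : ℕ}
    (D : Hyp ρ (f + 1)) {ℓ : ℕ}
    (ih : ∀ (T : Type u) [Group T] [Finite T] [Group.IsSolvable T], IsConfigD T f →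
      PLengthLE 2 ℓ T) :
    PLengthLE 2 ℓ (M ⧸ pPrimePCore 2 M) := by
  classical
  haveI : Fact (Nat.Prime 2) := ⟨Nat.prime_two⟩
  set N := pPrimeCore 2 M with hN
  set K := pPrimePCore 2 M with hK
  haveI hKn : K.Normal := PCore.pPrimePCore_normal
  set π := QuotientGroup.mk' K with hπ
  have hπs : Function.Surjective π := QuotientGroup.mk'_surjective K
  have hX2 : pCore 2 (M ⧸ K) = ⊥ := by
    let f : M ⧸ N →* M ⧸ K := QuotientGroup.map N K (MonoidHom.id M) PCore.pPrimeCore_le_pPrimePCore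
    have hfs : Function.Surjective f := fun u => by
      obtain ⟨m, rfl⟩ := hπs u
      exact ⟨(m : M ⧸ N), rfl⟩
    have hker : f.ker ≤ pCore 2 (M ⧸ N) := by
      intro u hu
      obtain ⟨m, rfl⟩ := QuotientGroup.mk'_surjective N u
      exact ((QuotientGroup.eq_one_iff m).1 hu : m ∈ K)
    haveI : ((pCore 2 (M ⧸ K)).comap f).Normal := Normal.comap inferInstance f
    have hp : IsPGroup 2 ((pCore 2 (M ⧸ K)).comap f) :=
      (PCore.isPGroup_pCore (p := 2) (G := M ⧸ K)).comap_of_ker_isPGroup f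
        ((PCore.isPGroup_pCore (p := 2) (G := M ⧸ N)).to_le hker)
    refine (eq_bot_iff_forall _).2 fun u hu => ?_
    obtain ⟨w, rfl⟩ := hfs u
    obtain ⟨m, rfl⟩ := QuotientGroup.mk'_surjective N w
    exact (QuotientGroup.eq_one_iff m).2 (PCore.le_pCore hp hu : m ∈ K)
  obtain ⟨PK⟩ := (inferInstance : Nonempty (Sylow 2 K))
  set U := (PK : Subgroup K).map K.subtype with hUdef
  have hU2 : IsPGroup 2 U := PK.2.map _
  have hUK : U ≤ K := map_subtype_le _
  set M1 := normalizer (U : Set M) with hM1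
  have hsurj : Function.Surjective (π.comp M1.subtype) := fun u => by
    obtain ⟨m, rfl⟩ := hπs u
    obtain ⟨n, hn, b, hb, hnb⟩ := (mem_sup_of_normal_right (s := M1) (t := K)).1
      ((Sylow.normalizer_sup_eq_top PK).ge (mem_top m))
    refine ⟨⟨n, hn⟩, ?_⟩
    show π n = π m
    rw [← hnb, map_mul, show π b = 1 from (QuotientGroup.eq_one_iff b).2 hb, mul_one]
  -- the last derived terms
  have hmem : lastGens M1 (f + 1) ⊆ (U : Set M) := by
    rintro t ⟨P, hP, hPN, ht⟩
    have htK : t ∈ K := D.mem_pPrimePCore hP ht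
    have htn : t ∈ M1 := hPN (der_le P _ ht)
    obtain ⟨m, hm⟩ := hP ⟨t, der_le P _ ht⟩
    have h2 : IsPGroup 2 (U ⊔ zpowers t : Subgroup M) :=
      isPGroup_sup_zpowers hU2 (fun u hu => (mem_normalizer_iff.1 htn u).1 hu)
        (show t ^ 2 ^ m = 1 from congrArg Subtype.val hm)
    have hle : (PK : Subgroup K) ≤ (U ⊔ zpowers t).subgroupOf K := fun u hu =>
      mem_sup_left (mem_map_of_mem _ hu)
    have he := PK.3 h2.comap_subtype hle
    exact ⟨⟨t, htK⟩, he.le (mem_sup_right (mem_zpowers t) : (⟨t, htK⟩ : K) ∈ (U ⊔ zpowers t).subgroupOf K), rfl⟩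
  have DN : NHyp ρ U (f + 1) := { D with two := hU2, mem := hmem }
  have hf : 1 ≤ f := by have := D.two_le; omega
  set A := lastGroup M1 (f + 1) with hA
  have hAU : A ≤ U := DN.lastGroup_le
  -- inside the normaliser
  set U' := U.subgroupOf M1 with hU'
  set A' := A.subgroupOf M1 with hA'
  haveI hU'n : U'.Normal := normal_in_normalizer
  haveI hA'n : A'.Normal := ⟨fun a ha g => conj_mem_lastGroup (le_normalizer g.2) ha⟩
  have hU'2 : IsPGroup 2 U' := hU2.comap_subtype
  have hA'U : A' ≤ U' := fun a ha => hAU ha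
  have hder : ∀ (P : Subgroup M1) (i : ℕ) (y : M1), y ∈ der P i →
      (y : M) ∈ der (P.map M1.subtype) i := fun P i y hy => by
    rw [← map_der]; exact mem_map_of_mem _ hy
  -- the two segments
  have hop1 : ∀ P : Subgroup M1, IsPGroup 2 P → ∀ y ∈ der P (f - 1), ∀ x ∈ U', x ∈ der P (f - 1) →
      y * x * y⁻¹ * x⁻¹ ∈ A' := by
    intro P hP y hy x _ hx
    refine subset_closure ⟨P.map M1.subtype, hP.map _, map_subtype_le P, ?_⟩
    have h := commutator_mem_der hy hx
    rw [show f - 1 + 1 = f + 1 - 1 by omega] at h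
    exact hder P _ _ h
  have hop2 : ∀ P : Subgroup M1, IsPGroup 2 P → ∀ y ∈ der P (f - 1), ∀ x ∈ A', x ∈ der P (f - 1) →
      y * x * y⁻¹ * x⁻¹ ∈ (⊥ : Subgroup M1) := by
    intro P hP y hy x hx hxd
    have h := DN.commute_term (hP.map M1.subtype) (map_subtype_le P) (w := (x : M)) (y := (y : M)) hx
      (by rw [show f + 1 - 2 = f - 1 by omega]; exact hder P _ _ hxd)
      (by rw [show f + 1 - 2 = f - 1 by omega]; exact hder P _ _ hy)
    rw [mem_bot, mul_inv_eq_one, mul_inv_eq_iff_eq_mul]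
    exact Subtype.ext h.eq
  -- the factors
  let ι := {p : Subgroup M1 × Subgroup M1 // IsDerFactor U' f p.1 p.2}
  choose C hCn hCtriv hCconf using fun i : ι => i.2.exists_config hU'2 hf
  set C0 : Subgroup M1 := ⨅ i, C i with hC0
  haveI hC0n : C0.Normal := normal_iInf_normal hCn
  -- odd elements of the joint kernel
  have hodd : ∀ g ∈ C0, (orderOf g).Coprime 2 → (g : M) ∈ K := by
    intro g hg hgo
    have hseg : ∀ X Y : Subgroup M1, X.Normal → Y.Normal → Y ≤ X → X ≤ U' →
        (∀ P : Subgroup M1, IsPGroup 2 P → ∀ y ∈ der P (f - 1), ∀ x ∈ X, x ∈ der P (f - 1) →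
          y * x * y⁻¹ * x⁻¹ ∈ Y) →
        ∀ w ∈ X, g * w * g⁻¹ * w⁻¹ ∈ Y := fun X Y hX hY hYX hXU hs =>
      descend hU'2 hgo X Y hX hY hYX hXU fun X' Y' h1 h2 h3 h4 h5 h6 w hw =>
        hCtriv ⟨(X', Y'), ⟨h1, h2, h4, h5.trans hXU, h6, fun P hP y hy x hx hxd =>
          h3 (hs P hP y hy x (h5 hx) hxd)⟩⟩ g (mem_iInf.1 hg _) w hw
    have h1 := hseg U' A' hU'n hA'n hA'U le_rfl hop1
    have h2 := hseg A' ⊥ hA'n inferInstance bot_le hA'U hop2
    have hstab : ∀ X Y : Subgroup M1, X ≤ U' → X.Normal → Y.Normal → Y ≤ X →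
        (∀ w ∈ X, g * w * g⁻¹ * w⁻¹ ∈ Y) → (∀ w ∈ Y, g * w = w * g) → ∀ w ∈ X, g * w = w * g := by
      intro X Y hXU hX hY hYX hXY hYc w hw
      have hdY : w⁻¹ * (g * w * g⁻¹) ∈ Y := by
        have := hY.conj_mem _ (hXY w hw) w⁻¹
        rwa [show w⁻¹ * (g * w * g⁻¹ * w⁻¹) * w⁻¹⁻¹ = w⁻¹ * (g * w * g⁻¹) by group] at this
      obtain ⟨md, hmd⟩ := hU'2 ⟨_, hXU (hYX hdY)⟩
      have hd1 : w⁻¹ * (g * w * g⁻¹) = 1 := FittingHeight.eq_one_of_conj_eq_mul (x := w) (c := g)
        ((Nat.Coprime.pow_left md hgo.symm).coprime_dvd_left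
          (orderOf_dvd_of_pow_eq_one (congrArg Subtype.val hmd)))
        (by rw [mul_inv_cancel_left]) (hYc _ hdY)
      exact mul_inv_eq_iff_eq_mul.1 (inv_mul_eq_one.1 hd1).symm
    have hA1 : ∀ w ∈ A', g * w = w * g := fun w hw => by
      have := h2 w hw
      rwa [mem_bot, mul_inv_eq_one, mul_inv_eq_iff_eq_mul] at this
    have hcent := hstab U' A' le_rfl hU'n hA'n hA'U h1 hA1
    -- hence in `K`
    have hC : ((g : M) : M ⧸ N) ∈ centralizer (pCore 2 (M ⧸ N) : Set (M ⧸ N)) := by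
      refine mem_centralizer_iff.2 fun u hu => ?_
      let φ : K →* pCore 2 (M ⧸ N) :=
        ((QuotientGroup.mk' N).comp K.subtype).codRestrict (pCore 2 (M ⧸ N)) fun b => b.2
      have hφs : Function.Surjective φ := by
        rintro ⟨w, hw⟩
        obtain ⟨m, rfl⟩ := QuotientGroup.mk'_surjective N w
        exact ⟨⟨m, hw⟩, rfl⟩
      obtain ⟨b, hb, hbu⟩ :=
        (map_eq_of_isPGroup_image φ hφs PCore.isPGroup_pCore PK).ge (mem_top ⟨u, hu⟩)
      have hbv : ((b : M) : M ⧸ N) = u := congrArg Subtype.val hbu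
      have hbU : (b : M) ∈ U := ⟨b, hb, rfl⟩
      have hgb : (g : M) * b = (b : M) * g :=
        congrArg Subtype.val (hcent ⟨b, le_normalizer hbU⟩ hbU)
      rw [← hbv, ← QuotientGroup.mk_mul, ← QuotientGroup.mk_mul, hgb]
    exact PCore.centralizer_pCore_le_of_isSolvable PCore.pPrimeCore_quotient_self_eq_bot hC
  -- the joint kernel lies in `K`
  set φ := π.comp M1.subtype with hφ
  have hC0K : C0 ≤ φ.ker := by
    haveI : (C0.map φ).Normal := hC0n.map φ hsurj
    have hp : IsPGroup 2 (C0.map φ) := by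
      rintro ⟨_, c, hc, rfl⟩
      obtain ⟨a, b, hb, hord⟩ := Nat.exists_eq_pow_mul_and_not_dvd (orderOf_pos c).ne' 2 (by norm_num)
      refine ⟨a, Subtype.ext ?_⟩
      show φ c ^ 2 ^ a = 1
      rw [← map_pow]
      have ho : (orderOf (c ^ 2 ^ a)).Coprime 2 := by
        rw [orderOf_pow' _ (pow_ne_zero _ two_ne_zero), hord, Nat.gcd_eq_right (dvd_mul_right _ _),
          Nat.mul_div_cancel_left _ (Nat.two_pow_pos a), Nat.coprime_two_right, Nat.odd_iff]
        omega
      exact (QuotientGroup.eq_one_iff _).2 (hodd _ (pow_mem hc _) ho)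
    intro c hc
    have := PCore.le_pCore hp (mem_map_of_mem φ hc)
    rwa [hX2, mem_bot] at this
  have hsub : PLengthLE 2 ℓ (M1 ⧸ C0) := by
    refine PCore.pLengthLE_of_subdirect (ι := ι) (K := fun i => M1 ⧸ C i)
      (fun i => QuotientGroup.map C0 (C i) (MonoidHom.id M1) (iInf_le C i))
      (fun i u => ?_) (fun u hu => ?_) fun i => ?_
    · obtain ⟨m, rfl⟩ := QuotientGroup.mk'_surjective (C i) u
      exact ⟨(m : M1 ⧸ C0), rfl⟩
    · obtain ⟨m, rfl⟩ := QuotientGroup.mk'_surjective C0 u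
      exact (QuotientGroup.eq_one_iff m).2 (mem_iInf.2 fun i => (QuotientGroup.eq_one_iff m).1 (hu i))
    · haveI := hCn i
      exact ih _ (hCconf i)
  exact PCore.pLengthLE_of_surjective (QuotientGroup.lift C0 φ hC0K)
    (fun u => by obtain ⟨m, rfl⟩ := hsurj u; exact ⟨(m : M1 ⧸ C0), rfl⟩) hsub

theorem pLengthLE_config : ∀ (n : ℕ) {M : Type u} [Group M] [Finite M] [Group.IsSolvable M],
    IsConfigD M (n + 1) → PLengthLE 2 n M := by
  haveI : Fact (Nat.Prime 2) := ⟨Nat.prime_two⟩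
  intro n
  induction n with
  | zero =>
    intro M _ _ _ hM
    obtain ⟨dim, ρ, hfaith, -, hall⟩ := hM
    refine pLengthLE_zero_of_no_two fun x hx => ?_
    have hP : IsPGroup 2 (zpowers x) := fun ⟨z, hz⟩ => by
      obtain ⟨j, rfl⟩ := mem_zpowers_iff.1 hz
      refine ⟨1, Subtype.ext ?_⟩
      show (x ^ j) ^ 2 ^ 1 = 1
      rw [← zpow_natCast, ← zpow_mul, mul_comm, zpow_mul, zpow_natCast, hx, one_zpow]
    refine hfaith x (LinearMap.ext fun v => ?_)
    have h := (hall _ hP).kill (fun _ _ _ _ => Submodule.mem_top) (j := 0) rfl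
      (z := x) (mem_zpowers x) (w := v) Submodule.mem_top
    rw [LinearMap.sub_apply, Module.End.one_apply, sub_eq_zero] at h
    rw [h, Module.End.one_apply]
  | succ n ih =>
    intro M _ _ _ hM
    obtain ⟨dim, ρ, hfaith, hO, hall⟩ := hM
    have htop := pLengthLE_top (f := n + 1) (ρ := ρ) ⟨hfaith, hO, by omega, hall⟩ (ℓ := n)
      fun T _ _ _ hT => ih hT
    refine PCore.pLengthLE_of_ker_le_pPrimeCore (QuotientGroup.mk' (pPrimeCore 2 M))
      (QuotientGroup.mk'_surjective _) (QuotientGroup.ker_mk' _).le ?_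
    set g := QuotientGroup.map (pPrimeCore 2 M) (pPrimePCore 2 M) (MonoidHom.id M)
      PCore.pPrimeCore_le_pPrimePCore
    have hgs : Function.Surjective g := fun u => by
      obtain ⟨m, rfl⟩ := QuotientGroup.mk'_surjective _ u
      exact ⟨(m : M ⧸ pPrimeCore 2 M), rfl⟩
    have hker : g.ker ≤ pCore 2 (M ⧸ pPrimeCore 2 M) := by
      intro u hu
      obtain ⟨m, rfl⟩ := QuotientGroup.mk'_surjective (pPrimeCore 2 M) u
      exact ((QuotientGroup.eq_one_iff m).1 hu : m ∈ pPrimePCore 2 M)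
    exact PCore.pLengthLE_succ_of_isPGroup_ker g hgs hker htop

/-- The configuration of `G / O_2(G)` when `O_{2'}(G) = 1`. -/
theorem isConfigD_of_reduced {G : Type u} [Group G] [Finite G] [Group.IsSolvable G] {e : ℕ}
    (hbot : pPrimeCore 2 G = ⊥) (hd : ∀ P : Sylow 2 G, der (P : Subgroup G) e = ⊥) :
    IsConfigD (G ⧸ pCore 2 G) e := by
  classical
  haveI : Fact (Nat.Prime 2) := ⟨Nat.prime_two⟩
  set O := pCore 2 G with hO
  have hOp : IsPGroup 2 O := PCore.isPGroup_pCore
  haveI hOn : O.Normal := PCore.pCore_normal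
  set Φ := (frattini O).map O.subtype with hΦ
  haveI hΦn : Φ.Normal := by rw [hΦ]; infer_instance
  obtain ⟨hΦO, ⟨hVc, hVexp⟩, -, hVcen⟩ :=
    HallHigman.frattini_quotient_facts PCore.isPSolvable_of_isSolvable hbot Φ rfl
  set f := QuotientGroup.mk' Φ with hf
  set V := O.map f with hV
  haveI : V.Normal := hOn.map f (QuotientGroup.mk'_surjective _)
  letI : CommGroup V := { (inferInstance : Group V) with mul_comm := fun a b => hVc.is_comm.comm a b }
  obtain ⟨dim, R, hR⟩ := FittingHeight.exists_endRepresentation (V := Additive V) 2 (fun w => by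
    show Additive.ofMul (Additive.toMul w ^ 2) = 0
    rw [show Additive.toMul w ^ 2 = 1 from Subtype.ext (hVexp _ (Additive.toMul w).2)]
    rfl)
  let toEnd : MulAut V →* AddMonoid.End (Additive V) :=
    { toFun := fun a => MonoidHom.toAdditive a.toMonoidHom
      map_one' := AddMonoidHom.ext fun _ => rfl
      map_mul' := fun _ _ => AddMonoidHom.ext fun _ => rfl }
  let act : G →* MulAut V := (MulAut.conjNormal (H := V)).comp f
  have hact : ∀ (g : G) (w : V), ((act g w : V) : G ⧸ Φ) = f g * w * (f g)⁻¹ := fun g w => rfl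
  have hactO : ∀ g ∈ O, act g = 1 := fun g hg => MulEquiv.ext fun w => Subtype.ext (by
    show ((act g w : V) : G ⧸ Φ) = w
    rw [hact]
    have h1 : f g * w = w * f g :=
      congrArg Subtype.val (mul_comm (⟨f g, mem_map_of_mem f hg⟩ : V) w)
    rw [h1, mul_inv_cancel_right])
  let actM : G ⧸ O →* MulAut V := QuotientGroup.lift O act fun g hg => hactO g hg
  let ρ : G ⧸ O →* Module.End K2 (Fin dim → K2) := R.toMonoidHom.comp (toEnd.comp actM)
  have hfaith : ∀ m : G ⧸ O, ρ m = 1 → m = 1 := by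
    intro m hm
    induction m using QuotientGroup.induction_on with | _ g => ?_
    have h1 : toEnd (act g) = 1 := hR (hm.trans (map_one R).symm)
    rw [QuotientGroup.eq_one_iff]
    have hgV : f g ∈ centralizer (V : Set (G ⧸ Φ)) := mem_centralizer_iff.2 fun w hw => by
      have h2 : act g ⟨w, hw⟩ = ⟨w, hw⟩ :=
        congrArg Additive.toMul (DFunLike.congr_fun h1 (Additive.ofMul (⟨w, hw⟩ : V)))
      have h3 : f g * w * (f g)⁻¹ = w := congrArg Subtype.val h2
      exact (mul_inv_eq_iff_eq_mul.1 h3).symm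
    obtain ⟨o, ho, hog⟩ := hVcen hgV
    have hm' : o⁻¹ * g ∈ O := hΦO (QuotientGroup.eq.1 hog)
    have := mul_mem ho hm'
    rwa [mul_inv_cancel_left] at this
  refine ⟨dim, ρ, hfaith, PCore.pCore_quotient_self_eq_bot, fun Pb hPb => ?_⟩
  obtain ⟨T, hT⟩ := hPb.exists_le_sylow
  obtain ⟨S, rfl⟩ := Sylow.mapSurjective_surjective (QuotientGroup.mk'_surjective O) 2 T
  have hOS : O ≤ (S : Subgroup G) := PCore.pCore_le_sylow S
  let F : G →* AddMonoid.End (Additive V) := toEnd.comp act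
  have key : ∀ i, ∀ A ∈ ops F (S : Subgroup G) i, ∀ w : Additive V,
      ∃ o ∈ O, o ∈ der (S : Subgroup G) i ∧ ((Additive.toMul (A w) : V) : G ⧸ Φ) = f o := by
    intro i
    induction i with
    | zero =>
      rintro A hA w
      obtain rfl : A = 1 := hA
      obtain ⟨o, ho, how⟩ := (Additive.toMul w).2
      exact ⟨o, ho, hOS ho, how.symm⟩
    | succ i ih =>
      rintro _ ⟨g, hg, A, hA, rfl⟩ w
      obtain ⟨o, ho, hoi, hAw⟩ := ih A hA w
      refine ⟨g * o * g⁻¹ * o⁻¹, mul_mem (hOn.conj_mem o ho g) (inv_mem ho),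
        commutator_mem_der hg hoi, ?_⟩
      show ((act g (Additive.toMul (A w)) / Additive.toMul (A w) : V) : G ⧸ Φ) = _
      rw [div_eq_mul_inv, Subgroup.coe_mul, Subgroup.coe_inv, hact, hAw, map_mul, map_mul, map_mul,
        map_inv, map_inv]
  refine Chain.mono hT le_rfl (chain_of_ops fun A hA w _ => ?_)
  obtain ⟨B, hB, rfl⟩ := exists_ops_of_map F ρ R (QuotientGroup.mk' O) (fun g => rfl)
    (S : Subgroup G) e A hA
  suffices hB0 : B = 0 by rw [hB0, map_zero, LinearMap.zero_apply]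
  refine AddMonoidHom.ext fun z => Additive.toMul.injective (Subtype.ext ?_)
  obtain ⟨o, -, hoe, hBz⟩ := key e B hB z
  rw [hd S, mem_bot] at hoe
  refine hBz.trans ?_
  rw [hoe, map_one]
  rfl

/-- The 2-length is at most the derived length of a Sylow 2-subgroup. -/
theorem pLengthLE_derived {G : Type u} [Group G] [Finite G] (hG : Group.IsSolvable G) (d : ℕ)
    (hd : ∀ P : Sylow 2 G, derivedSeries (P : Subgroup G) d = ⊥) : PLengthLE 2 d G := by
  haveI : Fact (Nat.Prime 2) := ⟨Nat.prime_two⟩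
  haveI := hG
  have hd' : ∀ P : Sylow 2 G, der (P : Subgroup G) d = ⊥ := fun P => by
    rw [der_eq_map, hd P, Subgroup.map_bot]
  rcases Nat.eq_zero_or_pos d with rfl | hpos
  · refine pLengthLE_zero_of_no_two fun x hx => ?_
    have hP : IsPGroup 2 (zpowers x) := fun ⟨z, hz⟩ => by
      obtain ⟨j, rfl⟩ := mem_zpowers_iff.1 hz
      refine ⟨1, Subtype.ext ?_⟩
      show (x ^ j) ^ 2 ^ 1 = 1
      rw [← zpow_natCast, ← zpow_mul, mul_comm, zpow_mul, zpow_natCast, hx, one_zpow]
    obtain ⟨T, hT⟩ := hP.exists_le_sylow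
    have := hT (mem_zpowers x)
    rwa [← der_zero (T : Subgroup G), hd' T, mem_bot] at this
  obtain ⟨n, rfl⟩ : ∃ n, d = n + 1 := ⟨d - 1, by omega⟩
  refine PCore.pLengthLE_of_ker_le_pPrimeCore (QuotientGroup.mk' (pPrimeCore 2 G))
    (QuotientGroup.mk'_surjective _) (QuotientGroup.ker_mk' _).le ?_
  have hbot : pPrimeCore 2 (G ⧸ pPrimeCore 2 G) = ⊥ := PCore.pPrimeCore_quotient_self_eq_bot
  have hd0 : ∀ T : Sylow 2 (G ⧸ pPrimeCore 2 G),
      der (T : Subgroup (G ⧸ pPrimeCore 2 G)) (n + 1) = ⊥ := by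
    intro T
    obtain ⟨S, rfl⟩ := Sylow.mapSurjective_surjective
      (QuotientGroup.mk'_surjective (pPrimeCore 2 G)) 2 T
    show der ((S : Subgroup G).map (QuotientGroup.mk' (pPrimeCore 2 G))) (n + 1) = ⊥
    rw [← map_der, hd' S, Subgroup.map_bot]
  set H := G ⧸ pPrimeCore 2 G
  exact PCore.pLengthLE_succ_of_isPGroup_ker (QuotientGroup.mk' (pCore 2 H))
    (QuotientGroup.mk'_surjective _) (QuotientGroup.ker_mk' _).le
    (pLengthLE_config n (isConfigD_of_reduced hbot hd0))

end Cfsg.Agent.TwoLengthDerived
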