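import Cfsg.Agent.Lib.TwoLengthExponent.Geometry
import Cfsg.Agent.Lib.Coprime.Generation
import Cfsg.Agent.Lib.Components.Fitting
import Cfsg.Agent.Lib.Subnormal.Nilpotent
import Cfsg.Agent.Lib.PCore.UpperSeries

/-!
# A quaternion group on a plane of order nine

Isometries of 2-power order on a plane of order nine; in a solvable group of isometries the involution
of a quaternion group of rotations commutes with the involution of a rotation lying in a normal 2-group.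
-/

set_option autoImplicit false
set_option linter.unusedSectionVars false
set_option linter.style.haveILetI false

namespace Cfsg.Agent.TwoLengthDerived

open Subgroup GrossTwoLength
open FittingHeight (Plane.Iso)

variable {q : ℕ} [Fact q.Prime] {V : Type*} [AddCommGroup V] [Module (ZMod q) V] [Finite V]
  {C : Type*} [AddCommGroup C] {β : V →+ V →+ C}

theorem zmod3_no_root : ∀ c : ZMod 3, c * c ≠ -1 := by decide

theorem zmod3_lines : ∀ p r p' r' : ZMod 3, p ≠ 0 → r ≠ 0 → p' ≠ 0 → r' ≠ 0 →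
    (p' = p ∧ r' = r) ∨ (p' = -p ∧ r' = -r) ∨ (p' = -r ∧ r' = p) ∨ (p' = r ∧ r' = -p) := by decide

theorem zmod3_sq : ∀ c : ZMod 3, c ≠ 0 → c * c = 1 := by decide

/-- A plane of order nine. -/
structure Nine (β : V →+ V →+ C) (T : Submodule (ZMod q) V) : Prop where
  geo : Geo (q := q) β 2
  card : Nat.card T = q ^ 2
  nondeg : ∀ x ∈ T, (∀ t ∈ T, β t x = 0) → x = 0

/-- `g` preserves `T`. -/
abbrev Pres (T : Submodule (ZMod q) V) (g : (Module.End (ZMod q) V)ˣ) : Prop := ∀ x ∈ T, g • x ∈ T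

theorem q_eq_three {T : Submodule (ZMod q) V} (N : Nine β T) : q = 3 := by
  have := N.geo.card_eq
  omega

theorem neg_smul_apply (g : (Module.End (ZMod q) V)ˣ) (x : V) : (-g) • x = -(g • x) := by
  show ((-g : (Module.End (ZMod q) V)ˣ) : Module.End (ZMod q) V) x = _
  rw [Units.val_neg, LinearMap.neg_apply]
  rfl

theorem iso_neg {g : (Module.End (ZMod q) V)ˣ} (hg : Plane.Iso β g) : Plane.Iso β (-g) := fun x v => by
  simp only [Units.val_neg, LinearMap.neg_apply, map_neg, AddMonoidHom.neg_apply, neg_neg]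
  exact hg x v

namespace Nine

variable {T : Submodule (ZMod q) V} (N : Nine β T)
include N

theorem exists_ne : ∃ x ∈ T, x ≠ 0 := by
  have : Nontrivial T := Finite.one_lt_card_iff_nontrivial.1 (by
    rw [N.card]; exact Nat.one_lt_pow two_ne_zero (Fact.out : q.Prime).one_lt)
  obtain ⟨⟨x, hx⟩, h⟩ := _root_.exists_ne (0 : T)
  exact ⟨x, hx, fun e => h (Subtype.ext e)⟩

theorem coords {x v : V} (hx : x ∈ T) (hx0 : x ≠ 0) (hv : v ∈ T)
    (hne : ∀ c : ZMod q, v ≠ c • x) {w : V} (hw : w ∈ T) : ∃ a b : ZMod q, w = a • x + b • v := by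
  have htop := FittingHeight.Plane.span_pair_eq_top N.card
    (x := (⟨x, hx⟩ : T)) (v := ⟨v, hv⟩) (fun e => hx0 (congrArg Subtype.val e)) (fun hmem => by
      obtain ⟨c, hc⟩ := Submodule.mem_span_singleton.1 hmem
      exact hne c (congrArg Subtype.val hc).symm)
  obtain ⟨a, b, hab⟩ := Submodule.mem_span_pair.1 (htop.ge (Submodule.mem_top (x := ⟨w, hw⟩)))
  exact ⟨a, b, (congrArg Subtype.val hab).symm⟩

theorem pair_ne_zero {x v : V} (hx : x ∈ T) (hx0 : x ≠ 0) (hv : v ∈ T)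
    (hne : ∀ c : ZMod q, v ≠ c • x) : β x v ≠ 0 := fun h => hx0 (N.nondeg x hx fun t ht => by
  obtain ⟨a, b, rfl⟩ := N.coords hx hx0 hv hne ht
  have e : ∀ (c : ZMod q) (u : V), β (c • u) x = c.val • β u x := fun c u =>
    FittingHeight.Plane.map_smul_zmod (β.flip x) c u
  rw [map_add, AddMonoidHom.add_apply, e, e, N.geo.alt, N.geo.skew_zero h, smul_zero, smul_zero,
    add_zero])

theorem fix {g : (Module.End (ZMod q) V)ˣ} (hg : Plane.Iso β g) (hgT : Pres T g) {n : ℕ}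
    (hn : g ^ 2 ^ n = 1) {x : V} (hx : x ∈ T) (hx0 : x ≠ 0) (hgx : g • x = x) :
    ∀ w ∈ T, g • w = w := by
  intro w hw
  obtain ⟨c, hc⟩ : ∃ c : ZMod q, g • w - w = c • x := by
    by_contra hcon
    push Not at hcon
    refine N.pair_ne_zero hx hx0 (sub_mem (hgT w hw) hw) hcon ?_
    rw [map_sub, sub_eq_zero]
    nth_rw 1 [← hgx]
    exact hg x w
  rw [sub_eq_iff_eq_add'] at hc
  have key : ∀ m : ℕ, g ^ m • w = w + m • c • x := by
    intro m
    induction m with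
    | zero => rw [pow_zero, one_smul, zero_smul, add_zero]
    | succ m ih =>
      rw [pow_succ', mul_smul, ih, smul_add, hc, smul_comm g m, smul_zmod, hgx, succ_nsmul',
        add_assoc]
  have h0 : (2 ^ n : ℕ) • c • x = 0 := by
    have := key (2 ^ n)
    rwa [hn, one_smul, left_eq_add] at this
  have hcx : c • x = 0 := by
    rw [← Nat.cast_smul_eq_nsmul (ZMod q)] at h0
    refine (smul_eq_zero.1 h0).resolve_left ?_
    rw [Nat.cast_pow]
    exact pow_ne_zero _ (by exact_mod_cast FittingHeight.Plane.two_ne_zero' N.geo.ne_two)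
  rw [hc, hcx, add_zero]

theorem neg {g : (Module.End (ZMod q) V)ˣ} (hg : Plane.Iso β g) (hgT : Pres T g) {n : ℕ}
    (hn : g ^ 2 ^ n = 1) {x : V} (hx : x ∈ T) (hx0 : x ≠ 0) (hgx : g • x = -x) :
    ∀ w ∈ T, g • w = -w := by
  intro w hw
  have := N.fix (iso_neg hg) (fun u hu => by rw [neg_smul_apply]; exact neg_mem (hgT u hu))
    (n := n + 1) (by
      rw [Even.neg_pow (by rw [pow_succ]; exact even_two.mul_left _), pow_succ, pow_mul, hn, one_pow])
    hx hx0 (by rw [neg_smul_apply, hgx, neg_neg]) w hw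
  rw [neg_smul_apply] at this
  exact neg_eq_iff_eq_neg.1 this

/-- An isometry of two-power order is `1`, `-1` or has square `-1`. -/
theorem cases {g : (Module.End (ZMod q) V)ˣ} (hg : Plane.Iso β g) (hgT : Pres T g) {n : ℕ}
    (hn : g ^ 2 ^ n = 1) :
    (∀ x ∈ T, g • x = x) ∨ (∀ x ∈ T, g • x = -x) ∨ ∀ x ∈ T, g • g • x = -x := by
  obtain rfl := q_eq_three N
  obtain ⟨x, hx, hx0⟩ := N.exists_ne
  by_cases h : ∃ c : ZMod 3, g • x = c • x
  · obtain ⟨c, hc⟩ := h
    rcases TwoLengthExponent.zmod_three_cases c with rfl | rfl | rfl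
    · rw [zero_smul, smul_eq_iff_eq_inv_smul, smul_zero] at hc
      exact absurd hc hx0
    · rw [one_smul] at hc
      exact Or.inl (N.fix hg hgT hn hx hx0 hc)
    · rw [neg_one_smul] at hc
      exact Or.inr (Or.inl (N.neg hg hgT hn hx hx0 hc))
  push Not at h
  have hv := hgT x hx
  have hp := N.pair_ne_zero hx hx0 hv h
  obtain ⟨a, b, hab⟩ := N.coords hx hx0 hv h (hgT _ hv)
  have hiso : β (g • x) (g • g • x) = β x (g • x) := hg _ _
  have hskew : β (g • x) x = -β x (g • x) := N.geo.skew _ _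
  have halt : β (g • x) (b • (g • x)) = 0 := by
    rw [FittingHeight.Plane.map_smul_zmod, N.geo.alt, smul_zero]
  rw [hab, map_add, halt, add_zero] at hiso
  rcases TwoLengthExponent.zmod_three_cases a with rfl | rfl | rfl
  · rw [zero_smul, map_zero] at hiso
    exact absurd hiso.symm hp
  · rw [one_smul, hskew, neg_eq_iff_add_eq_zero] at hiso
    exact absurd (N.geo.noTwo _ hiso) hp
  rw [neg_one_smul] at hab
  refine Or.inr (Or.inr ?_)
  rcases TwoLengthExponent.zmod_three_cases b with rfl | hb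
  · rw [zero_smul, add_zero] at hab
    intro w hw
    have := N.neg (hg.mul hg) (fun u hu => by rw [mul_smul]; exact hgT _ (hgT u hu)) (n := n)
      (by rw [(Commute.refl g).mul_pow, hn, one_mul]) hx hx0 (by rw [mul_smul, hab]) w hw
    rwa [mul_smul] at this
  exfalso
  have hb2 : b * b = 1 := by rcases hb with rfl | rfl <;> simp
  have h3 : g • g • g • x = -(b • x) := by
    rw [hab, smul_add, smul_neg, smul_zmod, hab, smul_add, smul_neg, smul_smul, hb2, one_smul]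
    abel
  have h6 : (g * g) ^ 3 • x = x := by
    rw [show (g * g) ^ 3 = g * (g * (g * (g * (g * g)))) by
      simp only [pow_succ, pow_zero, one_mul, mul_assoc]]
    rw [mul_smul, mul_smul, mul_smul, mul_smul, mul_smul, h3, smul_neg, smul_neg, smul_neg,
      smul_zmod, smul_zmod, smul_zmod, h3, smul_neg, neg_neg, smul_smul, hb2, one_smul]
  have hco : (3 : ℕ).Coprime (orderOf (g * g)) :=
    (Nat.Coprime.pow_right n (by norm_num : Nat.Coprime 3 2)).coprime_dvd_right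
      (orderOf_dvd_of_pow_eq_one (by rw [(Commute.refl g).mul_pow, hn, one_mul]))
  obtain ⟨j, hj⟩ := exists_pow_eq_self_of_coprime hco
  have h2 : (g * g) • x = x := by
    rw [← hj]
    exact MulAction.mem_stabilizer_iff.1 (pow_mem (MulAction.mem_stabilizer_iff.2 h6) j)
  rw [mul_smul, hab, neg_add_eq_iff_eq_add] at h2
  refine h (b * 2) ?_
  rw [mul_smul, two_smul, ← h2, smul_smul, hb2, one_smul]

/-- Two elements of a 2-group commute on the plane or they and their product have square `-1`. -/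
theorem comm_or {g h : (Module.End (ZMod q) V)ˣ} (hg : Plane.Iso β g) (hh : Plane.Iso β h)
    (hgT : Pres T g) (hhT : Pres T h) {n m l : ℕ} (hn : g ^ 2 ^ n = 1) (hm : h ^ 2 ^ m = 1)
    (hl : (g * h) ^ 2 ^ l = 1) :
    (∀ x ∈ T, g • h • x = h • g • x) ∨
      ((∀ x ∈ T, g • g • x = -x) ∧ (∀ x ∈ T, h • h • x = -x) ∧
        ∀ x ∈ T, (g * h) • (g * h) • x = -x) := by
  rcases N.cases hg hgT hn with h1 | h1 | h1
  · exact Or.inl fun x hx => by rw [h1 _ (hhT x hx), h1 x hx]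
  · exact Or.inl fun x hx => by rw [h1 _ (hhT x hx), h1 x hx, smul_neg]
  rcases N.cases hh hhT hm with h2 | h2 | h2
  · exact Or.inl fun x hx => by rw [h2 _ (hgT x hx), h2 x hx]
  · exact Or.inl fun x hx => by rw [h2 _ (hgT x hx), h2 x hx, smul_neg]
  have hP : Pres T (g * h) := fun x hx => by rw [mul_smul]; exact hgT _ (hhT x hx)
  have key : ∀ ε : ZMod q, (∀ x ∈ T, g • h • x = ε • x) → ∀ x ∈ T, g • h • x = h • g • x := by
    intro ε he x hx
    have h' := congrArg (g • ·) (he (g • x) (hgT x hx))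
    simp only [h1 _ (hhT _ (hgT x hx)), smul_zmod, h1 x hx, smul_neg, neg_inj] at h'
    rw [he x hx, h']
  rcases N.cases (hg.mul hh) hP hl with h3 | h3 | h3
  · exact Or.inl (key 1 fun x hx => by rw [one_smul, ← mul_smul]; exact h3 x hx)
  · exact Or.inl (key (-1) fun x hx => by rw [neg_one_smul, ← mul_smul]; exact h3 x hx)
  · exact Or.inr ⟨h1, h2, h3⟩

/-- An element with square `-1` is one of the six of a quaternion group. -/
theorem exists_eq {a b g : (Module.End (ZMod q) V)ˣ} (haT : Pres T a) (hbT : Pres T b)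
    (hgT : Pres T g) (ha : ∀ x ∈ T, a • a • x = -x) (hb : ∀ x ∈ T, b • b • x = -x)
    (hab : ∀ x ∈ T, (a * b) • (a * b) • x = -x) (hg : ∀ x ∈ T, g • g • x = -x) :
    ∃ c, (c = a ∨ c = b ∨ c = a * b) ∧
      ((∀ x ∈ T, g • x = c • x) ∨ ∀ x ∈ T, g • x = -(c • x)) := by
  obtain rfl := q_eq_three N
  obtain ⟨x, hx, hx0⟩ := N.exists_ne
  have hno : ∀ {f : (Module.End (ZMod 3) V)ˣ}, (∀ u ∈ T, f • f • u = -u) →
      ∀ c : ZMod 3, f • x ≠ c • x := by
    intro f hf c hc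
    have := hf x hx
    rw [hc, smul_zmod, hc, smul_smul, ← neg_one_smul (ZMod 3) x] at this
    exact zmod3_no_root c (smul_left_injective (ZMod 3) hx0 this)
  have hax := haT x hx
  obtain ⟨p, r, hpr⟩ := N.coords hx hx0 hax (hno ha) (hbT x hx)
  obtain ⟨p', r', hpr'⟩ := N.coords hx hx0 hax (hno ha) (hgT x hx)
  have habx : (a * b) • x = p • a • x - r • x := by
    rw [mul_smul, hpr, smul_add, smul_zmod, smul_zmod, ha x hx, smul_neg, ← sub_eq_add_neg]
  have hp : p ≠ 0 := fun e => by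
    rw [e, zero_smul, zero_sub, ← neg_smul] at habx
    exact hno hab _ habx
  have hr : r ≠ 0 := fun e => by
    rw [e, zero_smul, add_zero] at hpr
    exact hno hb _ hpr
  have hext : ∀ (c : (Module.End (ZMod 3) V)ˣ) (ε : ZMod 3), (∀ u ∈ T, c • c • u = -u) →
      ε * ε = 1 → g • x = ε • c • x → ∀ w ∈ T, g • w = ε • c • w := by
    intro c ε hc hε e w hw
    obtain ⟨u, v, rfl⟩ := N.coords hx hx0 (hgT x hx) (hno hg) hw
    have e2 : ε • c • g • x = g • g • x := by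
      rw [e, smul_zmod, smul_smul, hε, one_smul, hc x hx, ← e, hg x hx]
    rw [smul_add, smul_zmod, smul_zmod, smul_add, smul_zmod, smul_zmod, smul_add, e, smul_comm ε u,
      smul_comm ε v, ← e, e2]
  have fin : ∀ (c : (Module.End (ZMod 3) V)ˣ) (ε : ZMod 3), (∀ u ∈ T, c • c • u = -u) →
      (ε = 1 ∨ ε = -1) → g • x = ε • c • x →
      (∀ w ∈ T, g • w = c • w) ∨ ∀ w ∈ T, g • w = -(c • w) := by
    intro c ε hc hε e
    rcases hε with rfl | rfl
    · exact Or.inl fun w hw => by rw [hext c 1 hc (one_mul 1) e w hw, one_smul]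
    · exact Or.inr fun w hw => by rw [hext c (-1) hc (by simp) e w hw, neg_one_smul]
  by_cases hp' : p' = 0
  · rw [hp', zero_smul, zero_add] at hpr'
    refine ⟨a, Or.inl rfl, fin a r' ha ?_ hpr'⟩
    rcases TwoLengthExponent.zmod_three_cases r' with rfl | h | h
    · exact absurd (hpr'.trans ((zero_smul _ _).trans (zero_smul (ZMod 3) x).symm)) (hno hg 0)
    · exact Or.inl h
    · exact Or.inr h
  by_cases hr' : r' = 0
  · rw [hr', zero_smul, add_zero] at hpr'
    exact absurd hpr' (hno hg p')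
  rcases zmod3_lines p r p' r' hp hr hp' hr' with ⟨rfl, rfl⟩ | ⟨rfl, rfl⟩ | ⟨rfl, rfl⟩ | ⟨rfl, rfl⟩
  · exact ⟨b, Or.inr (Or.inl rfl), fin b 1 hb (Or.inl rfl) (by rw [one_smul, hpr, hpr'])⟩
  · refine ⟨b, Or.inr (Or.inl rfl), fin b (-1) hb (Or.inr rfl) ?_⟩
    rw [neg_one_smul, hpr', hpr, neg_smul, neg_smul, neg_add]
  · refine ⟨a * b, Or.inr (Or.inr rfl), fin (a * b) 1 hab (Or.inl rfl) ?_⟩
    rw [one_smul, hpr', habx, neg_smul, sub_eq_neg_add]
  · refine ⟨a * b, Or.inr (Or.inr rfl), fin (a * b) (-1) hab (Or.inr rfl) ?_⟩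
    rw [neg_one_smul, hpr', habx, neg_smul, neg_sub, sub_eq_add_neg]

end Nine

theorem isRot_inv {d : ℕ} (G : Geo (q := q) β d) {y : (Module.End (ZMod q) V)ˣ} (hy : IsRot β d y) :
    IsRot β d y⁻¹ ∧ tau d y⁻¹ = tau d y := by
  have e : tau d y⁻¹ = tau d y := by rw [← hy.tau_inv G]; exact inv_pow _ _
  refine ⟨⟨hy.iso.inv, by rw [inv_pow, hy.pow, inv_one], ?_, fun f hf => ?_⟩, e⟩
  · rw [plane, e]; exact hy.card
  · rw [inv_smul_eq_iff, hy.fix f (e ▸ hf)]

theorem nine_plane (G : Geo (q := q) β 2) {y : (Module.End (ZMod q) V)ˣ} (hy : IsRot β 2 y) :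
    Nine β (plane 2 y) :=
  ⟨G, hy.card, fun _ hx h => hy.nondeg G hx h⟩

theorem plane_eq_of_tau {d : ℕ} {y y' : (Module.End (ZMod q) V)ˣ} (h : tau d y = tau d y') :
    plane d y = plane d y' := by rw [plane, plane, h]

theorem tau_two (y : (Module.End (ZMod q) V)ˣ) : tau 2 y = y * y := by
  rw [tau, show 2 ^ (2 - 1) = 2 from rfl, pow_two]

/-- A rotation with the involution `t₁` is outside a normal 2-group. -/
theorem not_mem_normal (G : Geo (q := q) β 2) {U : Subgroup (Module.End (ZMod q) V)ˣ}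
    (hU : IsPGroup 2 U) (hUi : ∀ g ∈ U, Plane.Iso β g) {z t1 : (Module.End (ZMod q) V)ˣ}
    (hz : IsRot β 2 z) (hzU : Conj z U) (hne : ¬ Commute t1 (tau 2 z))
    {Y : (Module.End (ZMod q) V)ˣ} (hY : IsRot β 2 Y) (hYt : tau 2 Y = t1) : Y ∉ U := by
  intro hYU
  have hzm : z ∈ U ⊔ zpowers z := mem_sup_right (mem_zpowers z)
  rcases IsRot.eq_or_orth G (isPGroup_sup_zpowers hU hzU hz.pow)
    (iso_sup_zpowers hUi hz.iso) (mem_sup_left hYU) hzm hY hz with h | ⟨h, h'⟩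
  · rw [hYt] at h
    exact hne (h ▸ Commute.refl _)
  · have h1 : Commute Y z := IsRot.comm_of_orth G hY hz h h'
    exact hne (hYt ▸ h1.pow_pow (2 ^ (2 - 1)) (2 ^ (2 - 1)))

/-- A conjugate congruent to `Y` modulo `U` has one of two involutions. -/
theorem conj_cases (G : Geo (q := q) β 2) {U : Subgroup (Module.End (ZMod q) V)ˣ}
    (hU : IsPGroup 2 U) (hUi : ∀ g ∈ U, Plane.Iso β g) {z Y w : (Module.End (ZMod q) V)ˣ}
    (hz : IsRot β 2 z) (hzU : Conj z U) (htU : tau 2 z ∈ U) (hY : IsRot β 2 Y) (hYU : Conj Y U)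
    (hne : ¬ Commute (tau 2 Y) (tau 2 z)) (hw : Plane.Iso β w) (hB : Y * (w * Y * w⁻¹)⁻¹ ∈ U) :
    w * tau 2 Y * w⁻¹ = tau 2 Y ∨ w * tau 2 Y * w⁻¹ = tau 2 z * tau 2 Y * (tau 2 z)⁻¹ := by
  have hyy := isPGroup_sup_zpowers hU hYU hY.pow
  have hyi := iso_sup_zpowers hUi hY.iso
  have hym : Y ∈ U ⊔ zpowers Y := mem_sup_right (mem_zpowers Y)
  have hwm : w * Y * w⁻¹ ∈ U ⊔ zpowers Y := by
    have := mul_mem (inv_mem (mem_sup_left hB : _ ∈ U ⊔ zpowers Y)) hym
    rwa [mul_inv_rev, inv_inv, inv_mul_cancel_right] at this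
  have hy3 : IsRot β 2 (w * Y * w⁻¹) := hY.conj hw
  have hyz : IsRot β 2 (tau 2 z * Y * (tau 2 z)⁻¹) := hY.conj (hUi _ htU)
  have e2 : tau 2 (tau 2 z * Y * (tau 2 z)⁻¹) = tau 2 z * tau 2 Y * (tau 2 z)⁻¹ := conj_pow ..
  have e3 : tau 2 (w * Y * w⁻¹) = w * tau 2 Y * w⁻¹ := conj_pow ..
  rw [← e2, ← e3]
  rcases IsRot.eq_or_orth G hyy hyi hym hwm hY hy3 with h | ⟨h, h'⟩
  · exact Or.inl h.symm
  refine Or.inr ?_
  have hc := TwoLengthExponent.tau_commute_pair G hU hUi hY hy3 hz hzU h h' hB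
  refine (IsRot.tau_eq_of_le G hyz hy3 fun x hx => mem_plane.2 ?_).symm
  obtain ⟨hT, h2T⟩ :=
    TwoLengthExponent.conj_tau_orth G hU hUi hY hYU hz hzU htU hne
  have hp : (tau 2 z)⁻¹ • x ∈ plane 2 Y := by
    rw [mem_plane, e2, mul_smul, mul_smul, smul_eq_iff_eq_inv_smul, smul_neg] at hx
    exact mem_plane.2 hx
  have hneg : (tau 2 Y * tau 2 (w * Y * w⁻¹)) • x = -x := by
    have h2 : (tau 2 Y * tau 2 (w * Y * w⁻¹)) • (tau 2 z)⁻¹ • x = -((tau 2 z)⁻¹ • x) := by
      rw [mul_smul, h _ hp, mem_plane.1 hp]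
    rw [← smul_neg, smul_smul, (hc.inv_left).symm.eq, mul_smul] at h2
    exact smul_left_cancel _ h2
  rw [mul_smul, smul_eq_iff_eq_inv_smul, hY.tau_inv G, smul_neg, h2T x hx] at hneg
  exact hneg

/-- An element of odd order of the quotient commuting with one involution of the four group
commutes with the others. -/
theorem odd_commute_step (G : Geo (q := q) β 2) {Γ : Subgroup (Module.End (ZMod q) V)ˣ}
    (hΓ : ∀ g ∈ Γ, Plane.Iso β g) {z t1 : (Module.End (ZMod q) V)ˣ} (hz : IsRot β 2 z) (hzΓ : z ∈ Γ)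
    (htU : tau 2 z ∈ (pCore 2 Γ).map Γ.subtype) (ht1U : t1 ∈ (pCore 2 Γ).map Γ.subtype)
    (hne : ¬ Commute t1 (tau 2 z)) (Y Y' : Γ) (hY : IsRot β 2 (Y : (Module.End (ZMod q) V)ˣ))
    (hY' : IsRot β 2 (Y' : (Module.End (ZMod q) V)ˣ))
    (hYY' : IsRot β 2 ((Y : (Module.End (ZMod q) V)ˣ) * (Y' : (Module.End (ZMod q) V)ˣ)))
    (eY : tau 2 (Y : (Module.End (ZMod q) V)ˣ) = t1) (eY' : tau 2 (Y' : (Module.End (ZMod q) V)ˣ) = t1)
    (eYY' : tau 2 ((Y : (Module.End (ZMod q) V)ˣ) * (Y' : (Module.End (ZMod q) V)ˣ)) = t1)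
    (u : Γ ⧸ pCore 2 Γ) (hu : Odd (orderOf u)) (hc : Commute u (QuotientGroup.mk' (pCore 2 Γ) Y)) :
    Commute u (QuotientGroup.mk' (pCore 2 Γ) Y') := by
  classical
  haveI : Fact (Nat.Prime 2) := ⟨Nat.prime_two⟩
  haveI hO'n : (pCore 2 Γ).Normal := PCore.pCore_normal
  set U := (pCore 2 Γ).map Γ.subtype with hUdef
  have hU : IsPGroup 2 U := (PCore.isPGroup_pCore (p := 2) (G := Γ)).map _
  have hUi : ∀ g ∈ U, Plane.Iso β g := fun g hg => hΓ g (map_subtype_le _ hg)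
  have hconj : ∀ g ∈ Γ, Conj g U := by
    rintro g hg _ ⟨w, hw, rfl⟩
    exact ⟨⟨g, hg⟩ * w * ⟨g, hg⟩⁻¹, hO'n.conj_mem w hw _, rfl⟩
  have hzU := hconj z hzΓ
  have hmem : ∀ {w : Γ}, w ∈ (pCore 2 Γ) ↔ (w : (Module.End (ZMod q) V)ˣ) ∈ U := fun {w} =>
    ⟨fun h => ⟨w, h, rfl⟩, fun ⟨w', h', e⟩ => Subtype.ext e ▸ h'⟩
  set t := tau 2 z with htd
  set π := QuotientGroup.mk' (pCore 2 Γ) with hπ
  have hcases : ∀ Y w : (Module.End (ZMod q) V)ˣ, IsRot β 2 Y → tau 2 Y = t1 → w ∈ Γ → Y ∈ Γ →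
      Y * (w * Y * w⁻¹)⁻¹ ∈ U → w * t1 * w⁻¹ = t1 ∨ w * t1 * w⁻¹ = t * t1 * t⁻¹ := by
    intro Y w hY hYt hw hYΓ hB
    subst hYt
    exact conj_cases G hU hUi hz hzU htU hY (hconj Y hYΓ) hne (hΓ w hw) hB
  obtain ⟨f0, hf0⟩ : ∃ f0, π f0 = u := QuotientGroup.mk'_surjective (pCore 2 Γ) u
  rw [← hf0] at hu hc ⊢
  obtain ⟨a, m, hm, hord⟩ := Nat.exists_eq_pow_mul_and_not_dvd (orderOf_pos f0).ne' 2 (by norm_num)
  set f := f0 ^ 2 ^ a with hf
  have hmo : Odd m := Nat.odd_iff.2 (by omega)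
  have hfo : f ^ m = 1 := by rw [hf, ← pow_mul, ← hord, pow_orderOf_eq_one]
  have hco : Nat.Coprime (2 ^ a) (orderOf (π f0)) :=
    (Nat.coprime_two_left.2 hu).pow_left a
  obtain ⟨s, hs⟩ := exists_pow_eq_self_of_coprime hco
  suffices hfc : Commute (π f) (π Y') by
    rw [← hs, ← map_pow]
    exact hfc.pow_left s
  have hfY : Commute (π f) (π Y) := by rw [hf, map_pow]; exact hc.pow_left _
  set F := (f : (Module.End (ZMod q) V)ˣ) with hF
  have hB : ∀ i : ℕ, (Y : (Module.End (ZMod q) V)ˣ) *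
      (F ^ i * (Y : (Module.End (ZMod q) V)ˣ) * (F ^ i)⁻¹)⁻¹ ∈ U := by
    intro i
    have h1 : π (Y * (f ^ i * Y * (f ^ i)⁻¹)⁻¹) = 1 := by
      have h := (hfY.pow_left i).eq
      rw [map_mul, map_inv, map_mul, map_mul, map_inv, map_pow, h, mul_inv_cancel_right,
        mul_inv_cancel]
    exact hmem.1 ((QuotientGroup.eq_one_iff _).1 h1)
  have hcs : ∀ i : ℕ, F ^ i * t1 * (F ^ i)⁻¹ = t1 ∨ F ^ i * t1 * (F ^ i)⁻¹ = t * t1 * t⁻¹ :=
    fun i => hcases Y (F ^ i) hY eY (pow_mem f.2 i) Y.2 (hB i)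
  -- `f` commutes with `t1`
  have hFt : Commute F t1 := by
    rcases hcs 1 with h1 | h1
    · rw [pow_one] at h1
      exact mul_inv_eq_iff_eq_mul.1 h1
    rw [pow_one] at h1
    have h2 : F ^ 2 * t1 * (F ^ 2)⁻¹ = t1 := by
      rcases hcs 2 with h2 | h2
      · exact h2
      exfalso
      rw [← h1, pow_two, show F * F * t1 * (F * F)⁻¹ = F * (F * t1 * F⁻¹) * F⁻¹ by group,
        mul_left_inj, mul_right_inj, h1] at h2
      exact hne (mul_inv_eq_iff_eq_mul.1 h2).symm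
    have hco2 : Nat.Coprime 2 (orderOf F) :=
      (Nat.coprime_two_left.2 hmo).coprime_dvd_right
        (orderOf_dvd_of_pow_eq_one (by rw [hF, ← SubmonoidClass.coe_pow, hfo]; rfl))
    obtain ⟨j, hj⟩ := exists_pow_eq_self_of_coprime hco2
    rw [← hj]
    exact Commute.pow_left (mul_inv_eq_iff_eq_mul.1 h2) j
  -- the conjugate of `Y'` is one of the six
  set g := F * (Y' : (Module.End (ZMod q) V)ˣ) * F⁻¹ with hg
  have hgrot : IsRot β 2 g := hY'.conj (hΓ F f.2)
  have hgt : tau 2 g = t1 := by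
    rw [show tau 2 g = F * tau 2 (Y' : (Module.End (ZMod q) V)ˣ) * F⁻¹ from conj_pow .., eY',
      hFt.eq, mul_inv_cancel_right]
  have hP : ∀ {w : (Module.End (ZMod q) V)ˣ}, IsRot β 2 w → tau 2 w = t1 →
      Pres (plane 2 (Y : (Module.End (ZMod q) V)ˣ)) w ∧
        ∀ x ∈ plane 2 (Y : (Module.End (ZMod q) V)ˣ), w • w • x = -x := by
    intro w hw hwt
    rw [plane_eq_of_tau (eY.trans hwt.symm)]
    exact ⟨fun x hx => hw.smul_mem hx, fun x hx => by
      rw [← mul_smul, ← tau_two]; exact mem_plane.1 hx⟩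
  obtain ⟨c, hc3, hgc⟩ := (nine_plane G hY).exists_eq (hP hY eY).1 (hP hY' eY').1 (hP hgrot hgt).1
    (hP hY eY).2 (hP hY' eY').2 (hP hYY' eYY').2 (hP hgrot hgt).2
  obtain ⟨hcrot, hct⟩ : IsRot β 2 c ∧ tau 2 c = t1 := by
    rcases hc3 with rfl | rfl | rfl
    exacts [⟨hY, eY⟩, ⟨hY', eY'⟩, ⟨hYY', eYY'⟩]
  have hgeq : g = c ∨ g = c⁻¹ := by
    have hFx : ∀ (w : (Module.End (ZMod q) V)ˣ), IsRot β 2 w → tau 2 w = t1 → ∀ v,
        tau 2 (Y : (Module.End (ZMod q) V)ˣ) • v = v → w • v = v := fun w hw hwt v hv =>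
      hw.fix v (by rw [hwt, ← eY]; exact hv)
    have hext : ∀ w : (Module.End (ZMod q) V)ˣ, IsRot β 2 w → tau 2 w = t1 →
        (∀ x ∈ plane 2 (Y : (Module.End (ZMod q) V)ˣ), g • x = w • x) → g = w := by
      intro w hw hwt h
      refine Units.ext (LinearMap.ext fun v => ?_)
      show g • v = w • v
      obtain ⟨p, hp, v', hv', rfl⟩ := hY.decomp G v
      rw [smul_add, smul_add, h p hp, hFx g hgrot hgt v' hv', hFx w hw hwt v' hv']
    rcases hgc with h | h
    · exact Or.inl (hext c hcrot hct h)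
    · refine Or.inr (hext c⁻¹ (isRot_inv G hcrot).1 ((isRot_inv G hcrot).2.trans hct) fun x hx => ?_)
      rw [h x hx, eq_inv_smul_iff, smul_neg, (hP hcrot hct).2 x hx, neg_neg]
  -- in the quotient
  have hsq : ∀ w : Γ, tau 2 (w : (Module.End (ZMod q) V)ˣ) = t1 → π w * π w = 1 := fun w hw => by
    rw [← map_mul]
    refine (QuotientGroup.eq_one_iff _).2 (hmem.2 ?_)
    rw [Subgroup.coe_mul, ← tau_two, hw]
    exact ht1U
  have hgq : π f * π Y' * (π f)⁻¹ = π Y ∨ π f * π Y' * (π f)⁻¹ = π Y' ∨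
      π f * π Y' * (π f)⁻¹ = π Y * π Y' := by
    have hinv : ∀ w : Γ, tau 2 (w : (Module.End (ZMod q) V)ˣ) = t1 →
        (g = (w : (Module.End (ZMod q) V)ˣ) ∨ g = (w : (Module.End (ZMod q) V)ˣ)⁻¹) →
        π f * π Y' * (π f)⁻¹ = π w := by
      intro w hw h
      rw [← map_inv, ← map_mul, ← map_mul]
      rcases h with h | h
      · exact congrArg π (Subtype.ext h)
      · rw [show f * Y' * f⁻¹ = w⁻¹ from Subtype.ext h, map_inv, inv_eq_of_mul_eq_one_left (hsq w hw)]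
    rcases hc3 with rfl | rfl | rfl
    · exact Or.inl (hinv Y eY hgeq)
    · exact Or.inr (Or.inl (hinv Y' eY' hgeq))
    · exact Or.inr (Or.inr (by rw [← map_mul]; exact hinv (Y * Y') eYY' hgeq))
  rcases hgq with h | h | h
  · exfalso
    have h' : π Y' = π Y := by
      calc π Y' = (π f)⁻¹ * (π f * π Y' * (π f)⁻¹) * π f := by group
        _ = π Y := by rw [h, mul_assoc, ← hfY.eq, inv_mul_cancel_left]
    have h1 : (Y * Y' : Γ) ∈ (pCore 2 Γ) := (QuotientGroup.eq_one_iff _).1 (by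
      show π (Y * Y') = 1
      rw [map_mul, h', hsq Y eY])
    exact not_mem_normal G hU hUi hz hzU hne hYY' eYY' (hmem.1 h1)
  · exact mul_inv_eq_iff_eq_mul.1 h
  · have h2 : Commute (π f ^ 2) (π Y') := by
      refine mul_inv_eq_iff_eq_mul.1 ?_
      rw [pow_two, show π f * π f * π Y' * (π f * π f)⁻¹ =
        π f * (π f * π Y' * (π f)⁻¹) * (π f)⁻¹ by group, h,
        show π f * (π Y * π Y') * (π f)⁻¹ = (π f * π Y * (π f)⁻¹) * (π f * π Y' * (π f)⁻¹) by group,
        hfY.eq, mul_inv_cancel_right, h, ← mul_assoc, hsq Y eY, one_mul]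
    have hco2 : Nat.Coprime 2 (orderOf (π f)) :=
      (Nat.coprime_two_left.2 hmo).coprime_dvd_right
        ((orderOf_map_dvd π f).trans (orderOf_dvd_of_pow_eq_one hfo))
    obtain ⟨j, hj⟩ := exists_pow_eq_self_of_coprime hco2
    rw [← hj]
    exact h2.pow_left j

/-- In a solvable group of isometries the involution of a quaternion group of rotations commutes
with the involution of a rotation in a normal 2-group. -/
theorem tau_commute_of_quaternion (G : Geo (q := q) β 2)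
    {Γ : Subgroup (Module.End (ZMod q) V)ˣ} (hsolv : Group.IsSolvable Γ)
    (hΓ : ∀ g ∈ Γ, Plane.Iso β g) {O : Subgroup (Module.End (ZMod q) V)ˣ} (hO : IsPGroup 2 O)
    (hOΓ : O ≤ Γ) (hOn : ∀ g ∈ Γ, Conj g O) {y1 y2 z : (Module.End (ZMod q) V)ˣ}
    (hy1 : IsRot β 2 y1) (hy2 : IsRot β 2 y2) (hy12 : IsRot β 2 (y1 * y2))
    (he2 : tau 2 y2 = tau 2 y1) (he12 : tau 2 (y1 * y2) = tau 2 y1)
    (h1Γ : y1 ∈ Γ) (h2Γ : y2 ∈ Γ) (hz : IsRot β 2 z) (hzΓ : z ∈ Γ)
    (ht1 : tau 2 y1 ∈ O) (ht : tau 2 z ∈ O) : Commute (tau 2 y1) (tau 2 z) := by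
  classical
  haveI : Fact (Nat.Prime 2) := ⟨Nat.prime_two⟩
  haveI := hsolv
  by_contra hne
  set O' := pCore 2 Γ with hO'
  haveI hO'n : O'.Normal := PCore.pCore_normal
  set U := O'.map Γ.subtype with hUdef
  have hU : IsPGroup 2 U := (PCore.isPGroup_pCore (p := 2) (G := Γ)).map _
  have hUΓ : U ≤ Γ := map_subtype_le _
  have hUi : ∀ g ∈ U, Plane.Iso β g := fun g hg => hΓ g (hUΓ hg)
  have hconj : ∀ g ∈ Γ, Conj g U := by
    rintro g hg _ ⟨w, hw, rfl⟩
    exact ⟨⟨g, hg⟩ * w * ⟨g, hg⟩⁻¹, hO'n.conj_mem w hw _, rfl⟩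
  have hOU : O ≤ U := by
    haveI hn : (O.subgroupOf Γ).Normal := ⟨fun w hw g => hOn g g.2 _ hw⟩
    have := PCore.le_pCore (hN := hn) hO.comap_subtype
    exact fun w hw => ⟨⟨w, hOΓ hw⟩, this hw, rfl⟩
  set t1 := tau 2 y1 with ht1d
  set t := tau 2 z with htd
  have hmem : ∀ {w : Γ}, w ∈ O' ↔ (w : (Module.End (ZMod q) V)ˣ) ∈ U := fun {w} =>
    ⟨fun h => ⟨w, h, rfl⟩, fun ⟨w', h', e⟩ => Subtype.ext e ▸ h'⟩
  have hzU := hconj z hzΓ
  have hnU : ∀ Y, IsRot β 2 Y → tau 2 Y = t1 → Y ∉ U := fun Y hY hYt =>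
    not_mem_normal G hU hUi hz hzU hne hY hYt
  set π := QuotientGroup.mk' O' with hπ
  have main : ∀ Y Y' : Γ, IsRot β 2 (Y : (Module.End (ZMod q) V)ˣ) →
      IsRot β 2 (Y' : (Module.End (ZMod q) V)ˣ) →
      IsRot β 2 ((Y : (Module.End (ZMod q) V)ˣ) * (Y' : (Module.End (ZMod q) V)ˣ)) →
      tau 2 (Y : (Module.End (ZMod q) V)ˣ) = t1 → tau 2 (Y' : (Module.End (ZMod q) V)ˣ) = t1 →
      tau 2 ((Y : (Module.End (ZMod q) V)ˣ) * (Y' : (Module.End (ZMod q) V)ˣ)) = t1 →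
      ∀ u : Γ ⧸ O', Odd (orderOf u) → Commute u (π Y) → Commute u (π Y') :=
    odd_commute_step G hΓ hz hzΓ (hOU ht) (hOU ht1) hne
  -- the four group of the quotient
  set Y1 : Γ := ⟨y1, h1Γ⟩ with hY1
  set Y2 : Γ := ⟨y2, h2Γ⟩ with hY2
  set a := π Y1 with ha
  set b := π Y2 with hb
  have hkill : ∀ w : Γ, tau 2 (w : (Module.End (ZMod q) V)ˣ) = t1 → π w * π w = 1 := fun w hw => by
    rw [← map_mul]
    refine (QuotientGroup.eq_one_iff _).2 (hmem.2 ?_)
    rw [Subgroup.coe_mul, ← tau_two, hw]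
    exact hOU ht1
  have ha2 : a * a = 1 := hkill Y1 rfl
  have hb2 : b * b = 1 := hkill Y2 he2
  have hab2 : a * b * (a * b) = 1 := by rw [ha, hb, ← map_mul]; exact hkill (Y1 * Y2) he12
  have hba : b * a = a * b := by
    calc b * a = (a * a) * (b * a) * (b * b) := by rw [ha2, hb2, one_mul, mul_one]
      _ = a * (a * b * (a * b)) * b := by group
      _ = a * b := by rw [hab2, mul_one]
  have hne1 : ∀ w : Γ, IsRot β 2 (w : (Module.End (ZMod q) V)ˣ) →
      tau 2 (w : (Module.End (ZMod q) V)ˣ) = t1 → π w ≠ 1 := fun w hw hwt h =>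
    hnU _ hw hwt (hmem.1 ((QuotientGroup.eq_one_iff w).1 h))
  have ha1 : a ≠ 1 := hne1 Y1 hy1 rfl
  have hb1 : b ≠ 1 := hne1 Y2 hy2 he2
  have hab1 : a * b ≠ 1 := by rw [ha, hb, ← map_mul]; exact hne1 (Y1 * Y2) hy12 he12
  let A : Subgroup (Γ ⧸ O') :=
    { carrier := {w | w = 1 ∨ w = a ∨ w = b ∨ w = a * b}
      one_mem' := Or.inl rfl
      mul_mem' := by
        have e1 : a * (a * b) = b := by rw [← mul_assoc, ha2, one_mul]
        have e2 : b * (a * b) = a := by rw [← hba, ← mul_assoc, hb2, one_mul]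
        have e3 : a * b * a = b := by rw [mul_assoc, hba, e1]
        have e4 : a * b * b = a := by rw [mul_assoc, hb2, mul_one]
        intro w w' hw hw'
        simp only [Set.mem_setOf_eq] at hw hw' ⊢
        rcases hw with rfl | rfl | rfl | rfl <;> rcases hw' with rfl | rfl | rfl | rfl <;>
          simp only [one_mul, mul_one, ha2, hb2, hab2, hba, e1, e2, e3, e4, true_or, or_true]
      inv_mem' := fun {w} hw => by
        simp only [Set.mem_setOf_eq] at hw ⊢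
        rcases hw with rfl | rfl | rfl | rfl
        · rw [inv_one]; exact Or.inl rfl
        · exact Or.inr (Or.inl (inv_eq_of_mul_eq_one_left ha2))
        · exact Or.inr (Or.inr (Or.inl (inv_eq_of_mul_eq_one_left hb2)))
        · exact Or.inr (Or.inr (Or.inr (inv_eq_of_mul_eq_one_left hab2))) }
  have hAsq : ∀ w : A, w * w = 1 := fun w => Subtype.ext (by
    rcases w.2 with h | h | h | h <;> rw [Subgroup.coe_mul, h]
    exacts [one_mul 1, ha2, hb2, hab2])
  haveI hAc : IsMulCommutative A := ⟨⟨fun u w => by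
    have hinv : ∀ u : A, u⁻¹ = u := fun u => inv_eq_of_mul_eq_one_left (hAsq u)
    calc u * w = (u * w)⁻¹ := (hinv _).symm
      _ = w * u := by rw [mul_inv_rev, hinv, hinv]⟩⟩
  have hA2 : IsPGroup 2 A := fun w => ⟨1, by rw [pow_one, pow_two, hAsq]⟩
  have hnc : ¬ IsCyclic A := by
    intro hcyc
    obtain ⟨g, hg⟩ := hcyc.exists_generator
    have two : ∀ w : A, w = 1 ∨ w = g := fun w => by
      obtain ⟨i, rfl⟩ := mem_zpowers_iff.1 (hg w)
      have h2 : g ^ (2 : ℤ) = 1 := by rw [zpow_two, hAsq]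
      rcases Int.even_or_odd i with ⟨j, rfl⟩ | ⟨j, rfl⟩
      · exact Or.inl (by rw [← two_mul, zpow_mul, h2, one_zpow])
      · exact Or.inr (by rw [zpow_add, zpow_mul, h2, one_zpow, one_mul, zpow_one])
    have h1 := (two ⟨a, Or.inr (Or.inl rfl)⟩).resolve_left fun h => ha1 (congrArg Subtype.val h)
    have h2 := (two ⟨b, Or.inr (Or.inr (Or.inl rfl))⟩).resolve_left fun h => hb1 (congrArg Subtype.val h)
    refine hab1 ?_
    rw [show b = a from congrArg Subtype.val (h2.trans h1.symm), ha2]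
  set Ft := fittingSubgroup (Γ ⧸ O') with hFt
  haveI hFn : Ft.Normal := Components.fittingSubgroup_normal _
  have hbot : pCore 2 (Γ ⧸ O') = ⊥ := PCore.pCore_quotient_self_eq_bot
  have hodd : Odd (Nat.card Ft) := by
    rw [Nat.odd_iff]
    by_contra hc
    obtain ⟨w, hw⟩ := exists_prime_orderOf_dvd_card' 2 (G := Ft) (Nat.dvd_of_mod_eq_zero (by omega))
    have := Subnormal.mem_pCore_of_mem_fittingSubgroup (k := 1) (p := 2) w.2 (by
      rw [pow_one, ← SubmonoidClass.coe_pow, ← hw, pow_orderOf_eq_one]; rfl)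
    rw [hbot, mem_bot] at this
    rw [show w = 1 from Subtype.ext this, orderOf_one] at hw
    omega
  have hcop : (Nat.card A).Coprime (Nat.card Ft) := by
    obtain ⟨n, hn⟩ := hA2.exists_card_eq
    rw [hn]
    exact (Nat.coprime_two_left.2 hodd).pow_left n
  have hle : Ft ≤ centralizer ({a} : Set (Γ ⧸ O')) := by
    rw [← Coprime.iSup_centralizer_eq hnc (fun w _ => by rw [normalizer_eq_top]; exact mem_top w) hcop]
    refine iSup₂_le fun w hw u hu => mem_centralizer_singleton_iff.2 ?_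
    have huo : Odd (orderOf u) := by
      refine Odd.of_dvd_nat hodd ?_
      rw [← orderOf_mk u hu.1]
      exact orderOf_dvd_natCard _
    have huw : Commute u w := mem_centralizer_singleton_iff.1 hu.2
    obtain ⟨hw1, hw'⟩ := hw
    rcases hw1 with rfl | rfl | rfl | rfl
    · exact absurd rfl hw'
    · exact huw.eq
    · have h21 : IsRot β 2 (y2 * y1) ∧ tau 2 (y2 * y1) = t1 := by
        have e : y2 * y1 = y1⁻¹ * (y1 * y2) * y1⁻¹⁻¹ := by group
        rw [e]
        refine ⟨hy12.conj hy1.iso.inv, ?_⟩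
        rw [show tau 2 (y1⁻¹ * (y1 * y2) * y1⁻¹⁻¹) = y1⁻¹ * tau 2 (y1 * y2) * y1⁻¹⁻¹ from conj_pow ..,
          he12, show y1⁻¹ * t1 = t1 * y1⁻¹ from ((Commute.self_pow y1 _).inv_left).eq,
          mul_inv_cancel_right]
      exact (main Y2 Y1 hy2 hy1 h21.1 he2 rfl h21.2 u huo huw).eq
    · have h3 : IsRot β 2 (y1 * y2 * y2) ∧ tau 2 (y1 * y2 * y2) = t1 := by
        have e : y1 * y2 * y2 = y1⁻¹ := by
          rw [mul_assoc, ← tau_two, he2, ht1d, tau_two, eq_inv_iff_mul_eq_one]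
          rw [show y1 * (y1 * y1) * y1 = y1 ^ 2 ^ 2 by
            rw [show (2 : ℕ) ^ 2 = 1 + 1 + 1 + 1 from rfl, pow_add, pow_add, pow_add, pow_one]; group,
            hy1.pow]
        rw [e]
        exact isRot_inv G hy1
      have h4 : Commute u b := main (Y1 * Y2) Y2 hy12 hy2 h3.1 he12 he2 h3.2 u huo (by
        rw [map_mul]; exact huw)
      have h5 := huw.mul_right h4
      rw [mul_assoc, hb2, mul_one] at h5
      exact h5.eq
  -- contradiction
  have haF : a ∈ centralizer (Ft : Set (Γ ⧸ O')) :=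
    mem_centralizer_iff.2 fun u hu => mem_centralizer_singleton_iff.1 (hle hu)
  have := Subnormal.mem_pCore_of_mem_fittingSubgroup (k := 1) (p := 2)
    (Components.centralizer_fittingSubgroup_le haF) (by rw [pow_one, pow_two, ha2])
  rw [hbot, mem_bot] at this
  exact ha1 this

end Cfsg.Agent.TwoLengthDerived
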