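import Cfsg.Agent.Lib.TwoLengthDerived.Chain
import Cfsg.Agent.Lib.TwoLengthDerived.Twisted
import Mathlib.GroupTheory.Nilpotent

/-!
# Restriction to an invariant non-degenerate subspace

The elements trivial on an invariant non-degenerate subspace `V₁` commute with the representatives
of its classes; their fixed space carries the data of `V₁`, with the operators acting faithfully.
-/

set_option autoImplicit false
set_option linter.unusedSectionVars false
set_option linter.style.haveILetI false

namespace Cfsg.Agent.TwoLengthDerived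

open Subgroup

/-- A 2-group in characteristic two fixes a non-zero vector. -/
theorem exists_fixed_two {K W H : Type*} [Field K] [CharP K 2] [AddCommGroup W] [Module K W]
    [Nontrivial W] [Group H] [Finite H] (S : H →* Module.End K W) :
    ∀ P : Subgroup H, IsPGroup 2 P → ∃ w : W, w ≠ 0 ∧ ∀ h ∈ P, S h w = w := by
  haveI : Fact (Nat.Prime 2) := ⟨Nat.prime_two⟩
  intro P
  induction hn : Nat.card P using Nat.strong_induction_on generalizing P with
  | _ n ih =>
  subst hn
  intro hP
  haveI : Group.IsNilpotent P := hP.isNilpotent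
  rcases eq_or_ne P ⊥ with rfl | hne
  · obtain ⟨w, hw⟩ := exists_ne (0 : W)
    exact ⟨w, hw, fun h hh => by rw [mem_bot.1 hh, map_one, Module.End.one_apply]⟩
  haveI : Nontrivial P := (nontrivial_iff_ne_bot P).2 hne
  obtain ⟨M, hM, -⟩ := (eq_top_or_exists_le_coatom (⊥ : Subgroup P)).resolve_left bot_ne_top
  haveI hMn : M.Normal := Subgroup.NormalizerCondition.normal_of_coatom _
    Group.normalizerCondition_of_isNilpotent hM
  set M' := M.map P.subtype with hM'
  have hlt : Nat.card M' < Nat.card P := by
    rw [hM', card_map_of_injective P.subtype_injective]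
    exact lt_of_le_of_ne (card_le_card_group M) fun h => hM.1 (eq_top_of_card_eq M h)
  obtain ⟨w, hw0, hw⟩ := ih _ hlt M' rfl (hP.to_le (map_subtype_le M))
  obtain ⟨x, hx⟩ : ∃ x : P, x ∉ M := by
    by_contra hcon
    push Not at hcon
    exact hM.1 (eq_top_iff.2 fun x _ => hcon x)
  obtain ⟨m, hm⟩ := hP x
  set N := S (x : H) - 1 with hN
  have hnil : N ^ 2 ^ m = 0 := by
    haveI : CharP (Module.End K W) 2 :=
      charP_of_injective_algebraMap (algebraMap K (Module.End K W)).injective 2
    rw [hN, sub_pow_char_pow_of_commute _ _ (Commute.one_right _), one_pow, ← map_pow,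
      show (x : H) ^ 2 ^ m = 1 from congrArg Subtype.val hm, map_one, sub_self]
  let F : Submodule K W :=
    { carrier := {v | ∀ h ∈ M', S h v = v}
      zero_mem' := fun h _ => map_zero _
      add_mem' := fun {a b} ha hb h hh => by rw [map_add, ha h hh, hb h hh]
      smul_mem' := fun c a ha h hh => by rw [map_smul, ha h hh] }
  have hinv : ∀ v ∈ F, N v ∈ F := by
    intro v hv h hh
    rw [hN, LinearMap.sub_apply, Module.End.one_apply, map_sub, hv h hh]
    congr 1
    obtain ⟨h0, hh0, rfl⟩ := hh
    have hc : ((x⁻¹ * h0 * x : P) : H) ∈ M' :=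
      ⟨_, by simpa using hMn.conj_mem h0 hh0 x⁻¹, rfl⟩
    rw [← Module.End.mul_apply, ← map_mul,
      show (P.subtype h0) * (x : H) = (x : H) * ((x⁻¹ * h0 * x : P) : H) by
        simp [mul_assoc], map_mul, Module.End.mul_apply, hv _ hc]
  have hall : ∀ j, (N ^ j) w ∈ F := by
    intro j
    induction j with
    | zero => rw [pow_zero, Module.End.one_apply]; exact hw
    | succ j ihj => rw [pow_succ', Module.End.mul_apply]; exact hinv _ ihj
  classical
  have hex : ∃ j, (N ^ j) w = 0 := ⟨2 ^ m, by rw [hnil, LinearMap.zero_apply]⟩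
  obtain ⟨j, hj⟩ : ∃ j, Nat.find hex = j + 1 := ⟨Nat.find hex - 1, by
    have : Nat.find hex ≠ 0 := fun h => hw0 (by simpa [h] using Nat.find_spec hex)
    omega⟩
  refine ⟨(N ^ j) w, Nat.find_min hex (by omega), ?_⟩
  let T : Subgroup P :=
    { carrier := {h | S (h : H) ((N ^ j) w) = (N ^ j) w}
      one_mem' := by
        show S ((1 : P) : H) ((N ^ j) w) = _
        rw [OneMemClass.coe_one, map_one, Module.End.one_apply]
      mul_mem' := fun {a b} ha hb => by
        show S ((a * b : P) : H) ((N ^ j) w) = _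
        rw [Subgroup.coe_mul, map_mul, Module.End.mul_apply, hb, ha]
      inv_mem' := fun {a} ha => by
        show S ((a⁻¹ : P) : H) ((N ^ j) w) = _
        conv_lhs => rw [← show S (a : H) ((N ^ j) w) = (N ^ j) w from ha]
        rw [← Module.End.mul_apply, ← map_mul, InvMemClass.coe_inv, inv_mul_cancel, map_one,
          Module.End.one_apply] }
  have hxT : x ∈ T := by
    have h0 := Nat.find_spec hex
    rw [hj, pow_succ', Module.End.mul_apply, hN, LinearMap.sub_apply, Module.End.one_apply,
      sub_eq_zero] at h0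
    exact h0
  have hMT : M ≤ T := fun h hh => hall j _ ⟨h, hh, rfl⟩
  have hTtop : T = ⊤ := hM.2 T (lt_of_le_of_ne hMT fun e => hx (e ▸ hxT))
  exact fun h hh => (hTtop.ge (mem_top (⟨h, hh⟩ : P)) : _)

variable {q : ℕ} [Fact q.Prime] {K W Q H V : Type*} [Field K] [CharP K 2] [AddCommGroup W]
  [Module K W] [Nontrivial W] [Group Q] [Finite Q] [Group H] [Finite H] [AddCommGroup V]
  [Module (ZMod q) V] [Finite V] (D : Twist q K W Q H V)

namespace Twist

variable (V1 : Submodule (ZMod q) V)

/-- The elements with class in `V₁`. -/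
def preimage : Subgroup Q where
  carrier := {g | D.cls g ∈ V1}
  one_mem' := show D.cls 1 ∈ V1 by rw [D.cls_one]; exact zero_mem _
  mul_mem' := fun {a b} (ha : D.cls a ∈ V1) (hb : D.cls b ∈ V1) => show D.cls (a * b) ∈ V1 by
    rw [D.cls_mul]; exact add_mem ha hb
  inv_mem' := fun {a} (ha : D.cls a ∈ V1) => show D.cls a⁻¹ ∈ V1 by
    rw [D.cls_inv]; exact neg_mem ha

/-- The operators trivial on `V₁`. -/
def fixer : Subgroup H where
  carrier := {h | ∀ v ∈ V1, D.act h • v = v}
  one_mem' := fun v _ => by rw [map_one, one_smul]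
  mul_mem' := fun {a b} ha hb v hv => by rw [map_mul, mul_smul, hb v hv, ha v hv]
  inv_mem' := fun {a} ha v hv => by rw [map_inv, inv_smul_eq_iff, ha v hv]

/-- Their fixed space. -/
def fixedSpace : Submodule K W where
  carrier := {w | ∀ h ∈ D.fixer V1, D.S h w = w}
  zero_mem' := fun _ _ => map_zero _
  add_mem' := fun {a b} ha hb h hh => by rw [map_add, ha h hh, hb h hh]
  smul_mem' := fun c a ha h hh => by rw [map_smul, ha h hh]

theorem nontrivial_fixedSpace : Nontrivial (D.fixedSpace V1) := by
  obtain ⟨w, hw0, hw⟩ := exists_fixed_two D.S (D.fixer V1) (D.twoH.to_subgroup _)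
  exact ⟨⟨⟨w, hw⟩, 0, fun e => hw0 (congrArg Subtype.val e)⟩⟩

theorem pi_mem {g : Q} (hg : g ∈ D.preimage V1) {w : W} (hw : w ∈ D.fixedSpace V1) :
    D.π g w ∈ D.fixedSpace V1 := fun h hh => by
  rw [← Module.End.mul_apply, ← (D.comm_of_fix (hh _ hg)).eq, Module.End.mul_apply, hw h hh]

variable (hinv : ∀ h : H, ∀ v ∈ V1, D.act h • v ∈ V1)
include hinv

theorem S_mem (h : H) {w : W} (hw : w ∈ D.fixedSpace V1) : D.S h w ∈ D.fixedSpace V1 := fun f hf => by
  have hc : h⁻¹ * f * h ∈ D.fixer V1 := fun v hv => by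
    rw [map_mul, map_mul, mul_smul, mul_smul, hf _ (hinv h v hv), map_inv, inv_smul_smul]
  rw [← Module.End.mul_apply, ← map_mul, show f * h = h * (h⁻¹ * f * h) by group, map_mul,
    Module.End.mul_apply, hw _ hc]

theorem phi_mem (h : H) {g : Q} (hg : g ∈ D.preimage V1) : D.φ h g ∈ D.preimage V1 :=
  show D.cls (D.φ h g) ∈ V1 from D.act_cls h g ▸ hinv h _ hg

/-- The data of `V₁`. -/
noncomputable def restrict (hnd : ∀ x ∈ V1, (∀ t ∈ V1, D.β t x = 0) → x = 0) :
    Twist q K (D.fixedSpace V1) (D.preimage V1) H V1 where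
  π :=
    { toFun := fun g => (D.π (g : Q)).restrict fun w hw => D.pi_mem V1 g.2 hw
      map_one' := LinearMap.ext fun w => Subtype.ext (by
        show D.π ((1 : D.preimage V1) : Q) (w : W) = w
        rw [OneMemClass.coe_one, map_one, Module.End.one_apply])
      map_mul' := fun a b => LinearMap.ext fun w => Subtype.ext (by
        show D.π ((a * b : D.preimage V1) : Q) (w : W) = _
        rw [Subgroup.coe_mul, map_mul]; rfl) }
  S :=
    { toFun := fun h => (D.S h).restrict fun w hw => D.S_mem V1 hinv h hw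
      map_one' := LinearMap.ext fun w => Subtype.ext (by
        show D.S 1 (w : W) = w
        rw [map_one, Module.End.one_apply])
      map_mul' := fun a b => LinearMap.ext fun w => Subtype.ext (by
        show D.S (a * b) (w : W) = _
        rw [map_mul]; rfl) }
  φ :=
    { toFun := fun h =>
        { toFun := fun g => ⟨D.φ h g, D.phi_mem V1 hinv h g.2⟩
          invFun := fun g => ⟨D.φ h⁻¹ g, D.phi_mem V1 hinv h⁻¹ g.2⟩
          left_inv := fun g => Subtype.ext (by
            show D.φ h⁻¹ (D.φ h g) = g
            rw [← MulAut.mul_apply, ← map_mul, inv_mul_cancel, map_one, MulAut.one_apply])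
          right_inv := fun g => Subtype.ext (by
            show D.φ h (D.φ h⁻¹ g) = g
            rw [← MulAut.mul_apply, ← map_mul, mul_inv_cancel, map_one, MulAut.one_apply])
          map_mul' := fun a b => Subtype.ext (map_mul (D.φ h) (a : Q) b) }
      map_one' := MulEquiv.ext fun g => Subtype.ext (by
        show D.φ 1 (g : Q) = g
        rw [map_one, MulAut.one_apply])
      map_mul' := fun a b => MulEquiv.ext fun g => Subtype.ext (by
        show D.φ (a * b) (g : Q) = D.φ a (D.φ b g)
        rw [map_mul, MulAut.mul_apply]) }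
  act := MonoidHom.toHomUnits
    { toFun := fun h => ((D.act h : (Module.End (ZMod q) V)ˣ) : Module.End (ZMod q) V).restrict
        fun v hv => hinv h v hv
      map_one' := LinearMap.ext fun v => Subtype.ext (by
        show D.act 1 • (v : V) = v
        rw [map_one, one_smul])
      map_mul' := fun a b => LinearMap.ext fun v => Subtype.ext (by
        show D.act (a * b) • (v : V) = D.act a • D.act b • (v : V)
        rw [map_mul, mul_smul]) }
  cls g := ⟨D.cls g, g.2⟩
  cls_mul a b := Subtype.ext (D.cls_mul a b)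
  cls_surj v := by
    obtain ⟨g, hg⟩ := D.cls_surj v
    exact ⟨⟨g, show D.cls g ∈ V1 from hg ▸ v.2⟩, Subtype.ext hg⟩
  β := AddMonoidHom.mk' (fun x => (D.β (x : V)).comp V1.subtype.toAddMonoidHom)
    fun x x' => AddMonoidHom.ext fun w => by simp
  alt x := D.alt x
  nd x h := Subtype.ext (hnd x x.2 fun t ht => h ⟨t, ht⟩)
  conj g h := LinearMap.ext fun w => Subtype.ext (LinearMap.congr_fun (D.conj g h) (w : W))
  ker g hg := by
    obtain ⟨c, hc⟩ := D.ker g (congrArg Subtype.val hg)
    exact ⟨c, LinearMap.ext fun w => Subtype.ext (LinearMap.congr_fun hc (w : W))⟩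
  twist h g := LinearMap.ext fun w => Subtype.ext (LinearMap.congr_fun (D.twist h g) (w : W))
  act_cls h g := Subtype.ext (D.act_cls h g)
  cen a b := mem_center_iff.2 fun g => Subtype.ext (mem_center_iff.1 (D.cen a b) g)
  ne_two := D.ne_two
  qQ := D.qQ.to_subgroup _
  twoH := D.twoH

variable (hnd : ∀ x ∈ V1, (∀ t ∈ V1, D.β t x = 0) → x = 0)

theorem restrict_act_val (h : H) (v : V1) :
    (((D.restrict V1 hinv hnd).act h • v : V1) : V) = D.act h • (v : V) := rfl

theorem restrict_faithful : (D.restrict V1 hinv hnd).Faithful := fun h hh =>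
  LinearMap.ext fun w => Subtype.ext (w.2 h fun v hv => by
    have := congrArg Subtype.val (DFunLike.congr_fun (congrArg Units.val hh) (⟨v, hv⟩ : V1))
    exact this)

theorem restrict_chain {n : ℕ} (hc : Chain D.S ⊤ ⊤ n) :
    Chain (D.restrict V1 hinv hnd).S ⊤ ⊤ n := by
  have key : ∀ i, (Wsp (D.restrict V1 hinv hnd).S ⊤ ⊤ i).map (D.fixedSpace V1).subtype ≤
      Wsp D.S ⊤ ⊤ i := by
    intro i
    induction i with
    | zero => exact le_top
    | succ i ih =>
      rw [Submodule.map_le_iff_le_comap]
      refine Submodule.span_le.2 ?_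
      rintro _ ⟨g, hg, w, hw, rfl⟩
      exact step_mem (ρ := D.S) hg (ih (Submodule.mem_map_of_mem hw))
  have h := key n
  rw [hc, le_bot_iff] at h
  exact (Submodule.map_injective_of_injective (D.fixedSpace V1).injective_subtype)
    (h.trans (Submodule.map_bot _).symm)

end Twist

end Cfsg.Agent.TwoLengthDerived
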