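import Cfsg.Agent.Lib.TwoLengthDerived.Twisted
import Cfsg.Agent.Lib.TwoLengthDerived.Plane

/-!
# The two spaces of an involutory isometry
-/

set_option autoImplicit false
set_option linter.unusedSectionVars false
set_option linter.style.haveILetI false

namespace Cfsg.Agent.TwoLengthDerived

open FittingHeight (Plane.Iso)
open GrossTwoLength (smul_zmod two_smul_inj)

variable {q : ℕ} [Fact q.Prime] {V : Type*} [AddCommGroup V] [Module (ZMod q) V] [Finite V]
  {C : Type*} [AddCommGroup C] {β : V →+ V →+ C}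

/-- The fixed space. -/
def fixS (U : (Module.End (ZMod q) V)ˣ) : Submodule (ZMod q) V :=
  LinearMap.ker ((U : Module.End (ZMod q) V) - 1)

/-- The negated space. -/
def negS (U : (Module.End (ZMod q) V)ˣ) : Submodule (ZMod q) V :=
  LinearMap.ker ((U : Module.End (ZMod q) V) + 1)

theorem mem_fixS {U : (Module.End (ZMod q) V)ˣ} {x : V} : x ∈ fixS U ↔ U • x = x := by
  rw [fixS, LinearMap.mem_ker, LinearMap.sub_apply, Module.End.one_apply, sub_eq_zero]
  rfl

theorem mem_negS {U : (Module.End (ZMod q) V)ˣ} {x : V} : x ∈ negS U ↔ U • x = -x := by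
  rw [negS, LinearMap.mem_ker, LinearMap.add_apply, Module.End.one_apply, ← eq_neg_iff_add_eq_zero]
  rfl

theorem fixS_mul_of_neg {U z : (Module.End (ZMod q) V)ˣ} (hz : ∀ v : V, z • v = -v) :
    fixS (z * U) = negS U ∧ negS (z * U) = fixS U := by
  constructor <;> refine Submodule.ext fun x => ?_
  · rw [mem_fixS, mem_negS, mul_smul, hz, neg_eq_iff_eq_neg]
  · rw [mem_fixS, mem_negS, mul_smul, hz, neg_inj]

theorem mem_of_commute {U g : (Module.End (ZMod q) V)ˣ} (h : Commute g U) :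
    (∀ x ∈ fixS U, g • x ∈ fixS U) ∧ ∀ x ∈ negS U, g • x ∈ negS U := by
  constructor <;> intro x hx
  · rw [mem_fixS] at hx ⊢
    rw [smul_smul, ← h.eq, mul_smul, hx]
  · rw [mem_negS] at hx ⊢
    rw [smul_smul, ← h.eq, mul_smul, hx, smul_neg]

theorem neg_one_smul' (x : V) : (-1 : (Module.End (ZMod q) V)ˣ) • x = -x := by
  rw [neg_smul_apply, one_smul]

/-- An involutory isometry. -/
structure Invol (β : V →+ V →+ C) (U : (Module.End (ZMod q) V)ˣ) : Prop where
  alt : ∀ x, β x x = 0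
  nd : ∀ x, (∀ v, β v x = 0) → x = 0
  noTwo : ∀ c : C, c + c = 0 → c = 0
  ne_two : q ≠ 2
  iso : Plane.Iso β U
  sq : U * U = 1

namespace Invol

variable {U : (Module.End (ZMod q) V)ˣ} (I : Invol β U)
include I

theorem decomp (v : V) : ∃ a ∈ fixS U, ∃ b ∈ negS U, v = a + b := by
  set c : ZMod q := 2⁻¹
  have h2 : (2 : ZMod q) ≠ 0 := FittingHeight.Plane.two_ne_zero' I.ne_two
  have htt : U • U • v = v := by rw [smul_smul, I.sq, one_smul]
  refine ⟨c • (v + U • v), ?_, c • (v - U • v), ?_, ?_⟩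
  · rw [mem_fixS, smul_zmod, smul_add, htt, add_comm]
  · rw [mem_negS, smul_zmod, smul_sub, htt, ← smul_neg, neg_sub]
  · rw [← smul_add, add_add_sub_cancel, ← two_smul (ZMod q) v, smul_smul, inv_mul_cancel₀ h2,
      one_smul]

theorem orth {a b : V} (ha : a ∈ fixS U) (hb : b ∈ negS U) : β b a = 0 ∧ β a b = 0 := by
  have h := FittingHeight.Plane.orth_of_isometry I.noTwo I.iso (mem_negS.1 hb) (mem_fixS.1 ha)
  exact ⟨h, by rw [FittingHeight.Plane.skew I.alt b a, h, neg_zero]⟩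

theorem disjoint {a : V} (ha : a ∈ fixS U) (ha' : a ∈ negS U) : a = 0 :=
  two_smul_inj I.ne_two (eq_neg_iff_add_eq_zero.1 ((mem_fixS.1 ha).symm.trans (mem_negS.1 ha')))

theorem nondeg_fix : ∀ x ∈ fixS U, (∀ t ∈ fixS U, β t x = 0) → x = 0 := fun x hx h =>
  I.nd x fun v => by
    obtain ⟨a, ha, b, hb, rfl⟩ := I.decomp v
    rw [map_add, AddMonoidHom.add_apply, h a ha, (I.orth hx hb).1, add_zero]

theorem nondeg_neg : ∀ x ∈ negS U, (∀ t ∈ negS U, β t x = 0) → x = 0 := fun x hx h =>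
  I.nd x fun v => by
    obtain ⟨a, ha, b, hb, rfl⟩ := I.decomp v
    rw [map_add, AddMonoidHom.add_apply, h b hb, (I.orth ha hx).2, add_zero]

theorem ext {g h : (Module.End (ZMod q) V)ˣ} (h1 : ∀ x ∈ fixS U, g • x = h • x)
    (h2 : ∀ x ∈ negS U, g • x = h • x) : g = h := by
  refine Units.ext (LinearMap.ext fun v => ?_)
  show g • v = h • v
  obtain ⟨a, ha, b, hb, rfl⟩ := I.decomp v
  rw [smul_add, smul_add, h1 a ha, h2 b hb]

theorem card_eq : Nat.card V = Nat.card (fixS U) * Nat.card (negS U) := by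
  rw [← Nat.card_prod]
  refine (Nat.card_eq_of_bijective (fun p : fixS U × negS U => (p.1 : V) + (p.2 : V)) ⟨?_, ?_⟩).symm
  · rintro ⟨a, b⟩ ⟨a', b'⟩ h
    have h1 : (a : V) - a' = (b' : V) - b := sub_eq_sub_iff_add_eq_add.2 (h.trans (add_comm _ _))
    have h0 := I.disjoint (sub_mem a.2 a'.2) (h1 ▸ sub_mem b'.2 b.2)
    rw [h0, eq_comm, sub_eq_zero] at h1
    rw [sub_eq_zero] at h0
    exact Prod.ext (Subtype.ext h0) (Subtype.ext h1.symm)
  · intro v
    obtain ⟨a, ha, b, hb, rfl⟩ := I.decomp v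
    exact ⟨(⟨a, ha⟩, ⟨b, hb⟩), rfl⟩

end Invol

namespace Nine

variable {T : Submodule (ZMod q) V} (N : Nine β T)
include N

theorem q_three : q = 3 := q_eq_three N

/-- Commutators of two-power isometries are signs. -/
theorem commutator_sign {g h : (Module.End (ZMod q) V)ˣ} (hg : Plane.Iso β g) (hh : Plane.Iso β h)
    (hgT : Pres T g) (hhT : Pres T h) (hgT' : Pres T g⁻¹) (hhT' : Pres T h⁻¹) {n m l : ℕ}
    (hn : g ^ 2 ^ n = 1) (hm : h ^ 2 ^ m = 1) (hl : (g * h) ^ 2 ^ l = 1) :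
    (∀ x ∈ T, (g * h * g⁻¹ * h⁻¹) • x = x) ∨ ∀ x ∈ T, (g * h * g⁻¹ * h⁻¹) • x = -x := by
  have hinv : ∀ w : (Module.End (ZMod q) V)ˣ, Pres T w → (∀ x ∈ T, w • w • x = -x) →
      ∀ x ∈ T, w⁻¹ • x = -(w • x) := fun w _ hw x hx => by
    rw [inv_smul_eq_iff, smul_neg, hw x hx, neg_neg]
  rcases N.comm_or hg hh hgT hhT hn hm hl with hc | ⟨h1, h2, h3⟩
  · left
    intro x hx
    simp only [mul_smul]
    rw [hc _ (hgT' _ (hhT' x hx)), smul_inv_smul, smul_inv_smul]
  · right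
    intro x hx
    simp only [mul_smul]
    rw [hinv h hhT h2 x hx, smul_neg, hinv g hgT h1 _ (hhT x hx), neg_neg]
    have := h3 x hx
    simpa only [mul_smul] using this

end Nine

end Cfsg.Agent.TwoLengthDerived
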