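import Cfsg.Agent.Lib.TwoLengthDerived.Chain
import Cfsg.Agent.Lib.TwoLengthDerived.Split

/-!
# Operators annihilated along the chain act as signs

With `z = -1` on the space: if `(z-1) (c-1) = 0`, or `(z-1)(b-1)(c-1) = 0` for an involution `b`
commuting with `c`, then `c` is a sign on `V`, resp. on the fixed space of `b`, apart from planes of
order nine.
-/

set_option autoImplicit false
set_option linter.unusedSectionVars false
set_option linter.style.haveILetI false

namespace Cfsg.Agent.TwoLengthDerived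

open scoped commutatorElement

variable {q : ℕ} [Fact q.Prime] {K W Q H V : Type*} [Field K] [CharP K 2] [AddCommGroup W]
  [Module K W] [Nontrivial W] [Group Q] [Finite Q] [Group H] [Finite H] [AddCommGroup V]
  [Module (ZMod q) V] [Finite V]

theorem end_add_self (X : Module.End K W) : X + X = 0 := by
  rw [← two_smul K X, CharTwo.two_eq_zero, zero_smul]

theorem end_neg (X : Module.End K W) : -X = X := neg_eq_of_add_eq_zero_left (end_add_self X)

theorem end_sub (X Y : Module.End K W) : X - Y = X + Y := by rw [sub_eq_add_neg, end_neg]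

namespace Twist

variable (D : Twist q K W Q H V)

/-- An operator fixed by `c` forces `c` to be a sign. -/
theorem signs [Fintype Q] (hF : D.Faithful) {z : H} (hz : ∀ v : V, D.act z • v = -v)
    {A : Submodule (ZMod q) V} (hnd : ∀ x ∈ A, (∀ t ∈ A, D.β t x = 0) → x = 0)
    {Y : Module.End K W} {c : H} (hTc : (D.S z + Y) * D.S c = D.S z + Y)
    (hcA : ∀ x ∈ A, D.act c • x ∈ A) (hY : ∀ u, D.cls u ∈ A → Commute (D.π u + D.π u⁻¹) (D.S z) →
      Commute (D.π u + D.π u⁻¹) Y)
    (havg : ∀ a ∈ A, ∃ w, (∀ u ∈ A, D.e u w = D.e u a) ∧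
      ∀ g, D.cls g ∈ A → D.cls g ≠ a + a → D.avg (w + w) (D.π g * Y) = 0) :
    (∀ x ∈ A, D.act c • x = x) ∨ (∀ x ∈ A, D.act c • x = -x) ∨ (q = 3 ∧ Nat.card A = 9) := by
  by_cases hnine : q = 3 ∧ Nat.card A = 9
  · exact Or.inr (Or.inr hnine)
  have hz2 := D.S_sq hF hz
  have key : ∀ x ∈ A, D.act c • x = x ∨ D.act c • x = -x := by
    intro v hv
    obtain ⟨x, hx, hx1, hx2⟩ := D.exists_inverted hz2 (hz v)
    set y := D.φ c x with hy
    have hcy : D.cls y = D.act c • v := by rw [hy, ← D.act_cls, hx]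
    have hzc : D.S (z * c) = D.S (c * z) := D.S_congr hF (Units.ext (LinearMap.ext fun u => by
      show D.act (z * c) • u = D.act (c * z) • u
      rw [map_mul, map_mul, mul_smul, mul_smul, hz, hz, smul_neg]))
    have hswap : ∀ g, D.π (D.φ z (D.φ c g)) = D.π (D.φ c (D.φ z g)) := fun g => by
      rw [← MulAut.mul_apply, ← map_mul, ← MulAut.mul_apply, ← map_mul]
      exact D.pi_phi_congr hzc rfl
    have hy1 : D.π (D.φ z y) = D.π y⁻¹ := by
      rw [hy, hswap, D.pi_phi_congr rfl hx1, map_inv (D.φ c)]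
    have hy2 : D.π (D.φ z y⁻¹) = D.π y := by
      rw [hy, ← map_inv (D.φ c), hswap, D.pi_phi_congr rfl hx2]
    -- both sums commute with `T`
    have hN : ∀ u : Q, D.cls u ∈ A → D.π (D.φ z u) = D.π u⁻¹ → D.π (D.φ z u⁻¹) = D.π u →
        Commute (D.π u + D.π u⁻¹) (D.S z + Y) := by
      intro u hu h1 h2
      have hSz : Commute (D.π u + D.π u⁻¹) (D.S z) := by
        show _ = D.S z * (D.π u + D.π u⁻¹)
        rw [mul_add, D.twist, D.twist, h1, h2, add_mul, add_comm]
      exact hSz.add_right (hY u hu hSz)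
    have hN1 := hN x (hx ▸ hv) hx1 hx2
    have hN2 := hN y (hcy ▸ hcA v hv) hy1 hy2
    have hc1 : (D.π y + D.π y⁻¹) * D.S c = D.S c * (D.π x + D.π x⁻¹) := by
      rw [mul_add, D.twist, D.twist, add_mul, hy, map_inv (D.φ c)]
    have hT : (D.π y + D.π y⁻¹) * (D.S z + Y) = (D.π x + D.π x⁻¹) * (D.S z + Y) := by
      calc (D.π y + D.π y⁻¹) * (D.S z + Y) = (D.π y + D.π y⁻¹) * (D.S z + Y) * D.S c := by
            rw [mul_assoc, hTc]
        _ = (D.S z + Y) * ((D.π y + D.π y⁻¹) * D.S c) := by rw [hN2.eq, mul_assoc]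
        _ = (D.S z + Y) * (D.π x + D.π x⁻¹) := by rw [hc1, ← mul_assoc, hTc]
        _ = _ := hN1.eq.symm
    have h0 : (D.π x + D.π x⁻¹ + (D.π y + D.π y⁻¹)) * (D.S z + Y) = 0 := by
      rw [add_mul, hT, end_add_self]
    have hcov : ∀ a ∈ A, a + a ≠ v → a + a ≠ -v → a + a ≠ D.act c • v → a + a ≠ -(D.act c • v) →
        D.e (D.act c • v - v) a = 1 ∨ D.e (D.act c • v + v) a = 1 := by
      intro a ha ha1 ha2 ha3 ha4
      obtain ⟨w, hwe, hwY⟩ := havg a ha
      have h4 := D.four hz ⟨hx1, hx2⟩ ⟨hy1, hy2⟩ h0 (w := w) (by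
        rw [add_mul, add_mul, add_mul, D.avg_add, D.avg_add, D.avg_add,
          hwY x (hx ▸ hv) (by rw [hx]; exact ha1.symm),
          hwY x⁻¹ (by rw [D.cls_inv, hx]; exact neg_mem hv) (by rw [D.cls_inv, hx]; exact ha2.symm),
          hwY y (hcy ▸ hcA v hv) (by rw [hcy]; exact ha3.symm),
          hwY y⁻¹ (by rw [D.cls_inv, hcy]; exact neg_mem (hcA v hv))
            (by rw [D.cls_inv, hcy]; exact ha4.symm), add_zero, add_zero])
      rw [hcy, hx, hwe _ (sub_mem (hcA v hv) hv), hwe _ (add_mem (hcA v hv) hv)] at h4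
      exact h4
    rcases D.cover hnd hv (hcA v hv) hcov with h | h | h
    · exact Or.inl h
    · exact Or.inr h
    · exact absurd h hnine
  rcases sign_of_forall D.ne_two key with h | h
  exacts [Or.inl h, Or.inr (Or.inl h)]

/-- The case of the whole space. -/
theorem signs_top (hF : D.Faithful) {z : H} (hz : ∀ v : V, D.act z • v = -v) {c : H}
    (h0 : ∀ w, (D.S z - 1) ((D.S c - 1) w) = 0) :
    (D.act c = 1 ∨ D.act c = D.act z) ∨ (q = 3 ∧ Nat.card V = 9) := by
  haveI := Fintype.ofFinite Q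
  have hTc : (D.S z + 1) * D.S c = D.S z + 1 := by
    have h : (D.S z - 1) * (D.S c - 1) = 0 := LinearMap.ext h0
    rw [end_sub (D.S z) 1, mul_sub, mul_one, sub_eq_zero] at h
    exact h
  rcases D.signs hF hz (A := ⊤) (fun x _ h => D.nd x fun v => h v Submodule.mem_top) hTc
    (fun _ _ => Submodule.mem_top) (fun g _ _ => Commute.one_right _)
    (fun a _ => ⟨a, fun _ _ => rfl, fun g _ hg => by rw [mul_one]; exact D.avg_pi_eq_zero hg⟩)
    with h | h | h
  · exact Or.inl (Or.inl (Units.ext (LinearMap.ext fun v => h v Submodule.mem_top)))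
  · refine Or.inl (Or.inr (Units.ext (LinearMap.ext fun v => ?_)))
    show D.act c • v = D.act z • v
    rw [h v Submodule.mem_top, hz]
  · exact Or.inr ⟨h.1, by rw [← h.2]; exact Nat.card_congr Submodule.topEquiv.toEquiv.symm⟩

/-- The case of an involution. -/
theorem signs_invol (hF : D.Faithful) {z : H} (hz : ∀ v : V, D.act z • v = -v) {b c : H}
    (hb2 : D.act b * D.act b = 1) (hb1 : D.act b ≠ 1) (hbc : Commute (D.act c) (D.act b))
    (h0 : ∀ w, (D.S z - 1) ((D.S b - 1) ((D.S c - 1) w)) = 0) :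
    (∀ x ∈ fixS (D.act b), D.act c • x = x) ∨ (∀ x ∈ fixS (D.act b), D.act c • x = -x) ∨
      (q = 3 ∧ Nat.card (fixS (D.act b)) = 9) := by
  haveI := Fintype.ofFinite Q
  have I : Invol D.β (D.act b) := ⟨D.alt, D.nd, D.noTwo, D.ne_two, D.act_iso b, hb2⟩
  have hzb : ∀ v : V, D.act (z * b) • v = -(D.act b • v) := fun v => by rw [map_mul, mul_smul, hz]
  obtain ⟨a', ha', ha'0⟩ : ∃ a' ∈ negS (D.act b), a' ≠ 0 := by
    by_contra hcon
    push Not at hcon
    refine hb1 (I.ext (fun x hx => ?_) (fun x hx => ?_))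
    · rw [mem_fixS.1 hx, one_smul]
    · rw [hcon x hx, smul_zero, smul_zero]
  have hTc : (D.S z + (D.S (z * b) + D.S b + 1)) * D.S c = D.S z + (D.S (z * b) + D.S b + 1) := by
    have h : (D.S z - 1) * ((D.S b - 1) * (D.S c - 1)) = 0 := LinearMap.ext h0
    rw [end_sub (D.S z) 1, end_sub (D.S b) 1, ← mul_assoc, mul_sub, mul_one, sub_eq_zero] at h
    have e : D.S z + (D.S (z * b) + D.S b + 1) = (D.S z + 1) * (D.S b + 1) := by
      rw [add_mul, mul_add, mul_one, one_mul, map_mul]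
      abel
    rw [e]
    exact h
  refine D.signs hF hz I.nondeg_fix hTc (mem_of_commute hbc).1 (fun u hu hSz => ?_) fun a ha => ?_
  · have hb : ∀ g, D.cls g ∈ fixS (D.act b) → Commute (D.π g) (D.S b) := fun g hg =>
      D.comm_of_fix (mem_fixS.1 hg)
    have hcb := (hb u hu).add_left (hb u⁻¹ (by rw [D.cls_inv]; exact neg_mem hu))
    rw [map_mul]
    exact ((hSz.mul_right hcb).add_right hcb).add_right (Commute.one_right _)
  refine ⟨a + a', fun u hu => ?_, fun g hg hne => ?_⟩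
  · rw [D.e_add_right, D.e_eq_one.2 (I.orth hu ha').2, mul_one]
  have hne' : D.cls g - (a + a' + (a + a')) = D.cls g - (a + a) + -(a' + a') := by abel
  rw [mul_add, mul_add, mul_one, D.avg_add, D.avg_add]
  have e3 : D.avg (a + a' + (a + a')) (D.π g) = 0 := by
    refine D.avg_pi_eq_zero fun e => ha'0 (GrossTwoLength.two_smul_inj D.ne_two ?_)
    refine I.disjoint ?_ (add_mem ha' ha')
    have e' : a' + a' = D.cls g - (a + a) := by rw [e]; abel
    rw [e']
    exact sub_mem hg (add_mem ha ha)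
  have e2 : D.avg (a + a' + (a + a')) (D.π g * D.S b) = 0 := by
    obtain ⟨t, ht, htne⟩ : ∃ t ∈ fixS (D.act b), D.β t (D.cls g - (a + a)) ≠ 0 := by
      by_contra hcon
      push Not at hcon
      exact hne (sub_eq_zero.1 (I.nondeg_fix _ (sub_mem hg (add_mem ha ha)) hcon))
    obtain ⟨g0, rfl⟩ := D.cls_surj t
    refine D.avg_mul_eq_zero (D.comm_of_fix (mem_fixS.1 ht)) fun e => htne (D.e_eq_one.1 ?_)
    rw [hne', D.e_add_right (D.cls g0) _ (-(a' + a')),
      D.e_eq_one.2 (I.orth ht (neg_mem (add_mem ha' ha'))).2, mul_one] at e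
    exact e
  have e1 : D.avg (a + a' + (a + a')) (D.π g * D.S (z * b)) = 0 := by
    obtain ⟨t, ht, htne⟩ : ∃ t ∈ negS (D.act b), D.β t (-(a' + a')) ≠ 0 := by
      by_contra hcon
      push Not at hcon
      exact ha'0 (GrossTwoLength.two_smul_inj D.ne_two
        (neg_eq_zero.1 (I.nondeg_neg _ (neg_mem (add_mem ha' ha')) hcon)))
    obtain ⟨g0, rfl⟩ := D.cls_surj t
    refine D.avg_mul_eq_zero (D.comm_of_fix (by rw [hzb, mem_negS.1 ht, neg_neg])) fun e =>
      htne (D.e_eq_one.1 ?_)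
    rw [hne', D.e_add_right (D.cls g0) _ (-(a' + a')),
      D.e_eq_one.2 (I.orth (sub_mem hg (add_mem ha ha)) ht).1, one_mul] at e
    exact e
  rw [e1, e2, e3, add_zero, add_zero]

end Twist

end Cfsg.Agent.TwoLengthDerived
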